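import Cfsg.Agent.H906.E9C
import Cfsg.Agent.H908.CovFour
import Cfsg.Agent.H906.WtTrace
import Cfsg.Agent.H147.Fpr.Gen
import Cfsg.Agent.H921.M22.Facts2
import Cfsg.Agent.H906.Cover_m3
import Cfsg.Agent.S2036
import Cfsg.Agent.H729.TransFast
import Cfsg.Agent.FastGrp
import Cfsg.Agent.Prune
set_option linter.all false

section
prune_inst 0x7f00000000000000000000000000000000000000000000000000000000000000000000000000000000000000000000000000000000000000000000000000000000000000000000000000000000000000003fffffffffffffffffffffffffffbeffbdffffffff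

-- part: H906/Transf
section
prune_inst 0xfffdfbfffdbbffdfff7ffffffedffdb9bdbfffffdff9cbffe46bff9bdf5b9aabe7ffaf8fe8fafe5ed7e2bc90b87813fffffeffeb6ffc7ffffdfff45ffbee5ff5f7bd0871f79c3e0fbc0fff63f0778e7f000000000000000000000000000000004200000000
set_option linter.all false
open scoped Cfsg.Agent.FastGrp

-- part: H906/T14Lift
section
/-!
# Lifts of elements of `PSL_3(4)` to central extensions

`Two φ` : `φ : L →* T` surjective with central kernel; elements of four-power order of the kernel have order at most two,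
and there is at most one involution in the kernel.
-/

set_option autoImplicit false
set_option linter.unusedSectionVars false

namespace Cfsg.Agent.H906.T14

open Cfsg Cfsg.Geo SL3Par L34
open scoped MatrixGroups commutatorElement Matrix

section abstractL

variable {L T : Type*} [Group L] [Group T]

/-- small centre at the prime two -/
structure Two (φ : L →* T) : Prop where
  surj : Function.Surjective φ
  cen : φ.ker ≤ Subgroup.center L
  four : ∀ z ∈ φ.ker, z ^ 4 = 1 → z ^ 2 = 1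
  uniq : ∀ z ∈ φ.ker, ∀ z' ∈ φ.ker, z ^ 2 = 1 → z' ^ 2 = 1 → z ≠ 1 → z' ≠ 1 → z = z'

variable {φ : L →* T}

lemma Two.comm (h : Two φ) {z : L} (hz : z ∈ φ.ker) (g : L) : z * g = g * z :=
  (Subgroup.mem_center_iff.1 (h.cen hz) g).symm

lemma Two.pow (h : Two φ) {z : L} (hz : z ∈ φ.ker) : ∀ k : ℕ, z ^ 2 ^ k = 1 → z ^ 2 = 1
  | 0, hk => by rw [pow_zero, pow_one] at hk; rw [hk, one_pow]
  | 1, hk => by rwa [pow_one] at hk
  | k + 2, hk => by
    apply h.pow hz (k + 1)
    have h1 := h.four (z ^ 2 ^ k) (φ.ker.pow_mem hz _) (by rw [← pow_mul, ← hk]; congr 1; ring)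
    rw [← h1, ← pow_mul, pow_succ]

/-- an element of two-power order over every element of two-power order -/
lemma exists_two_lift [Finite L] (hs : Function.Surjective φ) {t : T} {k : ℕ} (ht : t ^ 2 ^ k = 1) :
    ∃ g : L, φ g = t ∧ ∃ j : ℕ, g ^ 2 ^ j = 1 := by
  obtain ⟨g, rfl⟩ := hs t
  obtain ⟨j, m, hm, hjm⟩ := Nat.exists_eq_two_pow_mul_odd (n := orderOf g) (orderOf_pos g).ne'
  -- `m` is odd; choose `r` with `r m ≡ 1 mod 2^k`
  have hcop : Nat.Coprime m (2 ^ k) := Nat.Coprime.pow_right k hm.coprime_two_right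
  obtain ⟨a, ha1, ha2⟩ := Nat.chineseRemainder hcop 0 1
  refine ⟨g ^ a, ?_, j, ?_⟩
  · rw [map_pow]
    have h1 : φ g ^ a = φ g ^ 1 := pow_eq_pow_iff_modEq.2 (ha2.of_dvd (orderOf_dvd_of_pow_eq_one ht))
    rw [h1, pow_one]
  · obtain ⟨c, hc⟩ := (Nat.modEq_zero_iff_dvd).1 ha1
    rw [hc, ← pow_mul, ← orderOf_dvd_iff_pow_eq_one, hjm]
    exact ⟨c, by ring⟩

/-- lifts of involutions are conjugate up to kernel elements; squares agree -/
lemma Two.sq_eq (h : Two φ) {g g' : L} (hg : φ g = φ g') (h4 : g ^ 4 = 1) (h4' : g' ^ 4 = 1) : g ^ 2 = g' ^ 2 := by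
  set z := g * g'⁻¹ with hz
  have hzk : z ∈ φ.ker := by rw [MonoidHom.mem_ker, hz, map_mul, map_inv, hg, mul_inv_cancel]
  have hgz : g = z * g' := by rw [hz]; group
  have hc : Commute z g' := h.comm hzk g'
  have h1 : z ^ 4 = 1 := by
    have := hc.mul_pow 4
    rw [← hgz, h4, h4', mul_one] at this
    exact this.symm
  rw [hgz, hc.mul_pow, h.four z hzk h1, one_mul]

lemma Two.comm_sq (h : Two φ) {a b : L} (hab : φ a * φ b = φ b * φ a) (ha : a ^ 2 ∈ φ.ker) :
    ∃ c ∈ φ.ker, a * b = c * (b * a) ∧ c ^ 2 = 1 := by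
  refine ⟨a * b * a⁻¹ * b⁻¹, ?_, by group, ?_⟩
  · rw [MonoidHom.mem_ker, map_mul, map_mul, map_mul, map_inv, map_inv, hab]
    group
  · set c := a * b * a⁻¹ * b⁻¹ with hc
    have hck : c ∈ φ.ker := by
      rw [MonoidHom.mem_ker, hc, map_mul, map_mul, map_mul, map_inv, map_inv, hab]
      group
    have h1 : a * b = c * (b * a) := by rw [hc]; group
    have h2 : a ^ 2 * b = b * a ^ 2 := h.comm ha b
    have h3 : a ^ 2 * b = c ^ 2 * (b * a ^ 2) := by
      have e1 : a * c = c * a := (h.comm hck a).symm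
      calc a ^ 2 * b = a * (a * b) := by rw [pow_two, mul_assoc]
        _ = a * c * (b * a) := by rw [h1, ← mul_assoc]
        _ = c * (a * b) * a := by rw [e1]; simp only [mul_assoc]
        _ = c ^ 2 * (b * a ^ 2) := by rw [h1, pow_two, pow_two]; simp only [mul_assoc]
    rw [h2] at h3
    have h4 : c ^ 2 * (b * a ^ 2) = 1 * (b * a ^ 2) := by rw [← h3, one_mul]
    exact mul_right_cancel h4

end abstractL

section psl

variable {K : Type*} [Field K] [Fintype K] {L : Type*} [Group L] {φ : L →* Matrix.ProjectiveSpecialLinearGroup (Fin 3) K}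

local notation "T" => Matrix.ProjectiveSpecialLinearGroup (Fin 3) K

/-- lifts of involutions have order two -/
theorem Two.sq_one [Finite L] (h : Two φ) (hK : Fintype.card K = 4) {g : L} (hg : φ g ^ 2 = 1) (h4 : g ^ 4 = 1) :
    g ^ 2 = 1 := by
  by_cases hg1 : φ g = 1
  · exact h.four g hg1 h4
  by_contra hζ
  set ζ := g ^ 2 with hζd
  have hζk : ζ ∈ φ.ker := by rw [MonoidHom.mem_ker, hζd, map_pow, hg]
  have hζ2 : ζ ^ 2 = 1 := by rw [hζd, ← pow_mul]; exact h4
  have all : ∀ y : L, φ y ^ 2 = 1 → φ y ≠ 1 → y ^ 4 = 1 → y ^ 2 = ζ := by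
    intro y hy hy1 hy4
    obtain ⟨t, ht⟩ := conj_invol hK hg hg1 hy hy1
    obtain ⟨x, rfl⟩ := h.surj t
    have h1 : φ (x * g * x⁻¹) = φ y := by rw [map_mul, map_mul, map_inv, ht]
    have h2 := h.sq_eq h1 (by rw [conj_pow, h4, mul_one, mul_inv_cancel]) hy4
    rw [← h2, conj_pow, ← hζd, (h.comm hζk x).symm, mul_inv_cancel_right]
  have anti : ∀ a b : L, φ a * φ b = φ b * φ a → φ a ^ 2 = 1 → φ b ^ 2 = 1 → a ^ 2 = ζ → b ^ 2 = ζ →
      φ a * φ b ≠ 1 → a * b = ζ * (b * a) ∧ (a * b) ^ 2 = ζ := by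
    intro a b hab ha hb ha2 hb2 hne
    obtain ⟨c, hck, hc, hc2⟩ := h.comm_sq hab (by rw [ha2]; exact hζk)
    have h1 : (a * b) ^ 2 = c := by
      have e1 : a * ζ = ζ * a := (h.comm hζk a).symm
      calc (a * b) ^ 2 = (a * b) * (a * b) := by rw [pow_two]
        _ = c * (b * a) * (a * b) := by rw [← hc]
        _ = c * (b * (a * a) * b) := by simp only [mul_assoc]
        _ = c * (ζ * (b * b)) := by rw [← pow_two a, ha2, ← h.comm hζk b, mul_assoc]
        _ = c * (ζ * ζ) := by rw [← pow_two b, hb2]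
        _ = c := by rw [← pow_two, hζ2, mul_one]
    have h2 : φ (a * b) ^ 2 = 1 := by
      rw [map_mul]
      have hcm : Commute (φ a) (φ b) := hab
      rw [hcm.mul_pow, ha, hb, mul_one]
    have h3 : (a * b) ^ 4 = 1 := by
      rw [show (4 : ℕ) = 2 * 2 by norm_num, pow_mul, h1, hc2]
    have h4' := all (a * b) h2 (by rw [map_mul]; exact hne) h3
    rw [h4'] at h1
    exact ⟨by rw [h1]; exact hc, h4'⟩
  obtain ⟨w, hw⟩ := exists_w hK
  have k2 := two_zero hK
  -- three commuting involutions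
  have lift : ∀ b c : K, uni 0 b c ≠ 1 → ∃ y : L, φ y = pj K (uni 0 b c) ∧ φ y ^ 2 = 1 ∧ y ^ 2 = ζ := by
    intro b c hne
    have e1 : pj K (uni 0 b c) ^ 2 = 1 := by
      rw [← map_pow, pow_two, uni_mul, add_self hK, add_self hK, add_self hK]
      have : uni (0 : K) 0 (0 + 0 * b) = 1 := by rw [← uni_zero]; congr 1; ring
      rw [this, map_one]
    have e2 : pj K (uni 0 b c) ≠ 1 := by
      intro h0
      apply hne
      have h0' : pj K (uni 0 b c) = pj K (uni 0 0 0) := by rw [h0, uni_zero, map_one]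
      rw [pj_uni_inj h0', uni_zero]
    obtain ⟨y, hy, j, hj⟩ := exists_two_lift h.surj (t := pj K (uni 0 b c)) (k := 1) (by rw [pow_one]; exact e1)
    have hy2 : y ^ 2 ∈ φ.ker := by rw [MonoidHom.mem_ker, map_pow, hy, e1]
    have hy4 : y ^ 4 = 1 := by
      have := h.pow hy2 j (by rw [← pow_mul, mul_comm, pow_mul, hj, one_pow])
      rw [← this, ← pow_mul]
    exact ⟨y, hy, by rw [hy, e1], all y (by rw [hy, e1]) (by rw [hy]; exact e2) hy4⟩
  have une : ∀ b c : K, b ≠ 0 ∨ c ≠ 0 → uni 0 b c ≠ 1 := by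
    intro b c hbc h0
    rw [← uni_zero] at h0
    have e1 := congrFun (congrFun (congrArg Subtype.val h0) 1) 2
    have e2 := congrFun (congrFun (congrArg Subtype.val h0) 0) 2
    simp [uni] at e1 e2
    rcases hbc with h1 | h1
    · exact h1 e1
    · exact h1 e2
  have pne : ∀ b c : K, b ≠ 0 ∨ c ≠ 0 → pj K (uni 0 b c) ≠ 1 := by
    intro b c hbc h0
    apply une b c hbc
    have h0' : pj K (uni 0 b c) = pj K (uni 0 0 0) := by rw [h0, uni_zero, map_one]
    rw [pj_uni_inj h0', uni_zero]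
  have pmul : ∀ b c b' c' : K, pj K (uni 0 b c) * pj K (uni 0 b' c') = pj K (uni 0 (b + b') (c + c')) := by
    intro b c b' c'
    rw [← map_mul, uni_mul]
    congr 2 <;> ring
  have hw0 : w ≠ 0 := by
    rintro rfl
    norm_num at hw
  have hw1 : w + 1 ≠ 0 := by
    intro h0
    have : w ^ 2 = 0 := by linear_combination hw - h0
    exact hw0 (pow_eq_zero_iff (two_ne_zero) |>.1 this)
  obtain ⟨a, fa, fa2, ha⟩ := lift 0 1 (une 0 1 (Or.inr one_ne_zero))
  obtain ⟨b, fb, fb2, hb⟩ := lift 1 0 (une 1 0 (Or.inl one_ne_zero))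
  obtain ⟨d, fd, fd2, hd⟩ := lift 0 w (une 0 w (Or.inr hw0))
  have hcomm : ∀ b c b' c' : K, pj K (uni 0 b c) * pj K (uni 0 b' c') = pj K (uni 0 b' c') * pj K (uni 0 b c) := by
    intro b c b' c'
    rw [pmul, pmul, add_comm b, add_comm c]
  obtain ⟨-, q1⟩ := anti a b (by rw [fa, fb, hcomm]) fa2 fb2 ha hb (by rw [fa, fb, pmul]; exact pne _ _ (Or.inl (by simp)))
  obtain ⟨q2, -⟩ := anti d a (by rw [fa, fd, hcomm]) fd2 fa2 hd ha (by
    rw [fa, fd, pmul]; exact pne _ _ (Or.inr hw1))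
  obtain ⟨q3, -⟩ := anti d b (by rw [fb, fd, hcomm]) fd2 fb2 hd hb (by
    rw [fb, fd, pmul]; exact pne _ _ (Or.inl (by simp)))
  obtain ⟨q4, -⟩ := anti d (a * b) (by rw [map_mul, fa, fb, fd, pmul, hcomm]) fd2 (by
    rw [map_mul, fa, fb, pmul, ← map_pow, pow_two, uni_mul, add_self hK, add_self hK, add_self hK]
    rw [zero_mul, add_zero, uni_zero, map_one]) hd q1 (by
    rw [map_mul, fa, fb, fd, pmul, pmul]
    exact pne _ _ (Or.inl (by simp)))
  apply hζ
  have e2 : d * (a * b) = a * b * d := by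
    calc d * (a * b) = d * a * b := by rw [mul_assoc]
      _ = ζ * (a * (d * b)) := by rw [q2]; simp only [mul_assoc]
      _ = ζ * (a * ζ) * (b * d) := by rw [q3]; simp only [mul_assoc]
      _ = (ζ * ζ) * (a * (b * d)) := by rw [← h.comm hζk a]; simp only [mul_assoc]
      _ = a * b * d := by rw [← pow_two, hζ2, one_mul, mul_assoc]
  rw [e2] at q4
  have e3 : 1 * (a * b * d) = ζ * (a * b * d) := by rw [one_mul]; exact q4
  exact (mul_right_cancel e3).symm

/-- lifts of order two of commuting involutions commute -/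
theorem Two.comm_of [Finite L] (h : Two φ) (hK : Fintype.card K = 4) {a b : L} (hab : φ a * φ b = φ b * φ a)
    (ha : a ^ 2 = 1) (hb : b ^ 2 = 1) : a * b = b * a := by
  obtain ⟨c, hck, hc, hc2⟩ := h.comm_sq hab (by rw [ha]; exact φ.ker.one_mem)
  have h1 : (a * b) ^ 2 = c := by
    calc (a * b) ^ 2 = (a * b) * (a * b) := by rw [pow_two]
      _ = c * (b * a) * (a * b) := by rw [← hc]
      _ = c * (b * (a * a) * b) := by simp only [mul_assoc]
      _ = c := by rw [← pow_two a, ha, mul_one, ← pow_two b, hb, mul_one]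
  have h2 : (a * b) ^ 2 = 1 := by
    apply h.sq_one hK
    · rw [map_mul]
      have hcm : Commute (φ a) (φ b) := hab
      rw [hcm.mul_pow, ← map_pow, ← map_pow, ha, hb, map_one, mul_one]
    · rw [show (4 : ℕ) = 2 * 2 by norm_num, pow_mul, h1, hc2]
  rw [h1] at h2
  rw [hc, h2, one_mul]

/-- involutions lift to elements with square one -/
theorem Two.lift_two [Finite L] (h : Two φ) (hK : Fintype.card K = 4) (t : T) (ht : t ^ 2 = 1) :
    ∃ g : L, φ g = t ∧ g ^ 2 = 1 := by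
  obtain ⟨y, hy, j, hj⟩ := exists_two_lift h.surj (t := t) (k := 1) (by rw [pow_one]; exact ht)
  have hy2 : y ^ 2 ∈ φ.ker := by rw [MonoidHom.mem_ker, map_pow, hy, ht]
  have hy4 : y ^ 4 = 1 := by
    have := h.pow hy2 j (by rw [← pow_mul, mul_comm, pow_mul, hj, one_pow])
    rw [← this, ← pow_mul]
  exact ⟨y, hy, h.sq_one hK (by rw [hy, ht]) hy4⟩

/-- elements of four-power order -/
theorem Two.two_part [Finite L] (h : Two φ) (hK : Fintype.card K = 4) (t : T) (ht : t ^ 4 = 1) :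
    ∃ g : L, φ g = t ∧ g ^ 4 = 1 ∧ IsConj g g⁻¹ := by
  obtain ⟨x, a, b, c, hx⟩ := two_elt hK ht
  obtain ⟨x', rfl⟩ := h.surj x
  have sq : ∀ a b c : K, a * b = 0 → pj K (uni a b c) ^ 2 = 1 := by
    intro a b c hab
    rw [← map_pow, pow_two, uni_mul, add_self hK, add_self hK, add_self hK, hab, add_zero, uni_zero, map_one]
  obtain ⟨u, hu, hu2⟩ := h.lift_two hK (pj K (uni 0 b c)) (sq _ _ _ (zero_mul _))
  obtain ⟨v, hv, hv2⟩ := h.lift_two hK (pj K (uni a 0 0)) (sq _ _ _ (mul_zero _))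
  have hg : φ (u * v) = φ x' * t * (φ x')⁻¹ := by rw [map_mul, hu, hv, ← map_mul, ← uni_split, hx]
  have hinv : u * (u * v) * u⁻¹ = (u * v)⁻¹ := by
    have e1 : u⁻¹ = u := by rw [inv_eq_iff_mul_eq_one, ← pow_two, hu2]
    have e2 : v⁻¹ = v := by rw [inv_eq_iff_mul_eq_one, ← pow_two, hv2]
    rw [mul_inv_rev, e1, e2, ← mul_assoc, ← pow_two, hu2, one_mul]
  have h4 : (u * v) ^ 4 = 1 := by
    -- `(u v)^2` lifts an element of order two and is a two-element
    have e0 : φ (u * v) ^ 4 = 1 := by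
      rw [hg, conj_pow, ht, mul_one, mul_inv_cancel]
    have k1 : (u * v) ^ 4 ∈ φ.ker := by rw [MonoidHom.mem_ker, map_pow, e0]
    -- inverted by `u` and central
    have k2 : ((u * v) ^ 4) ^ 2 = 1 := by
      have e1 : u * (u * v) ^ 4 * u⁻¹ = ((u * v) ^ 4)⁻¹ := by rw [← conj_pow, hinv, inv_pow]
      rw [← h.comm k1 u, mul_inv_cancel_right] at e1
      rw [pow_two]
      nth_rewrite 1 [e1]
      rw [inv_mul_cancel]
    have k3 := h.sq_one hK (g := (u * v) ^ 2) (by rw [← map_pow, ← pow_mul, map_pow, e0]) (by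
      rw [← pow_mul, ← k2, ← pow_mul])
    rw [← k3, ← pow_mul]
  refine ⟨x'⁻¹ * (u * v) * x', ?_, ?_, ?_⟩
  · rw [map_mul, map_mul, map_inv, hg]; group
  · have := conj_pow (i := 4) (a := x'⁻¹) (b := u * v)
    rw [inv_inv] at this
    rw [this, h4]; group
  · have c1 : IsConj (u * v) (u * v)⁻¹ := isConj_iff.2 ⟨u, hinv⟩
    have c2 : IsConj (x'⁻¹ * (u * v) * x') (u * v) := isConj_iff.2 ⟨x', by group⟩
    have c3 : IsConj (u * v)⁻¹ (x'⁻¹ * (u * v) * x')⁻¹ := isConj_iff.2 ⟨x'⁻¹, by group⟩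
    exact c2.trans (c1.trans c3)

end psl

end Cfsg.Agent.H906.T14
end

-- part: H906/T14Odd
section
/-!
# Lifts of elements of odd order of `PSL_3(4)`
-/

set_option autoImplicit false
set_option linter.unusedSectionVars false

namespace Cfsg.Agent.H906.T14

open Cfsg Cfsg.Geo SL3Par L34
open scoped MatrixGroups commutatorElement Matrix

/-- an element of `r`-power order over every element of `r`-power order -/
lemma exists_prime_lift {L T : Type*} [Group L] [Group T] {φ : L →* T} [Finite L] (hs : Function.Surjective φ)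
    {r : ℕ} (hr : r.Prime) {t : T} {k : ℕ} (ht : t ^ r ^ k = 1) :
    ∃ g : L, φ g = t ∧ ∃ j : ℕ, g ^ r ^ j = 1 := by
  obtain ⟨g, rfl⟩ := hs t
  obtain ⟨j, m, hm, hjm⟩ := Nat.exists_eq_pow_mul_and_not_dvd (orderOf_pos g).ne' r hr.ne_one
  have hcop : Nat.Coprime m (r ^ k) := Nat.Coprime.pow_right k ((Nat.Prime.coprime_iff_not_dvd hr).2 hm).symm
  obtain ⟨a, ha1, ha2⟩ := Nat.chineseRemainder hcop 0 1
  refine ⟨g ^ a, ?_, j, ?_⟩
  · rw [map_pow]
    have h1 : φ g ^ a = φ g ^ 1 := pow_eq_pow_iff_modEq.2 (ha2.of_dvd (orderOf_dvd_of_pow_eq_one ht))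
    rw [h1, pow_one]
  · obtain ⟨c, hc⟩ := (Nat.modEq_zero_iff_dvd).1 ha1
    rw [hc, ← pow_mul, ← orderOf_dvd_iff_pow_eq_one, hjm]
    exact ⟨c, by ring⟩

section psl

variable {K : Type*} [Field K] [Fintype K] {L : Type*} [Group L] {φ : L →* Matrix.ProjectiveSpecialLinearGroup (Fin 3) K}

local notation "T" => Matrix.ProjectiveSpecialLinearGroup (Fin 3) K

theorem three_part [Finite L] (hs : Function.Surjective φ) (hc : φ.ker ≤ Subgroup.center L)
    (hnine : ∀ z ∈ φ.ker, z ^ 9 = 1 → z ^ 3 = 1) (hK : Fintype.card K = 4) (t : T) (ht : t ^ 3 = 1) :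
    ∃ g : L, φ g = t ∧ g ^ 3 = 1 ∧ IsConj g g⁻¹ := by
  have comm : ∀ {z : L}, z ∈ φ.ker → ∀ g, z * g = g * z := fun hz g => (Subgroup.mem_center_iff.1 (hc hz) g).symm
  have cube : ∀ k : ℕ, ∀ z ∈ φ.ker, z ^ 3 ^ k = 1 → z ^ 3 = 1 := by
    intro k
    induction k using Nat.strong_induction_on with
    | _ k ih =>
      intro z hz hk
      match k, ih, hk with
      | 0, _, hk => rw [pow_zero, pow_one] at hk; rw [hk, one_pow]
      | 1, _, hk => rwa [pow_one] at hk
      | k + 2, ih, hk =>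
        apply ih (k + 1) (by omega) z hz
        have h1 := hnine (z ^ 3 ^ k) (φ.ker.pow_mem hz _) (by rw [← pow_mul, ← hk]; congr 1; ring)
        rw [← h1, ← pow_mul, pow_succ]
  obtain ⟨y, rfl, j, hj⟩ := exists_prime_lift hs Nat.prime_three (t := t) (k := 1) (by rw [pow_one]; exact ht)
  have hy3 : y ^ 3 ∈ φ.ker := by rw [MonoidHom.mem_ker, map_pow, ht]
  obtain ⟨s, -, hs1⟩ := inv_three hK ht
  obtain ⟨s, rfl⟩ := hs s
  set z := s * y * s⁻¹ * y with hz
  have hzk : z ∈ φ.ker := by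
    rw [MonoidHom.mem_ker, hz, map_mul, map_mul, map_mul, map_inv, hs1, inv_mul_cancel]
  have hconj : s * y * s⁻¹ = z * y⁻¹ := by rw [hz]; group
  have hzp : z ^ 3 ^ j = 1 := by
    have h1 : (z * y⁻¹) ^ 3 ^ j = 1 := by rw [← hconj, conj_pow, hj]; group
    have h2 : Commute z y⁻¹ := comm hzk _
    rw [h2.mul_pow, inv_pow, hj, inv_one, mul_one] at h1
    exact h1
  have hz3 := cube j z hzk hzp
  have hcube : y ^ 3 = 1 := by
    have h1 : s * y ^ 3 * s⁻¹ = (y ^ 3)⁻¹ := by
      have h2 : Commute z y⁻¹ := comm hzk _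
      rw [← conj_pow, hconj, h2.mul_pow, hz3, one_mul, inv_pow]
    rw [← comm hy3 s, mul_inv_cancel_right] at h1
    have h2 : (y ^ 3) ^ 2 = 1 := by
      rw [pow_two]
      nth_rewrite 1 [h1]
      rw [inv_mul_cancel]
    have h3 : (y ^ 3) ^ 3 = 1 := by
      apply cube j _ hy3
      rw [← pow_mul, mul_comm, pow_mul, hj, one_pow]
    calc y ^ 3 = (y ^ 3) ^ 3 * ((y ^ 3) ^ 2)⁻¹ := by group
      _ = 1 := by rw [h2, h3]; group
  refine ⟨z * y, ?_, ?_, ?_⟩
  · rw [map_mul, (MonoidHom.mem_ker).1 hzk, one_mul]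
  · have h2 : Commute z y := comm hzk _
    rw [h2.mul_pow, hz3, hcube, one_mul]
  · rw [isConj_iff]
    refine ⟨s, ?_⟩
    have h1 : s * (z * y) * s⁻¹ = z * (s * y * s⁻¹) := by
      rw [← mul_assoc s z y, ← comm hzk s]; group
    have h2 : z * z = z⁻¹ := by rw [eq_inv_iff_mul_eq_one, ← pow_two, ← pow_succ, hz3]
    have h3 := comm ((φ.ker).inv_mem hzk) y⁻¹
    clear_value z
    rw [h1, hconj, ← mul_assoc, h2, h3, mul_inv_rev]

theorem five_part [Finite L] (hs : Function.Surjective φ) (hc : φ.ker ≤ Subgroup.center L)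
    (hcop : (Nat.card φ.ker).Coprime 5) (hK : Fintype.card K = 4) (t : T) (ht : t ^ 5 = 1) :
    ∃ g : L, φ g = t ∧ g ^ 5 = 1 ∧ IsConj g g⁻¹ := by
  obtain ⟨g, hg, og⟩ := H908.exists_lift hs t (Nat.Coprime.coprime_dvd_right (orderOf_dvd_of_pow_eq_one ht) hcop)
  have hg5 : g ^ 5 = 1 := by
    rw [← orderOf_dvd_iff_pow_eq_one, og, orderOf_dvd_iff_pow_eq_one, ht]
  obtain ⟨s, -, hs1⟩ := inv_five hK ht
  obtain ⟨s, rfl⟩ := hs s
  refine ⟨g, hg, hg5, isConj_iff.2 ⟨s, ?_⟩⟩
  have c5 : ∀ x : L, x ^ 5 = 1 → (Nat.card φ.ker).Coprime (orderOf x) := fun x hx =>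
    Nat.Coprime.coprime_dvd_right (orderOf_dvd_of_pow_eq_one hx) hcop
  apply H908.conj_lift hc _ (c5 g hg5) (c5 _ (by rw [inv_pow, hg5, inv_one]))
  rw [map_mul, map_mul, map_inv, map_inv, hg, hs1]

theorem seven_part [Finite L] (hs : Function.Surjective φ) (hc : φ.ker ≤ Subgroup.center L)
    (hcop : (Nat.card φ.ker).Coprime 7) (hK : Fintype.card K = 4) (t : T) (ht : t ^ 7 = 1) :
    ∃ g : L, φ g = t ∧ g ^ 7 = 1 ∧ IsConj g (g ^ 2) := by
  obtain ⟨g, hg, og⟩ := H908.exists_lift hs t (Nat.Coprime.coprime_dvd_right (orderOf_dvd_of_pow_eq_one ht) hcop)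
  have hg7 : g ^ 7 = 1 := by
    rw [← orderOf_dvd_iff_pow_eq_one, og, orderOf_dvd_iff_pow_eq_one, ht]
  obtain ⟨s, hs1⟩ := seven hK ht
  obtain ⟨s, rfl⟩ := hs s
  refine ⟨g, hg, hg7, isConj_iff.2 ⟨s, ?_⟩⟩
  have c7 : ∀ x : L, x ^ 7 = 1 → (Nat.card φ.ker).Coprime (orderOf x) := fun x hx =>
    Nat.Coprime.coprime_dvd_right (orderOf_dvd_of_pow_eq_one hx) hcop
  apply H908.conj_lift hc _ (c7 g hg7) (c7 _ (by rw [← pow_mul, mul_comm, pow_mul, hg7, one_pow]))
  rw [map_mul, map_mul, map_inv, map_pow, hg, hs1]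

end psl

end Cfsg.Agent.H906.T14
end

-- part: H906/T14E
section
/-!
# The lifted subgroup `2⁴` and its weights
-/

set_option autoImplicit false
set_option linter.unusedSectionVars false

namespace Cfsg.Agent.H906.T14

open Cfsg Cfsg.Geo SL3Par L34 Wt
open scoped MatrixGroups commutatorElement Matrix

section explicit

variable {K : Type*} [Field K] [Fintype K]

/-- element of order five -/
lemma exists_x5 (hK : Fintype.card K = 4) {w : K} (hw : w ^ 2 + w + 1 = 0) :
    ∃ x : X K, x ∈ Pa K ∧ pj K x ^ 5 = 1 ∧ pj K x ≠ 1 ∧ (∀ b c, x * uni 0 b c * x⁻¹ = uni 0 (c + w * b) b) ∧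
      ∀ t : Matrix.ProjectiveSpecialLinearGroup (Fin 3) K, t ^ 5 = 1 → ∃ g, ∃ j : ℤ, pj K x ^ j = g * t * g⁻¹ := by
  have := fin_T (K := K)
  have hf : Fact (Nat.Prime 5) := ⟨Nat.prime_five⟩
  have k2 := two_zero hK
  obtain ⟨x, hx⟩ : ∃ x : X K, x.1 = !![0, 1, 0; 1, w, 0; 0, 0, 1] :=
    ⟨⟨!![0, 1, 0; 1, w, 0; 0, 0, 1], by
      rw [Matrix.det_fin_three]
      simp
      linear_combination -k2⟩, rfl⟩
  have h5 : x ^ 5 = 1 := by
    apply Subtype.ext
    rw [sl_pow_val]
    refine (pow_of_rel hK (cay hK x)).2.2.1 ?_ ?_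
    · rw [hx, Matrix.adjugate_fin_three, Matrix.trace_fin_three, Matrix.trace_fin_three]
      simp
      linear_combination k2
    · rw [hx, Matrix.trace_fin_three]
      simp only [_root_.Fin.isValue, _root_.Matrix.of_apply, _root_.Matrix.cons_val', _root_.Matrix.cons_val_zero, _root_.Matrix.cons_val_fin_one, _root_.Matrix.cons_val_one, _root_.zero_add, _root_.Matrix.cons_val]
      linear_combination hw + (w + 1) * k2
  have hx1 : pj K x ≠ 1 := by
    intro h0
    have h1 : x ∈ Subgroup.center (X K) := (QuotientGroup.eq_one_iff x).1 h0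
    obtain ⟨r, -, hr⟩ := Matrix.SpecialLinearGroup.mem_center_iff.1 h1
    have := congrFun (congrFun hr 0) 1
    rw [hx] at this
    simp at this
  have hord : orderOf (pj K x) = 5 := orderOf_eq_prime (by rw [← map_pow, h5, map_one]) hx1
  refine ⟨x, ⟨by rw [hx]; simp, by rw [hx]; simp⟩, by rw [← map_pow, h5, map_one], hx1, ?_, ?_⟩
  · intro b c
    rw [mul_inv_eq_iff_eq_mul]
    apply ext'
    intro i j
    rw [mul_entry, mul_entry, hx]
    (revert i j; simp only [uni, _root_.Fin.forall_fin_succ, Fin.isValue, _root_.Matrix.of_apply, _root_.Matrix.cons_val', _root_.Matrix.cons_val_zero, _root_.Matrix.cons_val_fin_one, _root_.Matrix.cons_val_one, _root_.Matrix.cons_val, _root_.mul_one, _root_.MulZeroClass.mul_zero, _root_.add_zero, _root_.zero_add, _root_.Matrix.cons_val_succ, _root_.forall_const, _root_.true_and, _root_.MulZeroClass.zero_mul, _root_.one_mul, _root_.and_self, _root_.implies_true])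
  · intro t ht
    obtain ⟨g, hg⟩ := conj_into 5 (Subgroup.zpowers (pj K x)) (k := 1) (by rw [Nat.card_zpowers, hord, pow_one])
      (m := 4032) (by rw [card_T hK]; norm_num) (by norm_num) (t := t) (j := 1) (by simpa only [_root_.pow_one] using ht)
    obtain ⟨j, hj⟩ := Subgroup.mem_zpowers_iff.1 hg
    exact ⟨g, j, hj⟩

/-- element of order three normalising both radicals -/
lemma exists_y3 {w : K} (hw : w ^ 2 + w + 1 = 0) :
    ∃ y : X K, y ∈ Pa K ∧ y ∈ Pb K ∧ y ^ 3 = 1 ∧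
      (∀ a b c, y * uni a b c * y⁻¹ = uni (w ^ 2 * a) (w ^ 2 * b) (w * c)) := by
  have hw3 : w ^ 3 = 1 := by linear_combination (w - 1) * hw
  have hw4 : w ^ 4 = w := by linear_combination w * hw3
  obtain ⟨y, hy⟩ : ∃ x : X K, x.1 = !![1, 0, 0; 0, w, 0; 0, 0, w ^ 2] :=
    ⟨⟨!![1, 0, 0; 0, w, 0; 0, 0, w ^ 2], by
      rw [Matrix.det_fin_three]
      simp only [_root_.Fin.isValue, _root_.Matrix.of_apply, _root_.Matrix.cons_val', _root_.Matrix.cons_val_zero, _root_.Matrix.cons_val_fin_one, _root_.Matrix.cons_val_one, _root_.one_mul, _root_.Matrix.cons_val, _root_.MulZeroClass.mul_zero, _root_.sub_zero, _root_.MulZeroClass.zero_mul, _root_.add_zero]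
      linear_combination hw3⟩, rfl⟩
  have h2 : (y * y).1 = !![1, 0, 0; 0, w ^ 2, 0; 0, 0, w] := by
    ext k l
    rw [mul_entry, hy]
    (revert k l; simp only [_root_.Fin.forall_fin_succ, Fin.isValue, _root_.Matrix.of_apply, _root_.Matrix.cons_val', _root_.Matrix.cons_val_zero, _root_.Matrix.cons_val_fin_one, _root_.Matrix.cons_val_one, _root_.Matrix.cons_val, _root_.mul_one, _root_.MulZeroClass.mul_zero, _root_.add_zero, _root_.Matrix.cons_val_succ, _root_.zero_add, _root_.forall_const, _root_.MulZeroClass.zero_mul, _root_.and_true, _root_.true_and]) <;> (repeat' with_reducible apply And.intro)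
    · ring
    · linear_combination hw4
  refine ⟨y, ⟨by rw [hy]; simp, by rw [hy]; simp⟩, ⟨by rw [hy]; simp, by rw [hy]; simp⟩, ?_, ?_⟩
  · rw [pow_succ, pow_two]
    apply ext'
    intro i j
    rw [mul_entry, h2, hy]
    (revert i j; simp only [_root_.Fin.forall_fin_succ, Fin.isValue, _root_.Matrix.of_apply, _root_.Matrix.cons_val', _root_.Matrix.cons_val_zero, _root_.Matrix.cons_val_fin_one, _root_.Matrix.cons_val_one, _root_.Matrix.cons_val, _root_.Matrix.SpecialLinearGroup.coe_one, _root_.mul_one, _root_.MulZeroClass.mul_zero, _root_.add_zero, _root_.Matrix.cons_val_succ, _root_.zero_add, _root_.IsEmpty.forall_iff, _root_.Matrix.one_apply_eq, _root_.MulZeroClass.zero_mul, Nat.reduceAdd, _root_.Fin.succ_zero_eq_one, _root_.ne_eq, _root_.zero_ne_one, _root_.not_false_eq_true, _root_.Matrix.one_apply_ne, _root_.Fin.succ_one_eq_two, Fin.reduceEq, _root_.Fin.succ_ne_zero, _root_.and_true, _root_.true_and]) <;> (repeat' with_reducible apply And.intro)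
    · linear_combination hw3
    · linear_combination hw3
  · intro a b c
    rw [mul_inv_eq_iff_eq_mul]
    apply ext'
    intro i j
    rw [mul_entry, mul_entry, hy]
    (revert i j; simp only [uni, _root_.Fin.forall_fin_succ, Fin.isValue, _root_.Matrix.of_apply, _root_.Matrix.cons_val', _root_.Matrix.cons_val_zero, _root_.Matrix.cons_val_fin_one, _root_.Matrix.cons_val_one, _root_.Matrix.cons_val, _root_.mul_one, _root_.MulZeroClass.mul_zero, _root_.add_zero, _root_.Matrix.cons_val_succ, _root_.zero_add, _root_.forall_const, _root_.one_mul, _root_.MulZeroClass.zero_mul, _root_.implies_true, _root_.and_true, _root_.true_and]) <;> (repeat' with_reducible apply And.intro)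
    · linear_combination (-a) * hw3
    · linear_combination (-c) * hw3
    · linear_combination (-b * w) * hw3

end explicit

section lifted

variable {K : Type*} [Field K] [Fintype K] {L : Type*} [Group L] [Finite L]
  {φ : L →* Matrix.ProjectiveSpecialLinearGroup (Fin 3) K}

/-- the lift of the radical of `Pa` -/
def Ah (h : Two φ) (hK : Fintype.card K = 4) : Subgroup L where
  carrier := {g | φ g ∈ (Qa K).map (pj K) ∧ g ^ 2 = 1}
  mul_mem' := by
    rintro g k ⟨hg, hg2⟩ ⟨hk, hk2⟩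
    refine ⟨by rw [map_mul]; exact Subgroup.mul_mem _ hg hk, ?_⟩
    have hcomm : φ g * φ k = φ k * φ g := by
      obtain ⟨_, ⟨b, c, rfl⟩, e1⟩ := hg
      obtain ⟨_, ⟨b', c', rfl⟩, e2⟩ := hk
      rw [← e1, ← e2, ← map_mul, ← map_mul, uni_mul, uni_mul]
      congr 2 <;> ring
    have h1 : Commute g k := h.comm_of hK hcomm hg2 hk2
    rw [h1.mul_pow, hg2, hk2, one_mul]
  one_mem' := ⟨by rw [map_one]; exact Subgroup.one_mem _, one_pow 2⟩
  inv_mem' := by
    rintro g ⟨hg, hg2⟩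
    exact ⟨by rw [map_inv]; exact Subgroup.inv_mem _ hg, by rw [inv_pow, hg2, inv_one]⟩

variable (h : Two φ) (hK : Fintype.card K = 4)

lemma comm_Ah : ∀ a ∈ Ah h hK, ∀ b ∈ Ah h hK, a * b = b * a := by
  rintro g ⟨hg, hg2⟩ k ⟨hk, hk2⟩
  apply h.comm_of hK _ hg2 hk2
  obtain ⟨_, ⟨b, c, rfl⟩, e1⟩ := hg
  obtain ⟨_, ⟨b', c', rfl⟩, e2⟩ := hk
  rw [← e1, ← e2, ← map_mul, ← map_mul, uni_mul, uni_mul]
  congr 2 <;> ring

lemma nor_Ah {g : L} {x : X K} (hx : x ∈ Pa K) (hg : φ g = pj K x) : Nor (Ah h hK) g := by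
  have key : ∀ (g : L) (x : X K), x ∈ Pa K → φ g = pj K x → ∀ a ∈ Ah h hK, g * a * g⁻¹ ∈ Ah h hK := by
    rintro g x hx hg a ⟨⟨u, hu, e1⟩, ha2⟩
    refine ⟨⟨x * u * x⁻¹, ?_, ?_⟩, ?_⟩
    · have := Qa_normal x⁻¹ (inv_mem hx) u hu
      rwa [inv_inv] at this
    · rw [map_mul, map_mul, map_mul, map_mul, map_inv, map_inv, hg, e1]
    · rw [conj_pow, ha2, mul_one, mul_inv_cancel]
  intro a
  constructor
  · exact key g x hx hg a
  · intro ha
    have := key g⁻¹ x⁻¹ (inv_mem hx) (by rw [map_inv, map_inv, hg]) _ ha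
    have e1 : g⁻¹ * (g * a * g⁻¹) * g⁻¹⁻¹ = a := by group
    rwa [e1] at this

lemma lift_Ah (b c : K) : ∃ a ∈ Ah h hK, φ a = pj K (uni 0 b c) := by
  obtain ⟨a, ha, ha2⟩ := h.lift_two hK (pj K (uni 0 b c)) (by
    rw [← map_pow, pow_two, uni_mul, add_self hK, add_self hK, add_self hK, zero_mul, add_zero, uni_zero, map_one])
  exact ⟨a, ⟨⟨uni 0 b c, ⟨b, c, rfl⟩, ha.symm⟩, ha2⟩, ha⟩

/-- surjectivity of commutation -/
lemma comm_surj {g : L} {x : X K} (hg : φ g = pj K x)
    (hs : ∀ b c : K, ∃ b' c' : K, x * uni 0 b' c' * x⁻¹ * (uni 0 b' c')⁻¹ = uni 0 b c) :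
    ∀ a ∈ Ah h hK, ∃ z ∈ φ.ker, ∃ b ∈ Ah h hK, a = z * (g * b * g⁻¹ * b⁻¹) := by
  rintro a ⟨⟨_, ⟨b, c, rfl⟩, e1⟩, ha2⟩
  obtain ⟨b', c', hbc⟩ := hs b c
  obtain ⟨u, hu, hu2⟩ := lift_Ah h hK b' c'
  refine ⟨a * (g * u * g⁻¹ * u⁻¹)⁻¹, ?_, u, hu, by group⟩
  rw [MonoidHom.mem_ker, map_mul, map_inv, map_mul, map_mul, map_mul, map_inv, map_inv, hu2, hg, ← e1, ← hbc,
    map_mul, map_mul, map_mul, map_inv, map_inv]
  group

lemma card_Ah {Ω : Type*} [Field Ω] (h2 : (2 : Ω) ≠ 0) : (Nat.card (Ah h hK) : Ω) ≠ 0 := by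
  have hf : Fact (Nat.Prime 2) := ⟨Nat.prime_two⟩
  have hp : IsPGroup 2 (Ah h hK) := by
    intro a
    refine ⟨1, ?_⟩
    rw [pow_one]
    exact Subtype.ext a.2.2
  obtain ⟨k, hk⟩ := hp.exists_card_eq
  rw [hk, Nat.cast_pow]
  exact pow_ne_zero _ (by exact_mod_cast h2)

variable {Ω V : Type*} [Field Ω] [AddCommGroup V] [Module Ω V] (ρ : L →* Module.End Ω V)

lemma not_scalar (hρ : Function.Injective ρ) : ¬ ∀ a ∈ Ah h hK, ∃ c : Ω, ρ a = c • 1 := by
  intro hall
  obtain ⟨w, hw⟩ := exists_w hK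
  obtain ⟨y, -, -, -, hy⟩ := exists_y3 hw
  obtain ⟨a, ha, ha1⟩ := lift_Ah h hK 0 1
  obtain ⟨c, hc⟩ := hall a ha
  obtain ⟨g, hg⟩ := h.surj (pj K y)
  have h1 : g * a = a * g := by
    apply hρ
    rw [map_mul, map_mul, hc, mul_smul_comm, smul_mul_assoc, mul_one, one_mul]
  have h2 : pj K (y * uni 0 0 1 * y⁻¹) = pj K (uni 0 0 1) := by
    rw [map_mul, map_mul, map_inv, ← hg, ← ha1, mul_inv_eq_iff_eq_mul, ← map_mul, ← map_mul, h1]
  rw [hy] at h2
  have h3 := congrFun (congrFun (congrArg Subtype.val (pj_uni_inj h2)) 0) 2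
  simp [uni] at h3
  subst h3
  have k2 := two_zero hK
  have : (1 : K) = 0 := by linear_combination hw - k2
  exact one_ne_zero this

end lifted

end Cfsg.Agent.H906.T14
end

-- part: H906/T14F
section
/-!
# Traces of elements of order five
-/

set_option autoImplicit false
set_option linter.unusedSectionVars false

namespace Cfsg.Agent.H906.T14

open Cfsg Cfsg.Geo SL3Par L34 Wt
open scoped MatrixGroups commutatorElement Matrix

section lifted

variable {K : Type*} [Field K] [Fintype K] {L : Type*} [Group L] [Finite L]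
  {φ : L →* Matrix.ProjectiveSpecialLinearGroup (Fin 3) K} (h : Two φ) (hK : Fintype.card K = 4)
  {Ω V : Type*} [Field Ω] [IsAlgClosed Ω] [AddCommGroup V] [Module Ω V] [FiniteDimensional Ω V]
  (ρ : L →* Module.End Ω V)

lemma finrank_ne_top (hρ : Function.Injective ρ) (χ : Ah h hK →* Ωˣ) :
    Module.finrank Ω (W (rs ρ (Ah h hK)) χ) ≠ Module.finrank Ω V := by
  intro h0
  have h1 := Submodule.eq_top_of_finrank_eq h0
  apply not_scalar h hK ρ hρ
  intro a ha
  refine ⟨χ ⟨a, ha⟩, LinearMap.ext fun v => ?_⟩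
  have hv : v ∈ W (rs ρ (Ah h hK)) χ := by rw [h1]; trivial
  exact mem_W.1 hv ⟨a, ha⟩

/-- data for the element of order five -/
lemma five_fixed (hZ : ∀ z ∈ φ.ker, ∃ c : Ω, ρ z = c • 1) (h2 : (2 : Ω) ≠ 0)
    {w : K} (hw : w ^ 2 + w + 1 = 0) {x : X K} (hxP : x ∈ Pa K) (hx5 : pj K x ^ 5 = 1)
    (hx : ∀ b c, x * uni 0 b c * x⁻¹ = uni 0 (c + w * b) b) {g : L} (hg : φ g = pj K x) :
    ∃ χ₀ : Ah h hK →* Ωˣ, sg Ω (nor_Ah h hK hxP hg) χ₀ = χ₀ ∧
      (∀ χ, sg Ω (nor_Ah h hK hxP hg) χ = χ → χ ≠ χ₀ → W (rs ρ (Ah h hK)) χ = ⊥) ∧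
      ∃ k : ℕ, Module.finrank Ω V = Module.finrank Ω (W (rs ρ (Ah h hK)) χ₀) + 5 * k := by
  apply Wt.exists_fixed ρ (comm_Ah h hK) (card_Ah h hK h2) hZ (nor_Ah h hK hxP hg) _ Nat.prime_five
  · intro a _
    exact (h.comm (z := g ^ 5) (by rw [MonoidHom.mem_ker, map_pow, hg, hx5]) a)
  · apply comm_surj h hK hg
    intro b c
    have k2 := two_zero hK
    -- `c' (w) = b - (w+1) c`, `b' = c' + c`
    have hw0 : w ≠ 0 := by
      rintro rfl
      norm_num at hw
    obtain ⟨u, hu⟩ : ∃ u, w * u = b - (w + 1) * c := ⟨(b - (w + 1) * c) / w, by field_simp⟩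
    refine ⟨u + c, u, ?_⟩
    rw [hx, uni_inv, uni_mul]
    congr 1
    · ring
    · linear_combination hu - c * k2
    · ring

lemma three_fixed (hZ : ∀ z ∈ φ.ker, ∃ c : Ω, ρ z = c • 1) (h2 : (2 : Ω) ≠ 0)
    {w : K} (hw : w ^ 2 + w + 1 = 0) {y : X K} (hyP : y ∈ Pa K) (hy3 : y ^ 3 = 1)
    (hy : ∀ a b c, y * uni a b c * y⁻¹ = uni (w ^ 2 * a) (w ^ 2 * b) (w * c)) {g : L} (hg : φ g = pj K y) :
    ∃ χ₀ : Ah h hK →* Ωˣ, sg Ω (nor_Ah h hK hyP hg) χ₀ = χ₀ ∧
      (∀ χ, sg Ω (nor_Ah h hK hyP hg) χ = χ → χ ≠ χ₀ → W (rs ρ (Ah h hK)) χ = ⊥) ∧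
      ∃ k : ℕ, Module.finrank Ω V = Module.finrank Ω (W (rs ρ (Ah h hK)) χ₀) + 3 * k := by
  apply Wt.exists_fixed ρ (comm_Ah h hK) (card_Ah h hK h2) hZ (nor_Ah h hK hyP hg) _ Nat.prime_three
  · intro a _
    exact (h.comm (z := g ^ 3) (by rw [MonoidHom.mem_ker, map_pow, hg, ← map_pow, hy3, map_one]) a)
  · apply comm_surj h hK hg
    intro b c
    have k2 := two_zero hK
    refine ⟨w ^ 2 * b, w * c, ?_⟩
    rw [hy, uni_inv, uni_mul]
    have hw3 : w ^ 3 = 1 := by linear_combination (w - 1) * hw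
    congr 1
    · ring
    · linear_combination (b * w) * hw3 + b * hw - (b * w ^ 2) * k2 - b * k2
    · linear_combination c * hw - c * w * k2 - c * k2

lemma sum_le (h2 : (2 : Ω) ≠ 0) (S : Finset (Ah h hK →* Ωˣ)) :
    ∑ χ ∈ S, Module.finrank Ω (W (rs ρ (Ah h hK)) χ) ≤ Module.finrank Ω V := by
  classical
  have hcomm' : ∀ a b : Ah h hK, rs ρ (Ah h hK) a * rs ρ (Ah h hK) b = rs ρ (Ah h hK) b * rs ρ (Ah h hK) a := by
    intro a b
    change ρ a.1 * ρ b.1 = ρ b.1 * ρ a.1
    rw [← map_mul, comm_Ah h hK a.1 a.2 b.1 b.2, map_mul]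
  have hfin := finite_chars (K := Ω) (Ah h hK)
  have : Fintype (Ah h hK →* Ωˣ) := Fintype.ofFinite _
  rw [← sum_finrank hcomm' (card_Ah h hK h2)]
  exact Finset.sum_le_sum_of_subset (Finset.subset_univ S)

lemma perm_fix {X : Type*} (σ : Equiv.Perm X) {r : ℕ} (hr : σ ^ r = 1) {k m : ℕ} (hkm : k * m % r = 1 % r) {x : X}
    (hx : (σ ^ k) x = x) : σ x = x := by
  have h1 : (σ ^ (k * m)) x = x := by
    rw [pow_mul]
    clear hkm
    induction m with
    | zero => simp
    | succ m ih => rw [pow_succ, Equiv.Perm.mul_apply, hx, ih]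
  have h2 : σ ^ (k * m) = σ ^ 1 := by
    rw [← Nat.div_add_mod (k * m) r, pow_add, pow_mul, hr, one_pow, one_mul, hkm]
    conv_rhs => rw [← Nat.div_add_mod 1 r, pow_add, pow_mul, hr, one_pow, one_mul]
  rw [h2, pow_one] at h1
  exact h1

/-- degree ten: the element of order five has no fixed weight -/
lemma ten_fixed (hρ : Function.Injective ρ) (hZ : ∀ z ∈ φ.ker, ∃ c : Ω, ρ z = c • 1) (h2 : (2 : Ω) ≠ 0)
    (hd : Module.finrank Ω V = 10)
    {w : K} (hw : w ^ 2 + w + 1 = 0) {x : X K} (hxP : x ∈ Pa K) (hx5 : pj K x ^ 5 = 1)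
    (hx : ∀ b c, x * uni 0 b c * x⁻¹ = uni 0 (c + w * b) b) {g : L} (hg : φ g = pj K x)
    {χ : Ah h hK →* Ωˣ} (hχ : sg Ω (nor_Ah h hK hxP hg) χ = χ) : W (rs ρ (Ah h hK)) χ = ⊥ := by
  classical
  obtain ⟨χ₀, h1, h3, k, hk⟩ := five_fixed h hK ρ hZ h2 hw hxP hx5 hx hg
  obtain ⟨y, hyP, -, hy3, hy⟩ := exists_y3 (K := K) hw
  obtain ⟨g', hg'⟩ := h.surj (pj K y)
  obtain ⟨ψ₀, q1, q3, l, hl⟩ := three_fixed h hK ρ hZ h2 hw hyP hy3 hy hg'
  by_cases hne : χ = χ₀
  swap
  · exact h3 χ hχ hne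
  subst hne
  by_contra hW
  have hpos : Module.finrank Ω (W (rs ρ (Ah h hK)) χ) ≠ 0 := fun h0 => hW (Submodule.finrank_eq_zero.1 h0)
  have hne := finrank_ne_top h hK ρ hρ χ
  have h5 : Module.finrank Ω (W (rs ρ (Ah h hK)) χ) = 5 := by
    rw [hd] at hk hne
    omega
  set τ := sg Ω (nor_Ah h hK hyP hg') with hτ
  have hτ3 : τ ^ 3 = 1 := by
    rw [hτ, ← sg_pow _ 3 ((nor_Ah h hK hyP hg').pow 3)]
    exact sg_eq_one _ (fun a _ => h.comm (z := g' ^ 3) (by rw [MonoidHom.mem_ker, map_pow, hg', ← map_pow, hy3, map_one]) a)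
  by_cases hfix : τ χ = χ
  · have h6 : χ = ψ₀ := by
      by_contra h0
      exact hW (q3 χ hfix h0)
    rw [← h6, h5, hd] at hl
    omega
  · have d2 : τ (τ χ) ≠ χ := by
      intro h0
      apply hfix
      exact perm_fix τ hτ3 (k := 2) (m := 2) (by norm_num) (by rw [pow_two, Equiv.Perm.mul_apply, h0])
    have d3 : τ (τ χ) ≠ τ χ := fun h0 => hfix (τ.injective h0)
    have h6 := sum_le h hK ρ h2 {χ, τ χ, τ (τ χ)}
    rw [Finset.sum_insert (by simp [Ne.symm hfix, d2.symm]), Finset.sum_insert (by simp [d3.symm]),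
      Finset.sum_singleton, hτ, finrank_sg, finrank_sg, finrank_sg, h5, hd] at h6
    omega

/-- degree six: the element of order five has one fixed weight of multiplicity one -/
lemma six_fixed (hρ : Function.Injective ρ) (hZ : ∀ z ∈ φ.ker, ∃ c : Ω, ρ z = c • 1) (h2 : (2 : Ω) ≠ 0)
    (hd : Module.finrank Ω V = 6)
    {w : K} (hw : w ^ 2 + w + 1 = 0) {x : X K} (hxP : x ∈ Pa K) (hx5 : pj K x ^ 5 = 1)
    (hx : ∀ b c, x * uni 0 b c * x⁻¹ = uni 0 (c + w * b) b) {g : L} (hg : φ g = pj K x) :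
    ∃ χ₀ : Ah h hK →* Ωˣ, sg Ω (nor_Ah h hK hxP hg) χ₀ = χ₀ ∧
      (∀ χ, sg Ω (nor_Ah h hK hxP hg) χ = χ → χ ≠ χ₀ → W (rs ρ (Ah h hK)) χ = ⊥) ∧
      Module.finrank Ω (W (rs ρ (Ah h hK)) χ₀) = 1 := by
  obtain ⟨χ₀, h1, h3, k, hk⟩ := five_fixed h hK ρ hZ h2 hw hxP hx5 hx hg
  refine ⟨χ₀, h1, h3, ?_⟩
  have hne := finrank_ne_top h hK ρ hρ χ₀
  rw [hd] at hk hne
  omega

end lifted

section traces

variable {K : Type*} [Field K] [Fintype K] {L : Type*} [Group L] [Finite L]
  {φ : L →* Matrix.ProjectiveSpecialLinearGroup (Fin 3) K} (h : Two φ) (hK : Fintype.card K = 4)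
  {Ω V : Type*} [Field Ω] [IsAlgClosed Ω] [AddCommGroup V] [Module Ω V] [FiniteDimensional Ω V]
  (ρ : L →* Module.End Ω V)

include h hK

lemma trace_conj' (s g : L) : LinearMap.trace Ω V (ρ (s * g * s⁻¹)) = LinearMap.trace Ω V (ρ g) := by
  rw [map_mul, LinearMap.trace_mul_comm, ← map_mul]
  congr 2
  group

/-- reduction to the powers of one element -/
lemma five_reduce (hcop : (Nat.card φ.ker).Coprime 5) {x : X K} (hx5 : pj K x ^ 5 = 1)
    (hx1 : ∀ t : Matrix.ProjectiveSpecialLinearGroup (Fin 3) K, t ^ 5 = 1 → ∃ g, ∃ j : ℤ, pj K x ^ j = g * t * g⁻¹)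
    {y : L} (hy : φ y = pj K x) (hy5 : y ^ 5 = 1) {g : L} (hg5 : g ^ 5 = 1) (hg1 : φ g ≠ 1) :
    ∃ k : ℕ, (k = 1 ∨ k = 2 ∨ k = 3 ∨ k = 4) ∧ LinearMap.trace Ω V (ρ g) = LinearMap.trace Ω V (ρ (y ^ k)) := by
  obtain ⟨s, j, hj⟩ := hx1 (φ g) (by rw [← map_pow, hg5, map_one])
  obtain ⟨s, rfl⟩ := h.surj s
  have c5 : ∀ x : L, x ^ 5 = 1 → (Nat.card φ.ker).Coprime (orderOf x) := fun x hx =>
    Nat.Coprime.coprime_dvd_right (orderOf_dvd_of_pow_eq_one hx) hcop
  have hjk : pj K x ^ (j % 5).toNat = pj K x ^ j := by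
    have h0 : 0 ≤ j % 5 := Int.emod_nonneg _ (by norm_num)
    rw [← zpow_natCast, Int.toNat_of_nonneg h0]
    conv_rhs => rw [← Int.emod_add_mul_ediv j 5, zpow_add, zpow_mul]
    have h1 : pj K x ^ (5 : ℤ) = 1 := by exact_mod_cast hx5
    rw [h1, one_zpow, mul_one]
  have hlt : (j % 5).toNat < 5 := by
    have := Int.emod_lt_of_pos j (b := 5) (by norm_num)
    omega
  set k := (j % 5).toNat with hk
  have heq : s * g * s⁻¹ = y ^ k := by
    apply H908.conj_lift h.cen _ (c5 g hg5) (c5 _ (by rw [← pow_mul, mul_comm, pow_mul, hy5, one_pow]))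
    rw [map_mul, map_mul, map_inv, map_pow, hy, hjk, hj]
  refine ⟨k, ?_, ?_⟩
  · have h0 : k ≠ 0 := by
      intro h0
      rw [h0, pow_zero] at heq
      apply hg1
      have : g = s⁻¹ * (s * g * s⁻¹) * s := by group
      rw [this, heq, mul_one, inv_mul_cancel, map_one]
    omega
  · rw [← heq, trace_conj' h hK]

theorem five_trace_ten (hρ : Function.Injective ρ) (hZ : ∀ z ∈ φ.ker, ∃ c : Ω, ρ z = c • 1) (h2 : (2 : Ω) ≠ 0)
    (hcop : (Nat.card φ.ker).Coprime 5) (hd : Module.finrank Ω V = 10) {g : L} (hg5 : g ^ 5 = 1) (hg1 : φ g ≠ 1) :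
    LinearMap.trace Ω V (ρ g) = 0 := by
  obtain ⟨w, hw⟩ := exists_w hK
  obtain ⟨x, hxP, hx5, hx1, hx, hconj⟩ := exists_x5 hK hw
  obtain ⟨y, hy, hy5, -⟩ := five_part h.surj h.cen hcop hK (pj K x) hx5
  obtain ⟨k, hk, htr⟩ := five_reduce h hK ρ hcop hx5 hconj hy hy5 hg5 hg1
  rw [htr]
  have hn := nor_Ah h hK hxP hy
  apply trace_sg_zero ρ (comm_Ah h hK) (card_Ah h hK h2) (hn.pow k)
  intro χ hχ
  have h5 : sg Ω hn ^ 5 = 1 := by
    rw [← sg_pow hn 5 (hn.pow 5)]
    exact sg_eq_one _ (fun a _ => by rw [hy5, one_mul, mul_one])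
  rw [sg_pow hn k] at hχ
  have hfix : sg Ω hn χ = χ := by
    rcases hk with rfl | rfl | rfl | rfl
    · exact perm_fix _ h5 (k := 1) (m := 1) (by norm_num) hχ
    · exact perm_fix _ h5 (k := 2) (m := 3) (by norm_num) hχ
    · exact perm_fix _ h5 (k := 3) (m := 2) (by norm_num) hχ
    · exact perm_fix _ h5 (k := 4) (m := 4) (by norm_num) hχ
  exact ten_fixed h hK ρ hρ hZ h2 hd hw hxP hx5 hx hy hfix

theorem five_trace_six (hρ : Function.Injective ρ) (hZ : ∀ z ∈ φ.ker, ∃ c : Ω, ρ z = c • 1) (h2 : (2 : Ω) ≠ 0)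
    (hcop : (Nat.card φ.ker).Coprime 5) (hd : Module.finrank Ω V = 6) {g : L} (hg5 : g ^ 5 = 1) (hg1 : φ g ≠ 1) :
    LinearMap.trace Ω V (ρ g) = 1 := by
  obtain ⟨w, hw⟩ := exists_w hK
  obtain ⟨x, hxP, hx5, hx1, hx, hconj⟩ := exists_x5 hK hw
  obtain ⟨y, hy, hy5, hyc⟩ := five_part h.surj h.cen hcop hK (pj K x) hx5
  have hn := nor_Ah h hK hxP hy
  obtain ⟨χ₀, h1, h3, h4⟩ := six_fixed h hK ρ hρ hZ h2 hd hw hxP hx5 hx hy
  have h5 : sg Ω hn ^ 5 = 1 := by
    rw [← sg_pow hn 5 (hn.pow 5)]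
    exact sg_eq_one _ (fun a _ => by rw [hy5, one_mul, mul_one])
  obtain ⟨v, hv, hv0⟩ := (Submodule.ne_bot_iff _).1 (show W (rs ρ (Ah h hK)) χ₀ ≠ ⊥ by
    intro h0
    rw [h0, finrank_bot] at h4
    exact zero_ne_one h4)
  -- the eigenvalue
  obtain ⟨c, hc, -⟩ := trace_sg_one ρ (comm_Ah h hK) (card_Ah h hK h2) hn h1 h3 h4
  have hcv : ∀ k : ℕ, ρ (y ^ k) v = c ^ k • v := by
    intro k
    induction k with
    | zero => simp only [_root_.pow_zero, _root_.map_one, _root_.Module.End.one_apply, _root_.one_smul]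
    | succ k ih =>
      rw [pow_succ, map_mul, Module.End.mul_apply, hc v hv, map_smul, ih, smul_smul]
      congr 1
      ring
  have hc5 : c ^ 5 = 1 := by
    have e1 := hcv 5
    rw [hy5, map_one, Module.End.one_apply] at e1
    have e2 : (c ^ 5 - 1) • v = 0 := by rw [sub_smul, one_smul, ← e1, sub_self]
    exact sub_eq_zero.1 ((smul_eq_zero.1 e2).resolve_right hv0)
  have key : ∀ k : ℕ, (k = 1 ∨ k = 2 ∨ k = 3 ∨ k = 4) → LinearMap.trace Ω V (ρ (y ^ k)) = c ^ k := by
    intro k hk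
    have hs : sg Ω (hn.pow k) χ₀ = χ₀ := by
      rw [sg_pow hn k]
      clear hk
      induction k with
      | zero => simp
      | succ k ih => rw [pow_succ, Equiv.Perm.mul_apply, h1, ih]
    have hfix : ∀ χ, sg Ω (hn.pow k) χ = χ → sg Ω hn χ = χ := by
      intro χ hχ
      rw [sg_pow hn k] at hχ
      rcases hk with rfl | rfl | rfl | rfl
      · exact perm_fix _ h5 (k := 1) (m := 1) (by norm_num) hχ
      · exact perm_fix _ h5 (k := 2) (m := 3) (by norm_num) hχ
      · exact perm_fix _ h5 (k := 3) (m := 2) (by norm_num) hχ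
      · exact perm_fix _ h5 (k := 4) (m := 4) (by norm_num) hχ
    obtain ⟨d, hd1, hd2⟩ := trace_sg_one ρ (comm_Ah h hK) (card_Ah h hK h2) (hn.pow k) hs
      (fun χ hχ hne => h3 χ (hfix χ hχ) hne) h4
    rw [hd2]
    have e1 := hd1 v hv
    rw [hcv k] at e1
    have e2 : (d - c ^ k) • v = 0 := by rw [sub_smul, ← e1, sub_self]
    exact sub_eq_zero.1 ((smul_eq_zero.1 e2).resolve_right hv0)
  have hc1 : c = 1 := by
    obtain ⟨s, hs⟩ := isConj_iff.1 hyc
    have e1 := key 1 (by simp)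
    have e2 := key 4 (by simp)
    rw [pow_one, pow_one] at e1
    have e3 : y ^ 4 = y⁻¹ := by rw [eq_inv_iff_mul_eq_one, ← pow_succ, hy5]
    rw [e3, ← hs, trace_conj' h hK, e1] at e2
    have hc0 : c ≠ 0 := by
      rintro rfl
      norm_num at hc5
    have e4 : c * (c ^ 3 - 1) = 0 := by linear_combination -e2
    have e5 : c ^ 3 = 1 := sub_eq_zero.1 ((mul_eq_zero.1 e4).resolve_left hc0)
    linear_combination (c ^ 3 + 1) * e5 - c * hc5
  obtain ⟨k, hk, htr⟩ := five_reduce h hK ρ hcop hx5 hconj hy hy5 hg5 hg1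
  rw [htr, key k hk, hc1, one_pow]

end traces

end Cfsg.Agent.H906.T14
end

-- part: H906/Transf
section
/-!
# Kernels of perfect central extensions at primes with cyclic Sylow subgroups
-/

set_option autoImplicit false
set_option linter.unusedSectionVars false

namespace Cfsg.Agent.H906.T14

open Cfsg Cfsg.Geo SL3Par L34
open scoped MatrixGroups commutatorElement Matrix

/-- transfer into an abelian subgroup -/
theorem pow_index_eq_one {L : Type*} [Group L] [Finite L] (hperf : commutator L = ⊤) (H : Subgroup L)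
    (hH : ∀ a ∈ H, ∀ b ∈ H, a * b = b * a) {z : L} (hz : z ∈ Subgroup.center L) : z ^ H.index = 1 := by
  let i1 : CommGroup H := { (inferInstance : Group H) with
    mul_comm := fun a b => Subtype.ext (hH a.1 a.2 b.1 b.2) }
  have key : ∀ (k : ℕ) (g₀ : L), g₀⁻¹ * z ^ k * g₀ ∈ H → g₀⁻¹ * z ^ k * g₀ = z ^ k := by
    intro k g₀ _
    have h1 : z ^ k ∈ Subgroup.center L := Subgroup.pow_mem _ hz k
    rw [mul_assoc, ← Subgroup.mem_center_iff.1 h1 g₀, inv_mul_cancel_left]
  have h1 := MonoidHom.transfer_eq_pow (MonoidHom.id H) z key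
  have h2 : z ∈ (MonoidHom.transfer (MonoidHom.id H)).ker := by
    have h3 : commutator L ≤ (MonoidHom.transfer (MonoidHom.id H)).ker := Abelianization.commutator_subset_ker _
    apply h3
    rw [hperf]; trivial
  rw [MonoidHom.mem_ker, h1] at h2
  exact congrArg Subtype.val h2

/-- primes with a cyclic Sylow subgroup do not divide the kernel -/
theorem coprime_ker {L T : Type*} [Group L] [Group T] [Finite L] {φ : L →* T} (hs : Function.Surjective φ)
    (hc : φ.ker ≤ Subgroup.center L) (hperf : commutator L = ⊤) {r : ℕ} (hr : r.Prime) {t : T} (ht : orderOf t = r)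
    {m : ℕ} (hT : Nat.card T = r * m) (hm : ¬ r ∣ m) : (Nat.card φ.ker).Coprime r := by
  rw [Nat.coprime_comm, Nat.Prime.coprime_iff_not_dvd hr]
  intro hd
  have : Fact r.Prime := ⟨hr⟩
  have hfT : Finite T := Finite.of_surjective _ hs
  obtain ⟨z, hz⟩ := exists_prime_orderOf_dvd_card' (G := φ.ker) r hd
  let H : Subgroup L := (Subgroup.zpowers t).comap φ
  have hab : ∀ a ∈ H, ∀ b ∈ H, a * b = b * a := by
    intro a ha b hb
    obtain ⟨i, hi⟩ := Subgroup.mem_zpowers_iff.1 (Subgroup.mem_comap.1 ha)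
    obtain ⟨g, hg⟩ := hs t
    obtain ⟨j, hj⟩ := Subgroup.mem_zpowers_iff.1 (Subgroup.mem_comap.1 hb)
    have k1 : a * (g ^ i)⁻¹ ∈ φ.ker := by rw [MonoidHom.mem_ker, map_mul, map_inv, map_zpow, hg, hi, mul_inv_cancel]
    have k2 : b * (g ^ j)⁻¹ ∈ φ.ker := by rw [MonoidHom.mem_ker, map_mul, map_inv, map_zpow, hg, hj, mul_inv_cancel]
    have c1 : ∀ y, y * (a * (g ^ i)⁻¹) = (a * (g ^ i)⁻¹) * y := Subgroup.mem_center_iff.1 (hc k1)
    have c2 : ∀ y, y * (b * (g ^ j)⁻¹) = (b * (g ^ j)⁻¹) * y := Subgroup.mem_center_iff.1 (hc k2)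
    set u := a * (g ^ i)⁻¹ with hu
    set v := b * (g ^ j)⁻¹ with hv
    have ha' : a = u * g ^ i := by rw [hu]; group
    have hb' : b = v * g ^ j := by rw [hv]; group
    rw [ha', hb']
    calc u * g ^ i * (v * g ^ j) = u * (g ^ i * v) * g ^ j := by simp only [mul_assoc]
      _ = (u * v) * (g ^ i * g ^ j) := by rw [c2]; simp only [mul_assoc]
      _ = (v * u) * (g ^ j * g ^ i) := by rw [c1 v, ← zpow_add, ← zpow_add, add_comm]
      _ = v * (u * g ^ j) * g ^ i := by simp only [mul_assoc]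
      _ = v * (g ^ j * u) * g ^ i := by rw [c1]
      _ = v * g ^ j * (u * g ^ i) := by simp only [mul_assoc]
  have h1 := pow_index_eq_one hperf H hab (hc z.2)
  have hidx : H.index = m := by
    rw [Subgroup.index_comap_of_surjective _ hs]
    have h2 := Subgroup.card_mul_index (Subgroup.zpowers t)
    rw [Nat.card_zpowers, ht, hT] at h2
    exact Nat.eq_of_mul_eq_mul_left hr.pos h2
  rw [hidx] at h1
  apply hm
  rw [← hz, orderOf_dvd_iff_pow_eq_one]
  exact Subtype.ext h1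

theorem coprime_ker_five {K : Type*} [Field K] [Fintype K] (hK : Fintype.card K = 4) {L : Type*} [Group L] [Finite L]
    {φ : L →* Matrix.ProjectiveSpecialLinearGroup (Fin 3) K} (hs : Function.Surjective φ)
    (hc : φ.ker ≤ Subgroup.center L) (hperf : commutator L = ⊤) : (Nat.card φ.ker).Coprime 5 := by
  have hf : Fact (Nat.Prime 5) := ⟨Nat.prime_five⟩
  have := fin_T (K := K)
  obtain ⟨t, ht⟩ := exists_prime_orderOf_dvd_card' (G := Matrix.ProjectiveSpecialLinearGroup (Fin 3) K) 5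
    (by rw [card_T hK]; norm_num)
  exact coprime_ker hs hc hperf Nat.prime_five ht (m := 4032) (by rw [card_T hK]) (by norm_num)

theorem coprime_ker_seven {K : Type*} [Field K] [Fintype K] (hK : Fintype.card K = 4) {L : Type*} [Group L] [Finite L]
    {φ : L →* Matrix.ProjectiveSpecialLinearGroup (Fin 3) K} (hs : Function.Surjective φ)
    (hc : φ.ker ≤ Subgroup.center L) (hperf : commutator L = ⊤) : (Nat.card φ.ker).Coprime 7 := by
  have hf : Fact (Nat.Prime 7) := ⟨by norm_num⟩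
  have := fin_T (K := K)
  obtain ⟨t, ht⟩ := exists_prime_orderOf_dvd_card' (G := Matrix.ProjectiveSpecialLinearGroup (Fin 3) K) 7
    (by rw [card_T hK]; norm_num)
  exact coprime_ker hs hc hperf (by norm_num) ht (m := 2880) (by rw [card_T hK]) (by norm_num)

end Cfsg.Agent.H906.T14
end
end

-- part: H921/M22/Two
section
set_option linter.all false
open scoped Cfsg.Agent.FastGrp

-- part: H921/M22/Fix
section
/-!
# Dimensions of fixed spaces

`fx ρ g = dim C_V(g)`.

* `scott` : `fx g + fx h + fx (g h) ≤ dim V` if `π g`, `π h` generate the image (kernel of `π` scalar, `V` irreducible);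
* `fx_norm` : `dim V = fx z + d m` if `z ^ r = 1` and `u z u⁻¹ = z ^ k`, `k` of prime order `d` modulo `r`;
* `fx_nine` : `dim V = fx a + 6` for the group `3^2` with a quaternion group acting, if `dim V < 16`;
* `fx_three` : `dim V = 3 fx x` if `x ^ 3 = 1` and `x` is conjugate to `ζ x`;
* `sum_trace` : the sum of the traces of the powers of `z`.
-/

set_option autoImplicit false
set_option linter.unusedSectionVars false

namespace Cfsg.Agent.H921.M22.Fix

open Module Cfsg.Agent.H906.Wt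

section basic

variable {L K V : Type*} [Group L] [Field K] [AddCommGroup V] [Module K V] (ρ : L →* Module.End K V)

/-- dimension of the fixed space -/
noncomputable def fx (g : L) : ℕ := finrank K (LinearMap.ker (ρ g - 1))

variable {ρ}

theorem mem_ker {X : Module.End K V} {v : V} : v ∈ LinearMap.ker (X - 1) ↔ X v = v := by
  rw [LinearMap.mem_ker, LinearMap.sub_apply, Module.End.one_apply, sub_eq_zero]

theorem rho_inv (g : L) (v : V) : ρ g⁻¹ (ρ g v) = v := by
  rw [← Module.End.mul_apply, ← map_mul, inv_mul_cancel, map_one, Module.End.one_apply]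

theorem rho_inv' (g : L) (v : V) : ρ g (ρ g⁻¹ v) = v := by
  rw [← Module.End.mul_apply, ← map_mul, mul_inv_cancel, map_one, Module.End.one_apply]

theorem fx_inv (g : L) : fx ρ g⁻¹ = fx ρ g := by
  unfold fx
  have h : LinearMap.ker (ρ g⁻¹ - 1) = LinearMap.ker (ρ g - 1) := by
    ext v
    rw [mem_ker, mem_ker]
    constructor
    · intro h
      conv_lhs => rw [← h]
      exact rho_inv' g v
    · intro h
      conv_lhs => rw [← h]
      exact rho_inv g v
  rw [h]

/-- conjugate eigenspaces -/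
theorem finrank_conj (g h : L) (c : K) :
    finrank K (LinearMap.ker (ρ (h * g * h⁻¹) - c • 1)) = finrank K (LinearMap.ker (ρ g - c • 1)) := by
  have hm : ∀ (X : Module.End K V) (v : V), v ∈ LinearMap.ker (X - c • 1) ↔ X v = c • v := by
    intro X v
    rw [LinearMap.mem_ker, LinearMap.sub_apply, LinearMap.smul_apply, Module.End.one_apply, sub_eq_zero]
  have fwd : ∀ v ∈ LinearMap.ker (ρ g - c • 1), ρ h v ∈ LinearMap.ker (ρ (h * g * h⁻¹) - c • 1) := by
    intro v hv
    rw [hm] at hv ⊢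
    rw [map_mul, map_mul, Module.End.mul_apply, Module.End.mul_apply, rho_inv, hv, map_smul]
  have bwd : ∀ v ∈ LinearMap.ker (ρ (h * g * h⁻¹) - c • 1), ρ h⁻¹ v ∈ LinearMap.ker (ρ g - c • 1) := by
    intro v hv
    rw [hm] at hv ⊢
    rw [map_mul, map_mul, Module.End.mul_apply, Module.End.mul_apply] at hv
    rw [← rho_inv (ρ := ρ) h (ρ g (ρ h⁻¹ v)), hv, map_smul]
  exact (LinearEquiv.finrank_eq
    { toFun := fun v => ⟨ρ h v.1, fwd v.1 v.2⟩
      map_add' := fun v w => Subtype.ext (map_add _ _ _)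
      map_smul' := fun c v => Subtype.ext (map_smul _ _ _)
      invFun := fun v => ⟨ρ h⁻¹ v.1, bwd v.1 v.2⟩
      left_inv := fun v => Subtype.ext (rho_inv h _)
      right_inv := fun v => Subtype.ext (rho_inv' h _) }).symm

theorem fx_conj (g h : L) : fx ρ (h * g * h⁻¹) = fx ρ g := by
  have := finrank_conj (ρ := ρ) g h 1
  rw [one_smul] at this
  exact this

theorem fx_isConj {g h : L} (hc : IsConj g h) : fx ρ g = fx ρ h := by
  obtain ⟨c, rfl⟩ := isConj_iff.1 hc
  exact (fx_conj g c).symm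

theorem fx_eq_iff [FiniteDimensional K V] (g : L) : fx ρ g = finrank K V ↔ ρ g = 1 := by
  constructor
  · intro h
    have h1 := Submodule.eq_top_of_finrank_eq h
    apply LinearMap.ext
    intro v
    have h2 : v ∈ LinearMap.ker (ρ g - 1) := by rw [h1]; trivial
    rw [mem_ker] at h2
    rw [h2, Module.End.one_apply]
  · intro h
    unfold fx
    rw [h, sub_self, LinearMap.ker_zero, finrank_top]

end basic

section scott

variable {L K V T : Type*} [Group L] [Group T] [Field K] [AddCommGroup V] [Module K V]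

/-- an irreducible representation with a quotient of the group, scalar kernel -/
structure Dat (ρ : L →* Module.End K V) (π : L →* T) : Prop where
  surj : Function.Surjective π
  scal : ∀ x ∈ π.ker, ∃ c : K, ρ x = c • 1
  irr : ∀ U : Submodule K V, (∀ g, ∀ v ∈ U, ρ g v ∈ U) → U = ⊥ ∨ U = ⊤
  two : 2 ≤ finrank K V

variable {ρ : L →* Module.End K V} {π : L →* T}

theorem eq_top_of_gen (_hs : Function.Surjective π) {g h : L} (hgen : Subgroup.closure ({π g, π h} : Set T) = ⊤)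
    (M : Subgroup L) (hk : π.ker ≤ M) (hg : g ∈ M) (hh : h ∈ M) : ∀ x, x ∈ M := by
  have h1 : M.map π = ⊤ := by
    rw [eq_top_iff, ← hgen, Subgroup.closure_le]
    rintro y (rfl | rfl)
    · exact ⟨g, hg, rfl⟩
    · exact ⟨h, hh, rfl⟩
  intro x
  have h2 : π x ∈ M.map π := by rw [h1]; trivial
  obtain ⟨y, hy, hyx⟩ := h2
  have h3 : y⁻¹ * x ∈ π.ker := by rw [MonoidHom.mem_ker, map_mul, map_inv, hyx, inv_mul_cancel]
  have h4 := M.mul_mem hy (hk h3)
  rwa [mul_inv_cancel_left] at h4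

theorem ne_zero_of_rho {g : L} {c : K} {v : V} (hv : v ≠ 0) (h : ρ g v = c • v) : c ≠ 0 := by
  rintro rfl
  rw [zero_smul] at h
  apply hv
  rw [← rho_inv (ρ := ρ) g v, h, map_zero]

/-- the stabiliser of a line -/
def lineStab (ρ : L →* Module.End K V) (v : V) (hv : v ≠ 0) : Subgroup L where
  carrier := {x | ∃ c : K, ρ x v = c • v}
  one_mem' := ⟨1, by rw [map_one, one_smul, Module.End.one_apply]⟩
  mul_mem' := by
    rintro x y ⟨c, hc⟩ ⟨d, hd⟩
    exact ⟨c * d, by rw [map_mul, Module.End.mul_apply, hd, map_smul, hc, smul_smul, mul_comm]⟩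
  inv_mem' := by
    rintro x ⟨c, hc⟩
    have hc0 := ne_zero_of_rho hv hc
    refine ⟨c⁻¹, ?_⟩
    have h1 : ρ x⁻¹ (ρ x v) = c • ρ x⁻¹ v := by rw [hc, map_smul]
    rw [rho_inv] at h1
    rw [show c⁻¹ • v = c⁻¹ • (c • ρ x⁻¹ v) from by rw [← h1], smul_smul, inv_mul_cancel₀ hc0, one_smul]

/-- elements which are scalar modulo a submodule -/
def scalStab (ρ : L →* Module.End K V) (S : Submodule K V) (hS : S ≠ ⊤) : Subgroup L where
  carrier := {x | ∃ c : K, ∀ v, ρ x v - c • v ∈ S}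
  one_mem' := ⟨1, fun v => by rw [map_one, one_smul, Module.End.one_apply, sub_self]; exact S.zero_mem⟩
  mul_mem' := by
    rintro x y ⟨c, hc⟩ ⟨d, hd⟩
    refine ⟨c * d, fun v => ?_⟩
    have h1 : ρ (x * y) v - (c * d) • v = (ρ x (ρ y v) - c • ρ y v) + c • (ρ y v - d • v) := by
      rw [map_mul, Module.End.mul_apply, smul_sub, smul_smul]
      abel
    rw [h1]
    exact S.add_mem (hc _) (S.smul_mem _ (hd _))
  inv_mem' := by
    rintro x ⟨c, hc⟩
    have hc0 : c ≠ 0 := by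
      rintro rfl
      apply hS
      rw [eq_top_iff]
      intro v _
      have := hc (ρ x⁻¹ v)
      rwa [rho_inv', zero_smul, sub_zero] at this
    refine ⟨c⁻¹, fun v => ?_⟩
    have h1 := hc (ρ x⁻¹ v)
    rw [rho_inv'] at h1
    have h2 : ρ x⁻¹ v - c⁻¹ • v = (-c⁻¹) • (v - c • ρ x⁻¹ v) := by
      rw [smul_sub, smul_smul, neg_mul, inv_mul_cancel₀ hc0, neg_smul, neg_smul, one_smul]
      abel
    rw [h2]
    exact S.smul_mem _ h1

variable [FiniteDimensional K V]

theorem finrank_range (X : Module.End K V) :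
    finrank K (X - 1).range + finrank K (LinearMap.ker (X - 1)) = finrank K V :=
  LinearMap.finrank_range_add_finrank_ker _

/-- **Scott's lemma.** -/
theorem Dat.scott (D : Dat ρ π) {g h : L} (hgen : Subgroup.closure ({π g, π h} : Set T) = ⊤) :
    fx ρ g + fx ρ h + fx ρ (g * h) ≤ finrank K V := by
  have hXYZ : ρ g * ρ h * ρ (g * h)⁻¹ = 1 := by rw [← map_mul, ← map_mul, mul_inv_cancel, map_one]
  have key := H565.Scott.scott hXYZ (⊥ : Submodule K V) ⊤ (by
    intro v hg hh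
    by_contra hv
    have hv0 : v ≠ 0 := fun h0 => hv (by rw [h0]; exact Submodule.zero_mem _)
    have h1 := eq_top_of_gen D.surj hgen (lineStab ρ v hv0) (by
      intro x hx
      obtain ⟨c, hc⟩ := D.scal x hx
      exact ⟨c, by rw [hc, LinearMap.smul_apply, Module.End.one_apply]⟩) ⟨1, by rw [one_smul, hg]⟩
      ⟨1, by rw [one_smul, hh]⟩
    rcases D.irr (Submodule.span K {v}) (by
      intro x w hw
      obtain ⟨a, rfl⟩ := Submodule.mem_span_singleton.1 hw
      obtain ⟨c, hc⟩ := h1 x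
      rw [map_smul, hc, smul_smul]
      exact Submodule.smul_mem _ _ (Submodule.mem_span_singleton_self v)) with h2 | h2
    · exact hv0 (Submodule.span_singleton_eq_bot.1 h2)
    · have h3 := finrank_span_singleton (K := K) hv0
      rw [h2, finrank_top] at h3
      have := D.two
      omega) (by
    intro S hg hh
    by_contra hS
    have hS' : S ≠ ⊤ := fun h => hS (h ▸ le_rfl)
    have h1 := eq_top_of_gen D.surj hgen (scalStab ρ S hS') (by
      intro x hx
      obtain ⟨c, hc⟩ := D.scal x hx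
      exact ⟨c, fun v => by rw [hc, LinearMap.smul_apply, Module.End.one_apply, sub_self]; exact S.zero_mem⟩)
      ⟨1, fun v => by rw [one_smul]; exact hg v⟩ ⟨1, fun v => by rw [one_smul]; exact hh v⟩
    rcases D.irr S (by
      intro x w hw
      obtain ⟨c, hc⟩ := h1 x
      have h2 : ρ x w = (ρ x w - c • w) + c • w := by abel
      rw [h2]
      exact S.add_mem (hc w) (S.smul_mem _ hw)) with h2 | h2
    · have : Nontrivial V := by
        rw [← Module.finrank_pos_iff (R := K)]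
        have := D.two
        omega
      obtain ⟨v, hv⟩ := exists_ne (0 : V)
      rcases D.irr (Submodule.span K {v}) (by
        intro x w hw
        obtain ⟨a, rfl⟩ := Submodule.mem_span_singleton.1 hw
        obtain ⟨c, hc⟩ := h1 x
        have h3 := hc v
        rw [h2, Submodule.mem_bot, sub_eq_zero] at h3
        rw [map_smul, h3, smul_smul]
        exact Submodule.smul_mem _ _ (Submodule.mem_span_singleton_self v)) with h4 | h4
      · exact hv (Submodule.span_singleton_eq_bot.1 h4)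
      · have h3 := finrank_span_singleton (K := K) hv
        rw [h4, finrank_top] at h3
        have := D.two
        omega
    · exact hS' h2)
  rw [finrank_top, finrank_bot] at key
  have h1 := finrank_range (ρ g)
  have h2 := finrank_range (ρ h)
  have h3 := finrank_range (ρ (g * h)⁻¹)
  have h4 := fx_inv (ρ := ρ) (g * h)
  unfold fx at *
  omega

end scott

section norm

variable {L K V : Type*} [Group L] [Field K] [AddCommGroup V] [Module K V] [FiniteDimensional K V]
  {ρ : L →* Module.End K V}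

theorem pow_mod {z : L} {r : ℕ} (hz : z ^ r = 1) {i j : ℕ} (h : i ≡ j [MOD r]) : z ^ i = z ^ j :=
  pow_eq_pow_iff_modEq.2 (h.of_dvd (orderOf_dvd_of_pow_eq_one hz))

theorem conj_iter {z u : L} {k : ℕ} (hu : u * z * u⁻¹ = z ^ k) (n : ℕ) : u ^ n * z * (u ^ n)⁻¹ = z ^ k ^ n := by
  induction n with
  | zero => simp
  | succ n ih =>
    calc u ^ (n + 1) * z * (u ^ (n + 1))⁻¹ = u * (u ^ n * z * (u ^ n)⁻¹) * u⁻¹ := by rw [pow_succ']; group
      _ = (u * z * u⁻¹) ^ k ^ n := by rw [ih, conj_pow]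
      _ = z ^ k ^ (n + 1) := by rw [hu, ← pow_mul, pow_succ']

/-- **The dimension modulo the order of the automiser.** -/
theorem fx_norm [IsAlgClosed K] {z u : L} {r d k : ℕ} (hr : r.Prime) (hrK : (r : K) ≠ 0) (hd : d.Prime)
    (hz : z ^ r = 1) (hu : u * z * u⁻¹ = z ^ k) (hk : k ^ d ≡ 1 [MOD r]) {s : ℕ} (hs : k * s ≡ s + 1 [MOD r]) :
    ∃ m, finrank K V = fx ρ z + d * m := by
  have hA : ∀ a : L, a ∈ Subgroup.zpowers z ↔ ∃ i : ℕ, z ^ i = a := by
    intro a
    rw [Subgroup.mem_zpowers_iff]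
    constructor
    · rintro ⟨i, rfl⟩
      have hr0 : (r : ℤ) ≠ 0 := by exact_mod_cast hr.ne_zero
      refine ⟨(i % (r : ℤ)).toNat, ?_⟩
      have h1 : ((i % (r : ℤ)).toNat : ℤ) = i % (r : ℤ) := Int.toNat_of_nonneg (Int.emod_nonneg _ hr0)
      rw [← zpow_natCast, h1]
      conv_rhs => rw [← Int.emod_add_mul_ediv i r, zpow_add, zpow_mul, zpow_natCast, hz, one_zpow, mul_one]
    · rintro ⟨i, rfl⟩
      exact ⟨i, zpow_natCast _ _⟩
  have hui : ∀ i : ℕ, u * z ^ i * u⁻¹ = z ^ (k * i) := by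
    intro i
    rw [← conj_pow, hu, ← pow_mul]
  have hud : u ^ d * z * (u ^ d)⁻¹ = z := by
    rw [conj_iter hu, pow_mod hz hk, pow_one]
  have hd1 : d - 1 + 1 = d := by have := hd.pos; omega
  have hui' : ∀ i : ℕ, u⁻¹ * z ^ i * u = z ^ (k ^ (d - 1) * i) := by
    intro i
    have h1 : u * z ^ (k ^ (d - 1) * i) * u⁻¹ = z ^ i := by
      rw [hui, ← mul_assoc, ← pow_succ', hd1]
      apply pow_mod hz
      have := hk.mul_right i
      rwa [one_mul] at this
    rw [← h1]
    group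
  have hN : Nor (Subgroup.zpowers z) u := by
    intro a
    rw [hA, hA]
    constructor
    · rintro ⟨i, rfl⟩
      exact ⟨k * i, (hui i).symm⟩
    · rintro ⟨i, hi⟩
      refine ⟨k ^ (d - 1) * i, ?_⟩
      rw [← hui' i, hi]
      group
  have hfin : Finite (Subgroup.zpowers z) := by
    apply Nat.finite_of_card_ne_zero
    rw [Nat.card_zpowers]
    exact (orderOf_pos_iff.2 (isOfFinOrder_iff_pow_eq_one.2 ⟨r, hr.pos, hz⟩)).ne'
  have hcard : (Nat.card (Subgroup.zpowers z) : K) ≠ 0 := by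
    rw [Nat.card_zpowers]
    rcases (Nat.dvd_prime hr).1 (orderOf_dvd_of_pow_eq_one hz) with h | h
    · rw [h, Nat.cast_one]; exact one_ne_zero
    · rw [h]; exact hrK
  obtain ⟨χ₀, h1, h2, m, hm⟩ := exists_fixed ρ (A := Subgroup.zpowers z) (by
      intro a ha b hb
      obtain ⟨i, rfl⟩ := (hA a).1 ha
      obtain ⟨j, rfl⟩ := (hA b).1 hb
      rw [← pow_add, ← pow_add, add_comm]) hcard (Z := ⊥) (by
      intro x hx
      rw [Subgroup.mem_bot] at hx
      exact ⟨1, by rw [hx, map_one, one_smul]⟩) hN (by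
      intro a ha
      obtain ⟨i, rfl⟩ := (hA a).1 ha
      refine ⟨1, Subgroup.mem_bot.2 rfl, z ^ (s * i), (hA _).2 ⟨_, rfl⟩, ?_⟩
      rw [hui, one_mul, eq_mul_inv_iff_mul_eq, ← pow_add]
      apply pow_mod hz
      have := (hs.mul_right i).symm
      rw [show (s + 1) * i = i + s * i by ring] at this
      rwa [mul_assoc] at this) hd (by
      intro a ha
      obtain ⟨i, rfl⟩ := (hA a).1 ha
      have h3 : u ^ d * z ^ i * (u ^ d)⁻¹ = z ^ i := by rw [← conj_pow, hud]
      rw [← mul_inv_eq_iff_eq_mul, h3])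
  have hχ : χ₀ = 1 := by
    rw [sg_eq_self] at h1
    have hzA : z ∈ Subgroup.zpowers z := Subgroup.mem_zpowers z
    set! ζ : Kˣ := χ₀ ⟨z, hzA⟩ with hζ
    have hζr : ζ ^ r = 1 := by
      rw [hζ, ← map_pow]
      have : (⟨z, hzA⟩ : Subgroup.zpowers z) ^ r = 1 := Subtype.ext hz
      rw [this, map_one]
    have h4 := h1 ⟨z, hzA⟩
    have h5 : (⟨u * z * u⁻¹, (hN z).1 hzA⟩ : Subgroup.zpowers z) = ⟨z, hzA⟩ ^ k := Subtype.ext hu
    rw [h5, map_pow, ← hζ] at h4
    have h6 : ζ = 1 := by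
      have h7 : ζ ^ (k * s) = ζ ^ (s + 1) := by
        have h8 : orderOf ζ ∣ r := orderOf_dvd_of_pow_eq_one hζr
        exact pow_eq_pow_iff_modEq.2 (hs.of_dvd h8)
      rw [pow_mul, h4, pow_succ] at h7
      exact (left_eq_mul.1 h7)
    ext a
    obtain ⟨i, hi⟩ := (hA a.1).1 a.2
    have h7 : a = ⟨z, hzA⟩ ^ i := Subtype.ext hi.symm
    rw [h7, map_pow, ← hζ, h6, one_pow]
    rfl
  refine ⟨m, ?_⟩
  rw [hm]
  congr 1
  unfold fx
  have h3 : W (rs ρ (Subgroup.zpowers z)) χ₀ = LinearMap.ker (ρ z - 1) := by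
    ext v
    rw [mem_W, mem_ker, hχ]
    constructor
    · intro h
      have := h ⟨z, Subgroup.mem_zpowers z⟩
      rw [MonoidHom.one_apply, Units.val_one, one_smul] at this
      exact this
    · intro h a
      obtain ⟨i, hi⟩ := (hA a.1).1 a.2
      rw [MonoidHom.one_apply, Units.val_one, one_smul]
      change ρ a.1 v = v
      rw [← hi]
      have key : ∀ i : ℕ, ρ (z ^ i) v = v := by
        intro i
        induction i with
        | zero => rw [pow_zero, map_one, Module.End.one_apply]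
        | succ i ih => rw [pow_succ, map_mul, Module.End.mul_apply, h, ih]
      exact key i
  rw [h3]

end norm

section split

variable {K V : Type*} [Field K] [AddCommGroup V] [Module K V] [FiniteDimensional K V]

/-- eigenspace in a submodule -/
def ei (U : Submodule K V) (X : Module.End K V) (c : K) : Submodule K V := U ⊓ LinearMap.ker (X - c • 1)

theorem mem_ei {U : Submodule K V} {X : Module.End K V} {c : K} {v : V} : v ∈ ei U X c ↔ v ∈ U ∧ X v = c • v := by
  unfold ei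
  rw [Submodule.mem_inf, LinearMap.mem_ker, LinearMap.sub_apply, LinearMap.smul_apply, Module.End.one_apply,
    sub_eq_zero]

/-- **Splitting under an element of order three.** -/
theorem split3 {U : Submodule K V} {X : Module.End K V} (hU : ∀ v ∈ U, X v ∈ U) (hX : ∀ v, X (X (X v)) = v) {ω : K}
    (hω : ω ^ 2 + ω + 1 = 0) (h3 : (3 : K) ≠ 0) :
    finrank K U = finrank K (ei U X 1) + finrank K (ei U X ω) + finrank K (ei U X (ω ^ 2)) := by
  have hω3 : ω ^ 3 = 1 := by linear_combination (ω - 1) * hω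
  have h33 : (3 : K)⁻¹ * 3 = 1 := inv_mul_cancel₀ h3
  have pm : ∀ v ∈ U, v + X v + X (X v) ∈ U ∧ v + ω ^ 2 • X v + ω • X (X v) ∈ U ∧
      v + ω • X v + ω ^ 2 • X (X v) ∈ U := fun v hv =>
    ⟨U.add_mem (U.add_mem hv (hU v hv)) (hU _ (hU v hv)),
      U.add_mem (U.add_mem hv (U.smul_mem _ (hU v hv))) (U.smul_mem _ (hU _ (hU v hv))),
      U.add_mem (U.add_mem hv (U.smul_mem _ (hU v hv))) (U.smul_mem _ (hU _ (hU v hv)))⟩
  have m1 : ∀ v ∈ U, (3 : K)⁻¹ • (v + X v + X (X v)) ∈ ei U X 1 := by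
    intro v hv
    refine mem_ei.2 ⟨U.smul_mem _ (pm v hv).1, ?_⟩
    rw [map_smul, map_add, map_add, hX, one_smul]
    congr 1
    abel
  have m2 : ∀ v ∈ U, (3 : K)⁻¹ • (v + ω ^ 2 • X v + ω • X (X v)) ∈ ei U X ω := by
    intro v hv
    refine mem_ei.2 ⟨U.smul_mem _ (pm v hv).2.1, ?_⟩
    rw [map_smul, map_add, map_add, map_smul, map_smul, hX, smul_comm ω]
    congr 1
    rw [smul_add, smul_add, smul_smul, smul_smul, ← pow_succ', hω3, one_smul, ← pow_two]
    abel
  have m3 : ∀ v ∈ U, (3 : K)⁻¹ • (v + ω • X v + ω ^ 2 • X (X v)) ∈ ei U X (ω ^ 2) := by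
    intro v hv
    refine mem_ei.2 ⟨U.smul_mem _ (pm v hv).2.2, ?_⟩
    rw [map_smul, map_add, map_add, map_smul, map_smul, hX, smul_comm (ω ^ 2)]
    congr 1
    rw [smul_add, smul_add, smul_smul, smul_smul, ← pow_succ, hω3, one_smul, ← pow_add,
      show ω ^ (2 + 2) = ω from by linear_combination ω * hω3]
    abel
  let f : U ≃ₗ[K] (ei U X 1 × ei U X ω) × ei U X (ω ^ 2) :=
    { toFun := fun v => ((⟨_, m1 v.1 v.2⟩, ⟨_, m2 v.1 v.2⟩), ⟨_, m3 v.1 v.2⟩)
      map_add' := by
        intro v w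
        refine Prod.ext (Prod.ext (Subtype.ext ?_) (Subtype.ext ?_)) (Subtype.ext ?_) <;>
          simp only [Submodule.coe_add, map_add, smul_add, Prod.fst_add, Prod.snd_add] <;> abel
      map_smul' := by
        intro c v
        refine Prod.ext (Prod.ext (Subtype.ext ?_) (Subtype.ext ?_)) (Subtype.ext ?_) <;>
          simp only [Submodule.coe_smul, map_smul, smul_add, Prod.smul_fst, Prod.smul_snd, RingHom.id_apply,
            smul_comm c]
      invFun := fun p => ⟨p.1.1.1 + p.1.2.1 + p.2.1,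
        U.add_mem (U.add_mem (mem_ei.1 p.1.1.2).1 (mem_ei.1 p.1.2.2).1) (mem_ei.1 p.2.2).1⟩
      left_inv := by
        intro v
        apply Subtype.ext
        change (3 : K)⁻¹ • (v.1 + X v.1 + X (X v.1)) + (3 : K)⁻¹ • (v.1 + ω ^ 2 • X v.1 + ω • X (X v.1)) +
          (3 : K)⁻¹ • (v.1 + ω • X v.1 + ω ^ 2 • X (X v.1)) = v.1
        have e : (3 : K)⁻¹ • (v.1 + X v.1 + X (X v.1)) + (3 : K)⁻¹ • (v.1 + ω ^ 2 • X v.1 + ω • X (X v.1)) +
          (3 : K)⁻¹ • (v.1 + ω • X v.1 + ω ^ 2 • X (X v.1)) = ((3 : K)⁻¹ * 3) • v.1 +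
            ((3 : K)⁻¹ * (ω ^ 2 + ω + 1)) • X v.1 + ((3 : K)⁻¹ * (ω ^ 2 + ω + 1)) • X (X v.1) := by
          module
        rw [e, hω, h33, mul_zero, zero_smul, zero_smul, one_smul, add_zero, add_zero]
      right_inv := by
        rintro ⟨⟨x, y⟩, z⟩
        have hx := (mem_ei.1 x.2).2
        have hy := (mem_ei.1 y.2).2
        have hz := (mem_ei.1 z.2).2
        rw [one_smul] at hx
        have e1 : X (x.1 + y.1 + z.1) = x.1 + ω • y.1 + ω ^ 2 • z.1 := by rw [map_add, map_add, hx, hy, hz]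
        have e2 : X (X (x.1 + y.1 + z.1)) = x.1 + ω ^ 2 • y.1 + ω • z.1 := by
          rw [e1, map_add, map_add, map_smul, map_smul, hx, hy, hz, smul_smul, smul_smul, ← pow_two, ← pow_add,
            show ω ^ (2 + 2) = ω from by linear_combination ω * hω3]
        refine Prod.ext (Prod.ext (Subtype.ext ?_) (Subtype.ext ?_)) (Subtype.ext ?_)
        · change (3 : K)⁻¹ • ((x.1 + y.1 + z.1) + X (x.1 + y.1 + z.1) + X (X (x.1 + y.1 + z.1))) = x.1
          rw [e2, e1]
          have e : (3 : K)⁻¹ • ((x.1 + y.1 + z.1) + (x.1 + ω • y.1 + ω ^ 2 • z.1) + (x.1 + ω ^ 2 • y.1 + ω • z.1)) =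
            ((3 : K)⁻¹ * 3) • x.1 + ((3 : K)⁻¹ * (ω ^ 2 + ω + 1)) • y.1 + ((3 : K)⁻¹ * (ω ^ 2 + ω + 1)) • z.1 := by
            module
          rw [e, hω, h33, mul_zero, zero_smul, zero_smul, one_smul, add_zero, add_zero]
        · change (3 : K)⁻¹ • ((x.1 + y.1 + z.1) + ω ^ 2 • X (x.1 + y.1 + z.1) + ω • X (X (x.1 + y.1 + z.1))) = y.1
          rw [e2, e1]
          have e : (3 : K)⁻¹ • ((x.1 + y.1 + z.1) + ω ^ 2 • (x.1 + ω • y.1 + ω ^ 2 • z.1) +
              ω • (x.1 + ω ^ 2 • y.1 + ω • z.1)) =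
            ((3 : K)⁻¹ * (ω ^ 2 + ω + 1)) • x.1 + ((3 : K)⁻¹ * (1 + 2 * ω ^ 3)) • y.1 +
              ((3 : K)⁻¹ * (1 + ω ^ 3 * ω + ω ^ 2)) • z.1 := by
            module
          rw [e, hω3, one_mul, show (1 + ω + ω ^ 2 : K) = ω ^ 2 + ω + 1 by ring, hω,
            show (1 + 2 * 1 : K) = 3 by norm_num, h33, mul_zero, zero_smul, zero_smul, one_smul, add_zero, zero_add]
        · change (3 : K)⁻¹ • ((x.1 + y.1 + z.1) + ω • X (x.1 + y.1 + z.1) + ω ^ 2 • X (X (x.1 + y.1 + z.1))) = z.1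
          rw [e2, e1]
          have e : (3 : K)⁻¹ • ((x.1 + y.1 + z.1) + ω • (x.1 + ω • y.1 + ω ^ 2 • z.1) +
              ω ^ 2 • (x.1 + ω ^ 2 • y.1 + ω • z.1)) =
            ((3 : K)⁻¹ * (ω ^ 2 + ω + 1)) • x.1 + ((3 : K)⁻¹ * (1 + ω ^ 2 + ω ^ 3 * ω)) • y.1 +
              ((3 : K)⁻¹ * (1 + 2 * ω ^ 3)) • z.1 := by
            module
          rw [e, hω3, one_mul, show (1 + ω ^ 2 + ω : K) = ω ^ 2 + ω + 1 by ring, hω,
            show (1 + 2 * 1 : K) = 3 by norm_num, h33, mul_zero, zero_smul, zero_smul, one_smul, add_zero, zero_add] }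
  rw [f.finrank_eq, finrank_prod, finrank_prod]

end split

section nine

variable {L K V : Type*} [Group L] [Field K] [AddCommGroup V] [Module K V] [FiniteDimensional K V]
  {ρ : L →* Module.End K V}

/-- **Elements of order three conjugate to their products with a scalar.** -/
theorem fx_three {x b ζ : L} (hx : x ^ 3 = 1) {c : K} (hc : c ^ 2 + c + 1 = 0) (h3 : (3 : K) ≠ 0) (hζ : ρ ζ = c • 1)
    (hb : b * x * b⁻¹ = ζ * x) : finrank K V = 3 * fx ρ x := by
  have hc3 : c ^ 3 = 1 := by linear_combination (c - 1) * hc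
  have hX : ∀ v, ρ x (ρ x (ρ x v)) = v := by
    intro v
    rw [← Module.End.mul_apply, ← Module.End.mul_apply, ← map_mul, ← map_mul, ← pow_two, ← pow_succ, hx, map_one,
      Module.End.one_apply]
  have h1 := split3 (U := (⊤ : Submodule K V)) (fun v _ => trivial) hX hc h3
  have e1 : ∀ d : K, finrank K (ei (⊤ : Submodule K V) (ρ x) d) = finrank K (LinearMap.ker (ρ x - d • 1)) := by
    intro d
    unfold ei
    rw [top_inf_eq]
  have hm : ∀ (X : Module.End K V) (d : K) (v : V), v ∈ LinearMap.ker (X - d • 1) ↔ X v = d • v := by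
    intro X d v
    rw [LinearMap.mem_ker, LinearMap.sub_apply, LinearMap.smul_apply, Module.End.one_apply, sub_eq_zero]
  have e2 : ∀ d : K, finrank K (LinearMap.ker (ρ x - (c ^ 2 * d) • (1 : Module.End K V))) =
      finrank K (LinearMap.ker (ρ x - d • (1 : Module.End K V))) := by
    intro d
    rw [← finrank_conj (ρ := ρ) x b d, hb]
    have h2 : LinearMap.ker (ρ (ζ * x) - d • (1 : Module.End K V)) =
        LinearMap.ker (ρ x - (c ^ 2 * d) • (1 : Module.End K V)) := by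
      ext v
      rw [hm, hm, map_mul, hζ, Module.End.mul_apply, LinearMap.smul_apply, Module.End.one_apply]
      constructor
      · intro h
        have h4 := congrArg (fun w => c ^ 2 • w) h
        simp only [smul_smul] at h4
        rw [← h4, ← pow_succ, hc3, one_smul]
      · intro h
        rw [h, smul_smul, ← mul_assoc, ← pow_succ', hc3, one_mul]
    rw [h2]
  have e3 := e2 1
  have e4 := e2 (c ^ 2)
  rw [show c ^ 2 * 1 = c ^ 2 by ring] at e3
  rw [show c ^ 2 * c ^ 2 = c by linear_combination c * hc3] at e4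
  have e5 : finrank K (LinearMap.ker (ρ x - (1 : K) • (1 : Module.End K V))) = fx ρ x := by
    unfold fx
    rw [one_smul]
  rw [finrank_top, e1, e1, e1] at h1
  omega

/-- the joint eigenspaces -/
def je (ρ : L →* Module.End K V) (a b : L) (c d : K) : Submodule K V := ei (ei ⊤ (ρ a) c) (ρ b) d

theorem mem_je {a b : L} {c d : K} {v : V} : v ∈ je ρ a b c d ↔ ρ a v = c • v ∧ ρ b v = d • v := by
  unfold je
  rw [mem_ei, mem_ei]
  simp

theorem je_conj {a b a' b' g : L} {c d c' d' : K} (h : ∀ v, v ∈ je ρ a b c d → ρ g v ∈ je ρ a' b' c' d')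
    (h' : ∀ v, v ∈ je ρ a' b' c' d' → ρ g⁻¹ v ∈ je ρ a b c d) :
    finrank K (je ρ a b c d) = finrank K (je ρ a' b' c' d') :=
  LinearEquiv.finrank_eq
    { toFun := fun v => ⟨ρ g v.1, h v.1 v.2⟩
      map_add' := fun v w => Subtype.ext (map_add _ _ _)
      map_smul' := fun c v => Subtype.ext (map_smul _ _ _)
      invFun := fun v => ⟨ρ g⁻¹ v.1, h' v.1 v.2⟩
      left_inv := fun v => Subtype.ext (rho_inv g _)
      right_inv := fun v => Subtype.ext (rho_inv' g _) }

theorem je_move {a b g : L} {a' b' : L} (h1 : g * a * g⁻¹ = a') (h2 : g * b * g⁻¹ = b') (c d : K) :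
    finrank K (je ρ a b c d) = finrank K (je ρ a' b' c d) := by
  subst h1 h2
  apply je_conj (g := g)
  · intro v hv
    rw [mem_je] at hv ⊢
    constructor
    · rw [map_mul, map_mul, Module.End.mul_apply, Module.End.mul_apply, rho_inv, hv.1, map_smul]
    · rw [map_mul, map_mul, Module.End.mul_apply, Module.End.mul_apply, rho_inv, hv.2, map_smul]
  · intro v hv
    rw [mem_je] at hv ⊢
    obtain ⟨hv1, hv2⟩ := hv
    rw [map_mul, map_mul, Module.End.mul_apply, Module.End.mul_apply] at hv1 hv2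
    exact ⟨by rw [← rho_inv (ρ := ρ) g (ρ a (ρ g⁻¹ v)), hv1, map_smul],
      by rw [← rho_inv (ρ := ρ) g (ρ b (ρ g⁻¹ v)), hv2, map_smul]⟩

/-- their dimension -/
noncomputable def jm (ρ : L →* Module.End K V) (a b : L) (c d : K) : ℕ := finrank K (je ρ a b c d)

/-- **The group `3 ^ 2` with a quaternion group.** -/
theorem fx_nine {a b q₁ q₂ : L} (ha : a ^ 3 = 1) (hb : b ^ 3 = 1) (hab : a * b = b * a)
    (h1 : q₁ * a * q₁⁻¹ = b) (h2 : q₁ * b * q₁⁻¹ = a ^ 2) (h3 : q₂ * a * q₂⁻¹ = a * b)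
    (h4 : q₂ * b * q₂⁻¹ = a * b ^ 2) {ω : K} (hω : ω ^ 2 + ω + 1 = 0) (hK : (3 : K) ≠ 0) (hn : finrank K V < 16)
    (ha1 : ρ a ≠ 1) : finrank K V = fx ρ a + 6 ∧ 8 ≤ finrank K V := by
  have hω3 : ω ^ 3 = 1 := by linear_combination (ω - 1) * hω
  have cube : ∀ {x : L}, x ^ 3 = 1 → ∀ v, ρ x (ρ x (ρ x v)) = v := by
    intro x hx v
    rw [← Module.End.mul_apply, ← Module.End.mul_apply, ← map_mul, ← map_mul, ← pow_two, ← pow_succ, hx, map_one,
      Module.End.one_apply]
  have e0 := split3 (U := (⊤ : Submodule K V)) (fun v _ => trivial) (cube ha) hω hK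
  have inv : ∀ c : K, ∀ v ∈ ei (⊤ : Submodule K V) (ρ a) c, ρ b v ∈ ei (⊤ : Submodule K V) (ρ a) c := by
    intro c v hv
    rw [mem_ei] at hv ⊢
    refine ⟨trivial, ?_⟩
    rw [← Module.End.mul_apply, ← map_mul, hab, map_mul, Module.End.mul_apply, hv.2, map_smul]
  have e1 := split3 (inv 1) (cube hb) hω hK
  have e2 := split3 (inv ω) (cube hb) hω hK
  have e3 := split3 (inv (ω ^ 2)) (cube hb) hω hK
  -- the two moves
  have m1 : ∀ c d : K, c ^ 3 = 1 → d ^ 3 = 1 → finrank K (je ρ a b c d) = finrank K (je ρ a b (d ^ 2) c) := by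
    intro c d hc hd
    rw [je_move h1 h2 c d]
    have : je ρ b (a ^ 2) c d = je ρ a b (d ^ 2) c := by
      ext v
      rw [mem_je, mem_je]
      have haa : ∀ w, ρ (a ^ 2) w = ρ a (ρ a w) := fun w => by rw [pow_two, map_mul, Module.End.mul_apply]
      constructor
      · rintro ⟨k1, k2⟩
        refine ⟨?_, k1⟩
        rw [haa] at k2
        have k3 := congrArg (ρ a) k2
        rw [cube ha, map_smul] at k3
        have k4 := congrArg (fun w => d ^ 2 • w) k3
        simp only [smul_smul] at k4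
        rw [← pow_succ, hd, one_smul] at k4
        exact k4.symm
      · rintro ⟨k1, k2⟩
        refine ⟨k2, ?_⟩
        rw [haa, k1, map_smul, k1, smul_smul, ← pow_add, show d ^ (2 + 2) = d by linear_combination d * hd]
    rw [this]
  have m2 : ∀ c d : K, c ^ 3 = 1 → d ^ 3 = 1 →
      finrank K (je ρ a b c d) = finrank K (je ρ a b (c ^ 2 * d ^ 2) (c ^ 2 * d)) := by
    intro c d hc hd
    rw [je_move h3 h4 c d]
    have : je ρ (a * b) (a * b ^ 2) c d = je ρ a b (c ^ 2 * d ^ 2) (c ^ 2 * d) := by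
      ext v
      rw [mem_je, mem_je]
      have f1 : ∀ w, ρ (a * b) w = ρ a (ρ b w) := fun w => by rw [map_mul, Module.End.mul_apply]
      have f2 : ∀ w, ρ (a * b ^ 2) w = ρ a (ρ b (ρ b w)) := fun w => by
        rw [pow_two, map_mul, map_mul, Module.End.mul_apply, Module.End.mul_apply]
      have hc2 : ∀ w : V, c ^ 2 • c • w = w := fun w => by rw [smul_smul, ← pow_succ, hc, one_smul]
      constructor
      · rintro ⟨k1, k2⟩
        rw [f1] at k1
        rw [f2] at k2
        have hcm : ∀ w, ρ b (ρ a w) = ρ a (ρ b w) := fun w => by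
          rw [← Module.End.mul_apply, ← map_mul, ← hab, map_mul, Module.End.mul_apply]
        -- `c • b v = d • v`
        have k3 : c • ρ b v = d • v := by
          rw [← map_smul, ← k1, hcm, k2]
        have k4 : ρ b v = (c ^ 2 * d) • v := by
          have := congrArg (fun w => c ^ 2 • w) k3
          simp only [smul_smul] at this
          rw [← pow_succ, hc, one_smul] at this
          exact this
        refine ⟨?_, k4⟩
        rw [k4, map_smul] at k1
        have := congrArg (fun w => (c * d ^ 2) • w) k1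
        simp only [smul_smul] at this
        rw [show c * d ^ 2 * (c ^ 2 * d) = 1 by
          calc c * d ^ 2 * (c ^ 2 * d) = c ^ 3 * d ^ 3 := by ring
            _ = 1 := by rw [hc, hd, one_mul], one_smul] at this
        rw [this]
        congr 1
        ring
      · rintro ⟨k1, k2⟩
        constructor
        · rw [f1, k2, map_smul, k1, smul_smul]
          congr 1
          calc c ^ 2 * d * (c ^ 2 * d ^ 2) = c * c ^ 3 * d ^ 3 := by ring
            _ = c := by rw [hc, hd, mul_one, mul_one]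
        · rw [f2, k2, map_smul, k2, smul_smul, map_smul, k1, smul_smul]
          congr 1
          calc c ^ 2 * d * (c ^ 2 * d) * (c ^ 2 * d ^ 2) = (c ^ 3) ^ 2 * d ^ 3 * d := by ring
            _ = d := by rw [hc, hd, one_pow, one_mul, one_mul]
    rw [this]
  have p1 : (1 : K) ^ 3 = 1 := one_pow _
  have p2 : (ω ^ 2) ^ 3 = 1 := by rw [← pow_mul, mul_comm, pow_mul, hω3, one_pow]
  have w4 : ω ^ 2 * ω ^ 2 = ω := by linear_combination ω * hω3
  have w3 : ω ^ 2 * ω = 1 := by linear_combination hω3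
  have w3' : ω * ω ^ 2 = 1 := by linear_combination hω3
  have w4' : (ω ^ 2) ^ 2 = ω := by rw [pow_two, w4]
  have m1' : ∀ c d : K, c ^ 3 = 1 → d ^ 3 = 1 → jm ρ a b c d = jm ρ a b (d ^ 2) c := m1
  have m2' : ∀ c d : K, c ^ 3 = 1 → d ^ 3 = 1 → jm ρ a b c d = jm ρ a b (c ^ 2 * d ^ 2) (c ^ 2 * d) := m2
  -- m (i, j) = m (2j, i) = m (2i - j, j - i)
  have a1 := m1' 1 ω p1 hω3
  have a2 := m1' 1 (ω ^ 2) p1 p2
  have a3 := m1' ω 1 hω3 p1
  have a4 := m1' (ω ^ 2) 1 p2 p1
  have a5 := m1' ω ω hω3 hω3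
  have a6 := m1' ω (ω ^ 2) hω3 p2
  have a7 := m1' (ω ^ 2) ω p2 hω3
  have a8 := m1' (ω ^ 2) (ω ^ 2) p2 p2
  have b1 := m2' 1 ω p1 hω3
  have b2 := m2' 1 (ω ^ 2) p1 p2
  have b3 := m2' ω 1 hω3 p1
  have b4 := m2' (ω ^ 2) 1 p2 p1
  simp only [one_pow, one_mul, mul_one, w4', w4, w3, w3'] at a2
  simp only [one_pow, one_mul, mul_one, w4', w4, w3, w3'] at a3
  simp only [one_pow, one_mul, mul_one, w4', w4, w3, w3'] at a4
  simp only [one_pow, one_mul, mul_one, w4', w4, w3, w3'] at a6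
  simp only [one_pow, one_mul, mul_one, w4', w4, w3, w3'] at a8
  simp only [one_pow, one_mul, mul_one, w4', w4, w3, w3'] at b1
  simp only [one_pow, one_mul, mul_one, w4', w4, w3, w3'] at b2
  simp only [one_pow, one_mul, mul_one, w4', w4, w3, w3'] at b3
  simp only [one_pow, one_mul, mul_one, w4', w4, w3, w3'] at b4
  have t : finrank K V = jm ρ a b 1 1 + 8 * jm ρ a b 1 ω := by
    rw [finrank_top, e1, e2, e3] at e0
    change finrank K V = (jm ρ a b 1 1 + jm ρ a b 1 ω + jm ρ a b 1 (ω ^ 2)) +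
      (jm ρ a b ω 1 + jm ρ a b ω ω + jm ρ a b ω (ω ^ 2)) +
      (jm ρ a b (ω ^ 2) 1 + jm ρ a b (ω ^ 2) ω + jm ρ a b (ω ^ 2) (ω ^ 2)) at e0
    clear e1 e2 e3
    omega
  have f : fx ρ a = jm ρ a b 1 1 + 2 * jm ρ a b 1 ω := by
    have h5 : fx ρ a = finrank K (ei (⊤ : Submodule K V) (ρ a) 1) := by
      unfold fx ei
      rw [top_inf_eq, one_smul]
    rw [h5, e1]
    change (jm ρ a b 1 1 + jm ρ a b 1 ω + jm ρ a b 1 (ω ^ 2)) = _
    clear e0 e1 e2 e3
    omega
  have hne : fx ρ a ≠ finrank K V := fun h => ha1 ((fx_eq_iff a).1 h)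
  clear e0 e1 e2 e3
  (clear * - hn t f hne; omega)

end nine

section trace

variable {L K V : Type*} [Group L] [Field K] [AddCommGroup V] [Module K V] [FiniteDimensional K V]
  {ρ : L →* Module.End K V}

/-- **The sum of the traces of the powers.** -/
theorem sum_trace {z : L} {r : ℕ} (hr : (r : K) ≠ 0) (hz : z ^ r = 1) :
    ∑ k ∈ Finset.range r, LinearMap.trace K V (ρ (z ^ k)) = r * fx ρ z := by
  set! N : Module.End K V := (r : K)⁻¹ • ∑ k ∈ Finset.range r, ρ (z ^ k) with hN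
  have hzN : ρ z * N = N := by
    rw [hN, mul_smul_comm, Finset.mul_sum]
    congr 1
    have h3 : ∀ k, ρ z * ρ (z ^ k) = ρ (z ^ (k + 1)) := fun k => by rw [← map_mul, ← pow_succ']
    rw [Finset.sum_congr rfl (fun k _ => h3 k)]
    have h4 := Finset.sum_range_succ' (fun k => ρ (z ^ k)) r
    have h5 := Finset.sum_range_succ (fun k => ρ (z ^ k)) r
    rw [h4, hz, pow_zero] at h5
    exact add_right_cancel h5
  have hp : LinearMap.IsProj (LinearMap.ker (ρ z - 1)) N := by
    constructor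
    · intro v
      rw [mem_ker, ← Module.End.mul_apply, hzN]
    · intro v hv
      rw [mem_ker] at hv
      have key : ∀ i : ℕ, ρ (z ^ i) v = v := by
        intro i
        induction i with
        | zero => rw [pow_zero, map_one, Module.End.one_apply]
        | succ i ih => rw [pow_succ, map_mul, Module.End.mul_apply, hv, ih]
      rw [hN, LinearMap.smul_apply, LinearMap.sum_apply, Finset.sum_congr rfl (fun k _ => key k), Finset.sum_const,
        Finset.card_range, ← Nat.cast_smul_eq_nsmul K, smul_smul, inv_mul_cancel₀ hr, one_smul]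
  have h1 := hp.trace
  rw [hN, map_smul, map_sum, smul_eq_mul] at h1
  unfold fx
  rw [← h1, ← mul_assoc, mul_inv_cancel₀ hr, one_mul]

end trace

end Cfsg.Agent.H921.M22.Fix
end

-- part: H921/M22/Rep
section
/-!
# Representations of `M22` and `3.M22` in characteristic two

* `one` : a faithful irreducible representation of `M22` of degree at most 12 has degree 10; elements of order 11 fix
  nothing, elements of order 7 fix a line;
* `three` : for `3.M22` : degree 6, or 12.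
-/

set_option autoImplicit false
set_option linter.unusedSectionVars false

namespace Cfsg.Agent.H921.M22.Rp

open Cfsg Module Fix Facts

section basic

variable {L K V : Type*} [Group L] [Field K] [AddCommGroup V] [Module K V] {ρ : L →* Module.End K V}

theorem fixed_pow {z : L} {v : V} (h : ρ z v = v) {x : L} (hx : x ∈ Subgroup.zpowers z) : ρ x v = v := by
  let S : Subgroup L :=
    { carrier := {x | ρ x v = v}
      one_mem' := by
        change ρ 1 v = v
        rw [map_one, Module.End.one_apply]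
      mul_mem' := by
        intro x y (hx : ρ x v = v) (hy : ρ y v = v)
        change ρ (x * y) v = v
        rw [map_mul, Module.End.mul_apply, hy, hx]
      inv_mem' := by
        intro x (hx : ρ x v = v)
        change ρ x⁻¹ v = v
        conv_lhs => rw [← hx]
        exact rho_inv x v }
  have h1 : Subgroup.zpowers z ≤ S := by
    rw [Subgroup.zpowers_le]
    exact h
  exact h1 hx

theorem fx_zpowers {z z' : L} (h : z' ∈ Subgroup.zpowers z) (h' : z ∈ Subgroup.zpowers z') : fx ρ z = fx ρ z' := by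
  unfold fx
  have h1 : LinearMap.ker (ρ z - 1) = LinearMap.ker (ρ z' - 1) := by
    ext v
    rw [mem_ker, mem_ker]
    exact ⟨fun hv => fixed_pow hv h, fun hv => fixed_pow hv h'⟩
  rw [h1]

/-- subgroups of order `r` are conjugate -/
theorem exists_conj [Finite L] {r : ℕ} (hr : r.Prime) (hT : ¬ r ^ 2 ∣ Nat.card L) {z z' : L} (hz : orderOf z = r)
    (hz' : orderOf z' = r) : ∃ g : L, g * z * g⁻¹ ∈ Subgroup.zpowers z' := by
  have : Fact r.Prime := ⟨hr⟩
  have hf : (Nat.card L).factorization r = 1 := by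
    have h1 : r ∣ Nat.card L := by rw [← hz]; exact orderOf_dvd_natCard z
    have h2 : Nat.card L ≠ 0 := Nat.card_pos.ne'
    have h3 := (hr.dvd_iff_one_le_factorization h2).1 h1
    have h4 : ¬ 2 ≤ (Nat.card L).factorization r := fun h => hT ((hr.pow_dvd_iff_le_factorization h2).2 h)
    omega
  let S : Sylow r L := Sylow.ofCard (Subgroup.zpowers z) (by rw [Nat.card_zpowers, hz, hf, pow_one])
  let S₀ : Sylow r L := Sylow.ofCard (Subgroup.zpowers z') (by rw [Nat.card_zpowers, hz', hf, pow_one])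
  obtain ⟨g, hg⟩ := MulAction.exists_smul_eq L S S₀
  refine ⟨g, ?_⟩
  have h1 : g * z * g⁻¹ ∈ (g • S : Sylow r L) := by
    rw [Sylow.smul_def]
    exact ⟨z, Subgroup.mem_zpowers z, rfl⟩
  rw [hg] at h1
  exact h1

theorem orderOf_conj (g z : L) : orderOf (g * z * g⁻¹) = orderOf z := by
  have := orderOf_injective (MulAut.conj g).toMonoidHom (MulAut.conj g).injective z
  simpa using this

theorem fx_prime [Finite L] {r : ℕ} (hr : r.Prime) (hT : ¬ r ^ 2 ∣ Nat.card L) {z z' : L} (hz : orderOf z = r)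
    (hz' : orderOf z' = r) : fx ρ z = fx ρ z' := by
  obtain ⟨g, hg⟩ := exists_conj hr hT hz hz'
  rw [← fx_conj z g]
  refine (fx_zpowers hg ?_).symm
  have h1 : Subgroup.zpowers (g * z * g⁻¹) ≤ Subgroup.zpowers z' := (Subgroup.zpowers_le).2 hg
  have h2 : Subgroup.zpowers (g * z * g⁻¹) = Subgroup.zpowers z' := by
    apply Subgroup.eq_of_le_of_card_ge h1
    rw [Nat.card_zpowers, Nat.card_zpowers, orderOf_conj, hz, hz']
  rw [h2]
  exact Subgroup.mem_zpowers z'

/-- the trace -/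
noncomputable abbrev tc (ρ : L →* Module.End K V) (g : L) : K := LinearMap.trace K V (ρ g)

theorem tc_conj (g h : L) : tc ρ (h * g * h⁻¹) = tc ρ g := by
  unfold tc
  rw [map_mul, LinearMap.trace_mul_comm, ← map_mul]
  congr 2
  group

theorem tc_isConj {g h : L} (hc : IsConj g h) : tc ρ g = tc ρ h := by
  obtain ⟨c, rfl⟩ := isConj_iff.1 hc
  exact (tc_conj g c).symm

theorem tc_cyc {z u : L} {k : ℕ} (hu : u * z * u⁻¹ = z ^ k) (i : ℕ) : tc ρ (z ^ (k * i)) = tc ρ (z ^ i) := by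
  rw [pow_mul, ← hu, conj_pow, tc_conj]

variable [FiniteDimensional K V]

theorem tc_one : tc ρ 1 = (finrank K V : K) := by
  unfold tc
  rw [map_one, LinearMap.trace_one]

theorem sum_eleven {z u : L} (hr : ((11 : ℕ) : K) ≠ 0) (hz : z ^ 11 = 1) (hu : u * z * u⁻¹ = z ^ 3) :
    (finrank K V : K) + 5 * tc ρ z + 5 * tc ρ (z ^ 2) = 11 * (fx ρ z : K) := by
  have h1 := sum_trace (ρ := ρ) hr hz
  have h := tc_cyc (ρ := ρ) hu
  have m : ∀ {i j : ℕ}, i ≡ j [MOD 11] → tc ρ (z ^ i) = tc ρ (z ^ j) := fun hij => by rw [pow_mod hz hij]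
  have a1 : tc ρ (z ^ 3) = tc ρ (z ^ 1) := h 1
  have a2 : tc ρ (z ^ 9) = tc ρ (z ^ 3) := h 3
  have a3 : tc ρ (z ^ 5) = tc ρ (z ^ 9) := (m (by decide)).trans (h 9)
  have a4 : tc ρ (z ^ 4) = tc ρ (z ^ 5) := (m (by decide)).trans (h 5)
  have b1 : tc ρ (z ^ 6) = tc ρ (z ^ 2) := h 2
  have b2 : tc ρ (z ^ 7) = tc ρ (z ^ 6) := (m (by decide)).trans (h 6)
  have b3 : tc ρ (z ^ 10) = tc ρ (z ^ 7) := (m (by decide)).trans (h 7)
  have b4 : tc ρ (z ^ 8) = tc ρ (z ^ 10) := (m (by decide)).trans (h 10)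
  have e0 : tc ρ (z ^ 0) = (finrank K V : K) := by rw [pow_zero, tc_one]
  have e1 : tc ρ (z ^ 1) = tc ρ z := by rw [pow_one]
  simp only [Finset.sum_range_succ, Finset.sum_range_zero, zero_add] at h1
  unfold tc at *
  push_cast at h1
  rw [e0, b4, b3, b2, b1, a4, a3, a2, a1, e1] at h1
  linear_combination h1

theorem sum_seven {z u : L} (hr : ((7 : ℕ) : K) ≠ 0) (hz : z ^ 7 = 1) (hu : u * z * u⁻¹ = z ^ 2) :
    (finrank K V : K) + 3 * tc ρ z + 3 * tc ρ z⁻¹ = 7 * (fx ρ z : K) := by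
  have h1 := sum_trace (ρ := ρ) hr hz
  have h := tc_cyc (ρ := ρ) hu
  have m : ∀ {i j : ℕ}, i ≡ j [MOD 7] → tc ρ (z ^ i) = tc ρ (z ^ j) := fun hij => by rw [pow_mod hz hij]
  have a1 : tc ρ (z ^ 2) = tc ρ (z ^ 1) := h 1
  have a2 : tc ρ (z ^ 4) = tc ρ (z ^ 2) := h 2
  have b1 : tc ρ (z ^ 5) = tc ρ (z ^ 6) := (m (by decide)).trans (h 6)
  have b2 : tc ρ (z ^ 3) = tc ρ (z ^ 5) := (m (by decide)).trans (h 5)
  have e0 : tc ρ (z ^ 0) = (finrank K V : K) := by rw [pow_zero, tc_one]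
  have e1 : tc ρ (z ^ 1) = tc ρ z := by rw [pow_one]
  have e2 : tc ρ (z ^ 6) = tc ρ z⁻¹ := by
    have : z ^ 6 = z⁻¹ := by rw [eq_inv_iff_mul_eq_one, ← pow_succ, hz]
    rw [this]
  simp only [Finset.sum_range_succ, Finset.sum_range_zero, zero_add] at h1
  unfold tc at *
  push_cast at h1
  rw [e0, b2, b1, a2, a1, e1, e2] at h1
  linear_combination h1

end basic

/-! ### `M22` -/

section one

variable {K V : Type*} [Field K] [IsAlgClosed K] [CharP K 2] [AddCommGroup V] [Module K V] [FiniteDimensional K V]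

theorem odd_ne {r : ℕ} (h : r % 2 = 1) : (r : K) ≠ 0 := by
  intro h0
  rw [CharP.cast_eq_zero_iff K 2] at h0
  omega

theorem exists_omega : ∃ ω : K, ω ^ 2 + ω + 1 = 0 := by
  have h3 : ((3 : ℕ) : K) ≠ 0 := odd_ne (by norm_num)
  have : NeZero ((3 : ℕ) : K) := ⟨h3⟩
  obtain ⟨ω, hω⟩ := IsAlgClosed.exists_root (Polynomial.X ^ 2 + Polynomial.X + 1 : Polynomial K) (by
    have : (Polynomial.X ^ 2 + Polynomial.X + 1 : Polynomial K).degree = 2 := by compute_degree!
    rw [this]; norm_num)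
  exact ⟨ω, by simpa only [Polynomial.IsRoot, _root_.Polynomial.eval_add, _root_.Polynomial.eval_pow, _root_.Polynomial.eval_X, _root_.Polynomial.eval_one] using hω⟩

variable {ρ : Spor.M22 →* Module.End K V}

/-- **`M22` in dimension at most 12 and characteristic two.** -/
theorem one (D : Dat ρ (MonoidHom.id Spor.M22)) (hinj : Function.Injective ρ) (hn : finrank K V ≤ 12) :
    finrank K V = 10 ∧ (∀ z : Spor.M22, orderOf z = 11 → fx ρ z = 0) ∧ (∀ z : Spor.M22, orderOf z = 7 → fx ρ z = 1) := by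
  obtain ⟨ω, hω⟩ := exists_omega (K := K)
  obtain ⟨a, b, q₁, q₂, hN⟩ := nine
  have h3 : (3 : K) ≠ 0 := by
    have := odd_ne (K := K) (r := 3) (by norm_num)
    exact_mod_cast this
  have nt : ∀ {g : Spor.M22}, g ≠ 1 → ρ g ≠ 1 := fun hg h => hg (hinj (by rw [h, map_one]))
  have no : ∀ {g : Spor.M22} {r : ℕ}, 1 < r → orderOf g = r → g ≠ 1 := by
    rintro g r hr hg rfl
    rw [orderOf_one] at hg
    omega
  obtain ⟨h9, h8⟩ := fx_nine (ρ := ρ) (by rw [← hN.ha, pow_orderOf_eq_one]) (by rw [← hN.hb, pow_orderOf_eq_one]) hN.hab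
    hN.h1 hN.h2 hN.h3 hN.h4 hω h3 (by omega) (nt (no (by norm_num) hN.ha))
  have f3 : ∀ x : Spor.M22, orderOf x = 3 → fx ρ x = fx ρ a := fun x hx => fx_isConj (three hx hN.ha)
  -- order 11
  have f11 : ∀ z : Spor.M22, orderOf z = 11 → ∃ m, finrank K V = fx ρ z + 5 * m ∧ fx ρ z ≠ finrank K V := by
    intro z hz
    obtain ⟨u, hu⟩ := eleven hz
    obtain ⟨m, hm⟩ := fx_norm (ρ := ρ) (by norm_num : Nat.Prime 11) (odd_ne (by norm_num)) (by norm_num : Nat.Prime 5)
      (by rw [← hz, pow_orderOf_eq_one]) hu (by decide) (s := 6) (by decide)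
    exact ⟨m, hm, fun h => nt (no (by norm_num) hz) ((fx_eq_iff z).1 h)⟩
  have f7 : ∀ z : Spor.M22, orderOf z = 7 → ∃ m, finrank K V = fx ρ z + 3 * m ∧ fx ρ z ≠ finrank K V := by
    intro z hz
    obtain ⟨u, hu⟩ := seven hz
    obtain ⟨m, hm⟩ := fx_norm (ρ := ρ) (by norm_num : Nat.Prime 7) (odd_ne (by norm_num)) (by norm_num : Nat.Prime 3)
      (by rw [← hz, pow_orderOf_eq_one]) hu (by decide) (s := 1) (by decide)
    exact ⟨m, hm, fun h => nt (no (by norm_num) hz) ((fx_eq_iff z).1 h)⟩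
  obtain ⟨x₁, y₁, e1, e2, e3, e4⟩ := gen_eleven
  obtain ⟨x₂, y₂, e5, e6, e7, e8⟩ := gen_seven
  obtain ⟨x₃, y₃, e9, e10, e11, e12⟩ := gen_zz
  have s1 := D.scott (g := x₁) (h := y₁) e4
  have s2 := D.scott (g := x₂) (h := y₂) e8
  have s3 := D.scott (g := x₃) (h := y₃) e12
  rw [f3 _ e1, f3 _ e2] at s1
  rw [f3 _ e5, f3 _ e6] at s2
  obtain ⟨m1, k1, l1⟩ := f11 _ e3
  obtain ⟨m2, k2, l2⟩ := f7 _ e7
  obtain ⟨m3, k3, l3⟩ := f11 _ e9
  obtain ⟨m4, k4, l4⟩ := f11 _ e10
  obtain ⟨m5, k5, l5⟩ := f11 _ e11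
  have hn10 : finrank K V = 10 := by (clear * - h9 h8 s1 s2 s3 k1 k2 k3 k4 k5; solve | lia | omega)
  refine ⟨hn10, ?_, ?_⟩
  · intro z hz
    rw [fx_prime (by norm_num) (by rw [card_M22]; norm_num) hz e3]
    (clear * - h9 s1 k1 hn10; omega)
  · intro z hz
    rw [fx_prime (by norm_num) (by rw [card_M22]; norm_num) hz e7]
    (clear * - h9 s2 k2 hn10; omega)

theorem one_tc (h10 : finrank K V = 10) (h11 : ∀ z : Spor.M22, orderOf z = 11 → fx ρ z = 0) {g : Spor.M22}
    (hg : ¬ 2 ∣ orderOf g) : tc ρ (g ^ 2) = tc ρ g := by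
  rcases odd hg with h | h | h | h | h
  · rw [orderOf_eq_one_iff] at h
    rw [h, one_pow]
  · have h1 : orderOf (g ^ 2) = 3 := by
      have : Fact (Nat.Prime 3) := ⟨Nat.prime_three⟩
      apply orderOf_eq_prime
      · rw [← pow_mul, mul_comm, pow_mul, ← h, pow_orderOf_eq_one, one_pow]
      · intro h1
        have := orderOf_dvd_of_pow_eq_one h1
        rw [h] at this
        omega
    exact tc_isConj (three h1 h)
  · obtain ⟨u, hu⟩ := five h
    have h1 := tc_cyc (ρ := ρ) hu 1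
    rwa [mul_one, pow_one] at h1
  · obtain ⟨u, hu⟩ := seven h
    have h1 := tc_cyc (ρ := ρ) hu 1
    rwa [mul_one, pow_one] at h1
  · obtain ⟨u, hu⟩ := eleven h
    have h1 := sum_eleven (ρ := ρ) (odd_ne (by norm_num)) (by rw [← h, pow_orderOf_eq_one]) hu
    rw [h11 g h, h10] at h1
    have h3 : (2 : K) = 0 := CharTwo.two_eq_zero
    push_cast at h1
    linear_combination h1 - (5 + 3 * tc ρ g + 2 * tc ρ (g ^ 2)) * h3

theorem one_seven (h10 : finrank K V = 10) (h7 : ∀ z : Spor.M22, orderOf z = 7 → fx ρ z = 1) {w : Spor.M22}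
    (hw : orderOf w = 7) : tc ρ w⁻¹ ≠ tc ρ w := by
  intro h
  obtain ⟨u, hu⟩ := seven hw
  have h1 := sum_seven (ρ := ρ) (odd_ne (by norm_num)) (by rw [← hw, pow_orderOf_eq_one]) hu
  rw [h7 w hw, h10, h] at h1
  have h3 : (2 : K) = 0 := CharTwo.two_eq_zero
  push_cast at h1
  have h4 : (1 : K) = 0 := by linear_combination (5 + 3 * tc ρ w - 3) * h3 - h1
  exact one_ne_zero h4

end one

end Cfsg.Agent.H921.M22.Rp
end

-- part: H921/M22/Rep3
section
/-!
# Representations of `3.M22` in characteristic two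

`Hyp ρ π` : `L = 3.M22`, `ρ` faithful irreducible.

* `Hyp.three` : lifts of elements of order 3 have order 3 and are conjugate to their products with a scalar;
* `Hyp.dims` : degree 6, or 12; the dimensions of the fixed spaces;
* `Hyp.tc` : `tr g² = tr g⁻¹` for `g` of odd order (degree 6).
-/

set_option autoImplicit false
set_option linter.unusedSectionVars false

namespace Cfsg.Agent.H921.M22.Rp

open Cfsg Module Facts
open Cfsg.Agent.H921.M22.Fix (Dat fx fx_three fx_norm fx_eq_iff)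

/-- a faithful irreducible representation of `3.M22` -/
structure Hyp {L K V : Type*} [Group L] [Field K] [AddCommGroup V] [Module K V] (ρ : L →* Module.End K V)
    (π : L →* Spor.M22) : Prop extends Dat ρ π where
  inj : Function.Injective ρ
  cen : π.ker ≤ Subgroup.center L
  perf : commutator L = ⊤
  card : Nat.card π.ker = 3

variable {L K V : Type*} [Group L] [Finite L] [Field K] [IsAlgClosed K] [CharP K 2] [AddCommGroup V] [Module K V]
  [FiniteDimensional K V] {ρ : L →* Module.End K V} {π : L →* Spor.M22} (H : Hyp ρ π)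

include H

theorem Hyp.cube {z : L} (hz : z ∈ π.ker) : z ^ 3 = 1 := by
  have h1 : (⟨z, hz⟩ : π.ker) ^ Nat.card π.ker = 1 := pow_card_eq_one'
  rw [H.card] at h1
  exact congrArg Subtype.val h1

theorem Hyp.comm {z : L} (hz : z ∈ π.ker) (g : L) : g * z = z * g := Subgroup.mem_center_iff.1 (H.cen hz) g

theorem Hyp.smul_inj {c d : K} (h : c • (1 : Module.End K V) = d • 1) : c = d := by
  have : Nontrivial V := by
    rw [← Module.finrank_pos_iff (R := K)]
    have := H.two
    omega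
  obtain ⟨v, hv⟩ := exists_ne (0 : V)
  have h1 := LinearMap.congr_fun h v
  rw [LinearMap.smul_apply, LinearMap.smul_apply, Module.End.one_apply] at h1
  exact smul_left_injective K hv h1

theorem Hyp.scal' {z : L} (hz : z ∈ π.ker) : ∃ c : K, ρ z = c • 1 ∧ c ^ 3 = 1 := by
  obtain ⟨c, hc⟩ := H.scal z hz
  refine ⟨c, hc, H.smul_inj ?_⟩
  have h1 := congrArg ρ (H.cube hz)
  rw [map_pow, hc, smul_pow, one_pow, map_one] at h1
  rw [h1, one_smul]

theorem Hyp.scal2 {z : L} (hz : z ∈ π.ker) (h1 : z ≠ 1) : ∃ c : K, ρ z = c • 1 ∧ c ^ 2 + c + 1 = 0 ∧ c ≠ 1 := by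
  obtain ⟨c, hc, h3⟩ := H.scal' hz
  have hne : c ≠ 1 := by
    rintro rfl
    apply h1
    apply H.inj
    rw [hc, one_smul, map_one]
  refine ⟨c, hc, ?_, hne⟩
  have h2 : (c - 1) * (c ^ 2 + c + 1) = 0 := by linear_combination h3
  exact (mul_eq_zero.1 h2).resolve_left (sub_ne_zero.2 hne)

theorem Hyp.exists_ne_one : ∃ z ∈ π.ker, z ≠ 1 := by
  by_contra hcon
  push Not at hcon
  have h1 : π.ker = ⊥ := by
    rw [eq_bot_iff]
    intro z hz
    exact Subgroup.mem_bot.2 (hcon z hz)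
  have h2 := H.card
  rw [h1, Subgroup.card_bot] at h2
  omega

/-- elements with the same image -/
theorem Hyp.exists_mul {g h : L} (hgh : π g = π h) : ∃ z ∈ π.ker, g = z * h :=
  ⟨g * h⁻¹, by rw [MonoidHom.mem_ker, map_mul, map_inv, hgh, mul_inv_cancel], by group⟩

/-- lifts of the two generators of `3 ^ 2` do not commute -/
theorem Hyp.not_comm {a b q₁ q₂ : Spor.M22} (N : Nine a b q₁ q₂) {A B : L} (hA : π A = a) (hB : π B = b) :
    A * B ≠ B * A := by
  intro hAB
  obtain ⟨E, hE, hE'⟩ := H968.TwoM22.exists_E (by rw [← N.ha, pow_orderOf_eq_one]) (by rw [← N.hb, pow_orderOf_eq_one])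
    N.hab N.ne
  obtain ⟨z, hz, hz1⟩ := H.exists_ne_one
  have key : ∀ x ∈ E.comap π, ∃ c ∈ π.ker, ∃ i j : ℕ, x = c * (A ^ i * B ^ j) := by
    intro x hx
    obtain ⟨i, -, j, -, hij⟩ := (hE' _).1 (Subgroup.mem_comap.1 hx)
    obtain ⟨c, hc, hcx⟩ := H.exists_mul (g := x) (h := A ^ i * B ^ j) (by
      rw [hij, map_mul, map_pow, map_pow, hA, hB])
    exact ⟨c, hc, i, j, hcx⟩
  have h1 := H906.T14.pow_index_eq_one H.perf (E.comap π) (by
    intro x hx y hy
    obtain ⟨c, hc, i, j, rfl⟩ := key x hx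
    obtain ⟨d, hd, k, l, rfl⟩ := key y hy
    have hAB' : Commute A B := hAB
    have h2 : Commute (A ^ i * B ^ j) (A ^ k * B ^ l) := by
      apply Commute.mul_left
      · exact ((Commute.refl A).pow_pow i k).mul_right (hAB'.pow_pow i l)
      · exact ((hAB'.symm).pow_pow j k).mul_right ((Commute.refl B).pow_pow j l)
    have hc' : ∀ g, Commute g c := fun g => H.comm hc g
    have hd' : ∀ g, Commute g d := fun g => H.comm hd g
    exact ((hd' _).mul_right (((hc' _).symm.mul_left h2))).eq) (H.cen hz)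
  have h2 : (E.comap π).index = 49280 := by
    rw [Subgroup.index_comap_of_surjective _ H.surj]
    have h3 := E.card_mul_index
    rw [hE, card_M22] at h3
    omega
  rw [h2] at h1
  have h3 := H.cube hz
  apply hz1
  have h4 : z ^ 49280 = z ^ 2 := by
    rw [show 49280 = 3 * 16426 + 2 by norm_num, pow_add, pow_mul, h3, one_pow, one_mul]
  rw [h4] at h1
  rw [pow_succ, h1, one_mul] at h3
  exact h3

/-- **Lifts of elements of order 3.** -/
theorem Hyp.three {x : L} (hx : orderOf (π x) = 3) : x ^ 3 = 1 ∧ ∃ b : L, ∃ ζ ∈ π.ker, ζ ≠ 1 ∧ b * x * b⁻¹ = ζ * x := by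
  obtain ⟨a, b, q₁, q₂, N⟩ := nine
  obtain ⟨A, hA⟩ := H.surj a
  obtain ⟨B, hB⟩ := H.surj b
  obtain ⟨Q, hQ⟩ := H.surj q₁
  have hne := H.not_comm N hA hB
  have hζ : B * A * B⁻¹ * A⁻¹ ∈ π.ker := by
    rw [MonoidHom.mem_ker, map_mul, map_mul, map_mul, map_inv, map_inv, hA, hB, ← N.hab]
    group
  have hζ1 : B * A * B⁻¹ * A⁻¹ ≠ 1 := by
    intro h
    apply hne
    have h2 : B * A = A * B := by
      calc B * A = (B * A * B⁻¹ * A⁻¹) * (A * B) := by group
        _ = A * B := by rw [h, one_mul]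
    exact h2.symm
  have hBA : B * A * B⁻¹ = (B * A * B⁻¹ * A⁻¹) * A := by group
  have hA3 : A ^ 3 = 1 := by
    have h1 : A ^ 3 ∈ π.ker := by rw [MonoidHom.mem_ker, map_pow, hA, ← N.ha, pow_orderOf_eq_one]
    have ha3 : a ^ 3 = 1 := by rw [← N.ha, pow_orderOf_eq_one]
    have h2 : Q * (Q * A * Q⁻¹) * Q⁻¹ * A ∈ π.ker := by
      rw [MonoidHom.mem_ker]
      simp only [map_mul, map_inv, hA, hQ]
      rw [N.h1, N.h2, ← pow_succ, ha3]
    set c := Q * (Q * A * Q⁻¹) * Q⁻¹ * A with hc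
    have h3 : Q * (Q * A * Q⁻¹) * Q⁻¹ = c * A⁻¹ := by rw [hc]; group
    have h4 : (Q * (Q * A * Q⁻¹) * Q⁻¹) ^ 3 = A ^ 3 := by
      rw [conj_pow, conj_pow, H.comm h1 Q, mul_inv_cancel_right, H.comm h1 Q, mul_inv_cancel_right]
    have h5 : (c * A⁻¹) ^ 3 = (A ^ 3)⁻¹ := by
      have h6 : Commute c A⁻¹ := (H.comm h2 A⁻¹).symm
      rw [h6.mul_pow, H.cube h2, one_mul, inv_pow]
    rw [h3, h5] at h4
    have h6 := H.cube h1
    have h7 : A ^ 3 * A ^ 3 = 1 := by
      have : A ^ 3 * (A ^ 3)⁻¹ = 1 := mul_inv_cancel _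
      rwa [h4] at this
    rw [pow_succ (A ^ 3) 2, pow_two, h7, one_mul] at h6
    exact h6
  obtain ⟨g, hg⟩ := isConj_iff.1 (Facts.three hx N.ha)
  obtain ⟨G, hG⟩ := H.surj g
  obtain ⟨c, hc, hcx⟩ := H.exists_mul (g := G * x * G⁻¹) (h := A) (by
    rw [map_mul, map_mul, map_inv, hG, hg, hA])
  set ζ := B * A * B⁻¹ * A⁻¹ with hζdef
  have hx' : x = G⁻¹ * (c * A) * G := by rw [← hcx]; group
  have hcA : (c * A) ^ 3 = 1 := by
    have h6 : Commute c A := (H.comm hc A).symm
    rw [h6.mul_pow, H.cube hc, hA3, one_mul]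
  refine ⟨?_, G⁻¹ * B * G, ζ, hζ, hζ1, ?_⟩
  · have h1 : (G * x * G⁻¹) ^ 3 = 1 := by rw [hcx, hcA]
    rw [conj_pow] at h1
    have h2 := mul_inv_eq_one.1 h1
    exact mul_eq_left.1 h2
  · rw [hx']
    have e1 : B * (c * A) * B⁻¹ = ζ * (c * A) := by
      calc B * (c * A) * B⁻¹ = (B * c) * A * B⁻¹ := by group
        _ = (c * B) * A * B⁻¹ := by rw [H.comm hc B]
        _ = c * (B * A * B⁻¹) := by group
        _ = c * (ζ * A) := by rw [hBA]
        _ = (c * ζ) * A := by group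
        _ = (ζ * c) * A := by rw [H.comm hζ c]
        _ = ζ * (c * A) := by group
    calc G⁻¹ * B * G * (G⁻¹ * (c * A) * G) * (G⁻¹ * B * G)⁻¹ = G⁻¹ * (B * (c * A) * B⁻¹) * G := by group
      _ = G⁻¹ * (ζ * (c * A)) * G := by rw [e1]
      _ = (G⁻¹ * ζ) * (c * A) * G := by group
      _ = (ζ * G⁻¹) * (c * A) * G := by rw [H.comm hζ G⁻¹]
      _ = ζ * (G⁻¹ * (c * A) * G) := by group

theorem Hyp.fx_three {x : L} (hx : orderOf (π x) = 3) : finrank K V = 3 * fx ρ x := by
  obtain ⟨h1, b, ζ, hζ, hζ1, hb⟩ := H.three hx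
  obtain ⟨c, hc, hc2, -⟩ := H.scal2 hζ hζ1
  exact Fix.fx_three h1 hc2 (by
    have := odd_ne (K := K) (r := 3) (by norm_num)
    exact_mod_cast this) hc hb

theorem Hyp.tc_three {x : L} (hx : orderOf (π x) = 3) : tc ρ x = 0 := by
  obtain ⟨h1, b, ζ, hζ, hζ1, hb⟩ := H.three hx
  obtain ⟨c, hc, -, hne⟩ := H.scal2 hζ hζ1
  have h2 := tc_conj (ρ := ρ) x b
  rw [hb] at h2
  unfold tc at h2 ⊢
  rw [map_mul, hc, smul_mul_assoc, one_mul, map_smul, smul_eq_mul] at h2
  have h3 : (c - 1) * LinearMap.trace K V (ρ x) = 0 := by linear_combination h2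
  exact (mul_eq_zero.1 h3).resolve_left (sub_ne_zero.2 hne)

/-- **Lifts of generating pairs.** -/
theorem Hyp.gen {x y : Spor.M22} {r : ℕ} (hr : r.Prime) (hr3 : r ≠ 3) (hx : orderOf x = 3) (hy : orderOf y = 3)
    (hxy : orderOf (x * y) = r) (hgen : Subgroup.closure ({x, y} : Set Spor.M22) = ⊤) :
    ∃ w : L, orderOf w = r ∧ 3 * fx ρ w ≤ finrank K V := by
  obtain ⟨X, hX⟩ := H.surj x
  obtain ⟨Y, hY⟩ := H.surj y
  obtain ⟨w, hw, hw'⟩ := H908.exists_lift H.surj (x * y) (by
    rw [H.card, hxy]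
    exact (Nat.coprime_primes Nat.prime_three hr).2 (Ne.symm hr3))
  obtain ⟨c, hc, hcw⟩ := H.exists_mul (g := w) (h := X * Y) (by rw [hw, map_mul, hX, hY])
  have hcX : π (c * X) = x := by rw [map_mul, MonoidHom.mem_ker.1 hc, one_mul, hX]
  have s := H.toDat.scott (g := c * X) (h := Y) (by rw [hcX, hY]; exact hgen)
  have e1 := H.fx_three (x := c * X) (by rw [hcX, hx])
  have e2 := H.fx_three (x := Y) (by rw [hY, hy])
  rw [mul_assoc, ← hcw] at s
  exact ⟨w, hw'.trans hxy, by omega⟩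

theorem Hyp.card_L : Nat.card L = 1330560 := by
  have h1 := π.ker.card_mul_index
  rw [Subgroup.index_ker, MonoidHom.range_eq_top.2 H.surj, Subgroup.card_top, H.card, card_M22] at h1
  omega

theorem Hyp.order_map {w : L} {r : ℕ} (hr : r.Prime) (hr3 : r ≠ 3) (hw : orderOf w = r) : orderOf (π w) = r := by
  have : Fact r.Prime := ⟨hr⟩
  apply orderOf_eq_prime
  · rw [← map_pow, ← hw, pow_orderOf_eq_one, map_one]
  · intro h
    have h1 := H.cube (MonoidHom.mem_ker.2 h)
    have h2 := orderOf_dvd_of_pow_eq_one h1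
    rw [hw, Nat.prime_dvd_prime_iff_eq hr Nat.prime_three] at h2
    exact hr3 h2

/-- conjugation relations lift -/
theorem Hyp.conj {w : L} {r k : ℕ} (hr : r.Prime) (hr3 : r ≠ 3) (hw : orderOf w = r) {u : Spor.M22}
    (hu : u * π w * u⁻¹ = (π w) ^ k) : ∃ U : L, U * w * U⁻¹ = w ^ k := by
  obtain ⟨U, hU⟩ := H.surj u
  have hc3 : Nat.Coprime 3 r := (Nat.coprime_primes Nat.prime_three hr).2 (Ne.symm hr3)
  refine ⟨U, H908.conj_lift H.cen ?_ (by rw [H.card, hw]; exact hc3) ?_⟩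
  · rw [map_mul, map_mul, map_inv, hU, hu, map_pow]
  · rw [H.card]
    exact hc3.coprime_dvd_right (by rw [← hw]; exact orderOf_pow_dvd k)

theorem Hyp.eleven {w : L} (hw : orderOf w = 11) : ∃ U : L, U * w * U⁻¹ = w ^ 3 := by
  obtain ⟨u, hu⟩ := Facts.eleven (H.order_map (by norm_num) (by norm_num) hw)
  exact H.conj (by norm_num) (by norm_num) hw hu

theorem Hyp.seven {w : L} (hw : orderOf w = 7) : ∃ U : L, U * w * U⁻¹ = w ^ 2 := by
  obtain ⟨u, hu⟩ := Facts.seven (H.order_map (by norm_num) (by norm_num) hw)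
  exact H.conj (by norm_num) (by norm_num) hw hu

theorem Hyp.five {w : L} (hw : orderOf w = 5) : ∃ U : L, U * w * U⁻¹ = w ^ 2 := by
  obtain ⟨u, hu⟩ := Facts.five (H.order_map (by norm_num) (by norm_num) hw)
  exact H.conj (by norm_num) (by norm_num) hw hu

/-- **The degree.** -/
theorem Hyp.dims (hn : finrank K V ≤ 12) :
    (finrank K V = 6 ∧ ∀ w : L, orderOf w = 7 → fx ρ w = 0) ∨
      (finrank K V = 12 ∧ (∀ w : L, orderOf w = 7 → fx ρ w = 0 ∨ fx ρ w = 3) ∧ ∀ w : L, orderOf w = 11 → fx ρ w = 2) := by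
  obtain ⟨x₁, y₁, e1, e2, e3, e4⟩ := gen_eleven
  obtain ⟨x₂, y₂, e5, e6, e7, e8⟩ := gen_seven
  obtain ⟨w₁, h1, h2⟩ := H.gen (by norm_num) (by norm_num) e1 e2 e3 e4
  obtain ⟨w₂, h3, h4⟩ := H.gen (by norm_num) (by norm_num) e5 e6 e7 e8
  have nt : ∀ {g : L} {r : ℕ}, 1 < r → orderOf g = r → ρ g ≠ 1 := by
    intro g r hr hg h
    have : g = 1 := H.inj (by rw [h, map_one])
    rw [this, orderOf_one] at hg
    omega
  obtain ⟨u, hu⟩ := H.eleven h1
  obtain ⟨m, hm⟩ := fx_norm (ρ := ρ) (by norm_num : Nat.Prime 11) (odd_ne (by norm_num)) (by norm_num : Nat.Prime 5)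
    (by rw [← h1, pow_orderOf_eq_one]) hu (by decide) (s := 6) (by decide)
  have hm' : fx ρ w₁ ≠ finrank K V := fun h => nt (by norm_num) h1 ((fx_eq_iff w₁).1 h)
  obtain ⟨v, hv⟩ := H.seven h3
  obtain ⟨k, hk⟩ := fx_norm (ρ := ρ) (by norm_num : Nat.Prime 7) (odd_ne (by norm_num)) (by norm_num : Nat.Prime 3)
    (by rw [← h3, pow_orderOf_eq_one]) hv (by decide) (s := 1) (by decide)
  have hk' : fx ρ w₂ ≠ finrank K V := fun h => nt (by norm_num) h3 ((fx_eq_iff w₂).1 h)
  obtain ⟨X, hX⟩ := H.surj x₁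
  have h5 := H.fx_three (x := X) (by rw [hX, e1])
  have f11 : ∀ w : L, orderOf w = 11 → fx ρ w = fx ρ w₁ := fun w hw =>
    fx_prime (by norm_num) (by rw [H.card_L]; norm_num) hw h1
  have f7 : ∀ w : L, orderOf w = 7 → fx ρ w = fx ρ w₂ := fun w hw =>
    fx_prime (by norm_num) (by rw [H.card_L]; norm_num) hw h3
  have hn2 : finrank K V = 6 ∨ finrank K V = 12 := by (clear * - hn h2 hm hk hk' h5; (solve | lia | omega))
  rcases hn2 with h | h
  · left
    refine ⟨h, fun w hw => ?_⟩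
    rw [f7 w hw]
    (clear * - h4 hk h; omega)
  · right
    refine ⟨h, fun w hw => ?_, fun w hw => ?_⟩
    · rw [f7 w hw]
      (clear * - h4 hk h; omega)
    · rw [f11 w hw]
      (clear * - h2 hm h; omega)

/-- **The traces.** -/
theorem Hyp.tc_sq (h7 : ∀ w : L, orderOf w = 7 → (fx ρ w : K) = (finrank K V : K)) {g : L} (hg : ¬ 2 ∣ orderOf g) :
    tc ρ (g ^ 2) = tc ρ g⁻¹ := by
  have hodd := odd (g := π g) (fun h => hg (h.trans (orderOf_map_dvd π g)))
  -- the case of an element prime to 3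
  have main : ∀ r : ℕ, r.Prime → r ≠ 3 → orderOf (π g) = r →
      (∀ w : L, orderOf w = r → tc ρ (w ^ 2) = tc ρ w⁻¹) → tc ρ (g ^ 2) = tc ρ g⁻¹ := by
    intro r hr hr3 ho hw
    obtain ⟨w, hw1, hw2⟩ := H908.exists_lift H.surj (π g) (by
      rw [H.card, ho]
      exact (Nat.coprime_primes Nat.prime_three hr).2 (Ne.symm hr3))
    obtain ⟨c, hc, hcw⟩ := H.exists_mul (g := g) (h := w) hw1.symm
    obtain ⟨d, hd, hd3⟩ := H.scal' hc
    have hd' : ρ c⁻¹ = (d ^ 2) • 1 := by
      have h1 : c⁻¹ = c ^ 2 := by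
        rw [inv_eq_iff_mul_eq_one, ← pow_succ', H.cube hc]
      rw [h1, map_pow, hd, smul_pow, one_pow]
    have h1 : g ^ 2 = c ^ 2 * w ^ 2 := by
      have : Commute c w := (H.comm hc w).symm
      rw [hcw, this.mul_pow]
    have h2 : g⁻¹ = c⁻¹ * w⁻¹ := by
      rw [hcw, mul_inv_rev]
      exact H.comm (inv_mem hc) w⁻¹
    have h3 := hw w (hw2.trans ho)
    have h4 : ρ (g ^ 2) = (d ^ 2) • ρ (w ^ 2) := by
      rw [h1, map_mul, map_pow ρ c, hd, smul_pow, one_pow, smul_mul_assoc, one_mul]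
    have h5 : ρ g⁻¹ = (d ^ 2) • ρ w⁻¹ := by
      rw [h2, map_mul, hd', smul_mul_assoc, one_mul]
    unfold tc at h3 ⊢
    rw [h4, h5, map_smul, map_smul, h3]
  rcases hodd with h | h | h | h | h
  · rw [orderOf_eq_one_iff] at h
    have h1 : g ^ 2 = g⁻¹ := by
      rw [eq_inv_iff_mul_eq_one, ← pow_succ, H.cube (MonoidHom.mem_ker.2 h)]
    rw [h1]
  · rw [H.tc_three, H.tc_three]
    · rw [map_inv, orderOf_inv, h]
    · rw [map_pow]
      have : Fact (Nat.Prime 3) := ⟨Nat.prime_three⟩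
      apply orderOf_eq_prime
      · rw [← pow_mul, mul_comm, pow_mul, ← h, pow_orderOf_eq_one, one_pow]
      · intro h1
        have := orderOf_dvd_of_pow_eq_one h1
        rw [h] at this
        omega
  · refine main 5 (by norm_num) (by norm_num) h fun w hw => ?_
    obtain ⟨U, hU⟩ := H.five hw
    have h1 := tc_cyc (ρ := ρ) hU 2
    have h2 : w ^ (2 * 2) = w⁻¹ := by
      rw [eq_inv_iff_mul_eq_one, ← pow_succ]
      change w ^ 5 = 1
      rw [← hw, pow_orderOf_eq_one]
    rw [← h2, h1]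
  · refine main 7 (by norm_num) (by norm_num) h fun w hw => ?_
    obtain ⟨U, hU⟩ := H.seven hw
    have h1 := tc_cyc (ρ := ρ) hU 1
    rw [mul_one, pow_one] at h1
    have h2 := sum_seven (ρ := ρ) (odd_ne (by norm_num)) (by rw [← hw, pow_orderOf_eq_one]) hU
    rw [h7 w hw] at h2
    have h3 : (2 : K) = 0 := CharTwo.two_eq_zero
    rw [h1]
    linear_combination h2 - (tc ρ w + 2 * tc ρ w⁻¹ - 3 * (finrank K V : K)) * h3
  · refine main 11 (by norm_num) (by norm_num) h fun w hw => ?_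
    obtain ⟨U, hU⟩ := H.eleven hw
    have hw11 : w ^ 11 = 1 := by rw [← hw, pow_orderOf_eq_one]
    have a1 := tc_cyc (ρ := ρ) hU 2
    have a2 := tc_cyc (ρ := ρ) hU 6
    have a3 := tc_cyc (ρ := ρ) hU 7
    have e1 : w ^ (3 * 6) = w ^ 7 := Fix.pow_mod hw11 (by decide)
    have e2 : w ^ (3 * 7) = w⁻¹ := by
      rw [show w ^ (3 * 7) = w ^ 10 from Fix.pow_mod hw11 (by decide), eq_inv_iff_mul_eq_one, ← pow_succ, hw11]
    rw [e1] at a2
    rw [e2] at a3
    rw [a3, a2, ← a1]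

end Cfsg.Agent.H921.M22.Rp
end

-- part: H921/M22/Two
section
/-!
# Cores with socle `M22` in characteristic two, degree at most 12
-/

set_option autoImplicit false
set_option linter.unusedSectionVars false

namespace Cfsg.Agent.H921.M22

open Cfsg Cfsg.Geo Matrix H915.LD Module
open Cfsg.Agent.H921.M22.Fix (Dat fx)
open Cfsg.Agent.H921.M22.Rp (tc Hyp)
open Cfsg.Agent.H911.Five (rep rep_irr trace_rep rep_injective)

universe u

variable {ι : Type} [Fintype ι] [DecidableEq ι] {F : Type u} [Field F] [Finite F] {P : Subgroup (GL ι F)}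
  (e : Soc P ≃* Spor.M22) (hC : Core P)

/-- the projection of the core -/
abbrev ph (e : Soc P ≃* Spor.M22) : P →* Spor.M22 := e.toMonoidHom.comp (toSoc P)

theorem ph_surj : Function.Surjective (ph e) := e.surjective.comp (toSoc_surjective P)

theorem ph_cen : (ph e).ker ≤ Subgroup.center P := by
  rw [ker_comp e]
  exact H915.LD.scalars_le_center (P := P)

theorem ph_scalar {z : P} (hz : z ∈ (ph e).ker) : ∃ c : F, ((z : GL ι F) : Matrix ι ι F) = c • 1 := by
  rw [ker_comp e, Subgroup.mem_subgroupOf, mem_scalars_iff] at hz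
  obtain ⟨c, hc⟩ := hz
  exact ⟨c, hc⟩

include hC in
theorem dat : Dat (rep P) (ph e) where
  surj := ph_surj e
  scal := by
    intro x hx
    obtain ⟨c, hc⟩ := ph_scalar e hx
    refine ⟨algebraMap F _ c, ?_⟩
    apply LinearMap.ext
    intro v
    rw [H911.Five.rep_apply, hc, LinearMap.smul_apply, Module.End.one_apply]
    have h1 : (c • (1 : Matrix ι ι F)).map (algebraMap F (AlgebraicClosure F)) =
        algebraMap F (AlgebraicClosure F) c • (1 : Matrix ι ι (AlgebraicClosure F)) := by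
      ext i j
      by_cases hij : i = j
      · subst hij; simp
      · simp [hij]
    rw [h1, Matrix.smul_mulVec, Matrix.one_mulVec]
  irr := fun U hU => rep_irr hC.absIrred U (fun g v hv => hU g v hv)
  two := by
    rw [Module.finrank_fintype_fun_eq_card]
    exact hC.two_le

theorem finrank_eq : finrank (AlgebraicClosure F) (ι → AlgebraicClosure F) = Fintype.card ι :=
  Module.finrank_fintype_fun_eq_card _

variable [CharP F 2]

include hC in
theorem card_ker : Nat.card (ph e).ker = 1 ∨ Nat.card (ph e).ker = 3 := by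
  have h1 := hC.card_scalars_dvd e S2036.result
  rw [← ker_comp e] at h1
  have h2 : Nat.card (Multiplicative (ZMod 12)) = 12 := Nat.card_zmod 12
  rw [h2] at h1
  have hfin : Finite P := inferInstance
  have h3 : ¬ 2 ∣ Nat.card (ph e).ker := by
    intro hd
    obtain ⟨z, hz⟩ := exists_prime_orderOf_dvd_card' (G := (ph e).ker) 2 hd
    have hz2 : (z : P) ^ 2 = 1 := by
      have : z ^ 2 = 1 := by rw [← hz, pow_orderOf_eq_one]
      exact congrArg Subtype.val this
    obtain ⟨c, hc⟩ := ph_scalar e z.2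
    have hne := hC.nonempty
    obtain ⟨i⟩ := hne
    have h4 : (((z : P) ^ 2 : P) : GL ι F).1 = (c ^ 2) • (1 : Matrix ι ι F) := by
      rw [Subgroup.coe_pow, Units.val_pow_eq_pow_val, hc, smul_pow, one_pow]
    rw [hz2] at h4
    have h5 : (1 : F) = c ^ 2 := by
      have := congrFun (congrFun h4 i) i
      simpa only [_root_.OneMemClass.coe_one, _root_.Units.val_one, _root_.Matrix.one_apply_eq, _root_.Matrix.smul_apply, _root_.smul_eq_mul, _root_.mul_one] using this
    have h6 : c = 1 := by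
      have h7 : (c - 1) ^ 2 = 0 := by
        have h3 : (2 : F) = 0 := CharTwo.two_eq_zero
        linear_combination -h5 + (1 - c) * h3
      exact sub_eq_zero.1 (pow_eq_zero_iff (two_ne_zero) |>.1 h7)
    have h7 : z = 1 := by
      apply Subtype.ext
      apply Subtype.ext
      apply Units.ext
      rw [hc, h6, one_smul]
      rfl
    rw [h7, orderOf_one] at hz
    omega
  have h4 : Nat.card (ph e).ker ≤ 12 := Nat.le_of_dvd (by norm_num) h1
  have h5 : 0 < Nat.card (ph e).ker := Nat.card_pos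
  exact (by decide : ∀ n ≤ 12, n ∣ 12 → ¬ 2 ∣ n → n = 1 ∨ n = 3) _ h4 h1 h3

instance : CharP (AlgebraicClosure F) 2 :=
  charP_of_injective_algebraMap (algebraMap F (AlgebraicClosure F)).injective 2

theorem tc_rep (g : P) : tc (rep P) g = algebraMap F (AlgebraicClosure F) (tr (g : GL ι F)) := trace_rep P g

theorem tr_sq (g : GL ι F) : tr (g ^ 2) = tr g ^ 2 := by
  have := tr_pow_char 2 g 1
  rwa [pow_one] at this

include hC in
/-- trivial scalars -/
theorem one (h1 : Nat.card (ph e).ker = 1) (hn : Fintype.card ι ≤ 12) : Fintype.card ι = 10 ∧ Fr P 2 ∧ ¬ SD P := by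
  have hinj : Function.Injective (ph e) := by
    rw [← MonoidHom.ker_eq_bot_iff]
    exact (Subgroup.card_eq_one).1 h1
  let e' : P ≃* Spor.M22 := MulEquiv.ofBijective (ph e) ⟨hinj, ph_surj e⟩
  have D := dat e hC
  let ρ : Spor.M22 →* Module.End (AlgebraicClosure F) (ι → AlgebraicClosure F) := (rep P).comp e'.symm.toMonoidHom
  have hρ : ∀ g : P, ρ (e' g) = rep P g := fun g => by
    change rep P (e'.symm (e' g)) = _
    rw [MulEquiv.symm_apply_apply]
  have hρ' : ∀ x : Spor.M22, ρ x = rep P (e'.symm x) := fun x => rfl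
  have D' : Dat ρ (MonoidHom.id Spor.M22) :=
    { surj := fun x => ⟨x, rfl⟩
      scal := by
        intro x hx
        rw [MonoidHom.mem_ker, MonoidHom.id_apply] at hx
        exact ⟨1, by rw [hx, map_one, one_smul]⟩
      irr := by
        intro U hU
        apply D.irr U
        intro g v hv
        rw [← hρ]
        exact hU _ v hv
      two := D.two }
  have hρi : Function.Injective ρ := by
    intro x y hxy
    rw [hρ', hρ'] at hxy
    exact e'.symm.injective (rep_injective P hxy)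
  obtain ⟨h2, h3, h4⟩ := Rp.one D' hρi (by rw [finrank_eq]; exact hn)
  have htc : ∀ g : P, tc ρ (e' g) = algebraMap F (AlgebraicClosure F) (tr (g : GL ι F)) := by
    intro g
    rw [← tc_rep]
    unfold tc
    rw [hρ]
  refine ⟨by rw [← h2, finrank_eq], ?_, ?_⟩
  · apply Fr.of_reg' 2
    intro g hg ho
    rw [← tr_sq]
    apply (algebraMap F (AlgebraicClosure F)).injective
    have h5 := Rp.one_tc (ρ := ρ) h2 h3 (g := e' ⟨g, hg⟩) (by
      rw [MulEquiv.orderOf_eq]
      rw [← Subgroup.orderOf_coe]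
      exact ho)
    rw [← map_pow, htc, htc] at h5
    exact h5
  · intro hsd
    obtain ⟨w, hw, -⟩ := H968.TwoM22.three.seven
    apply Rp.one_seven (ρ := ρ) h2 h4 hw
    obtain ⟨g, rfl⟩ := e'.surjective w
    rw [← map_inv, htc, htc]
    congr 1
    exact hsd _ g.2

include hC in
theorem hyp (h1 : Nat.card (ph e).ker = 3) : Hyp (rep P) (ph e) where
  toDat := dat e hC
  inj := rep_injective P
  cen := ph_cen e
  perf := hC.commutator_top
  card := h1

include hC in
/-- **Cores with socle `M22` in characteristic two, degree at most 12.** -/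
theorem two (hn : Fintype.card ι ≤ 12) :
    (Fintype.card ι = 6 ∧ Cj P 2) ∨ (Fintype.card ι = 10 ∧ Fr P 2 ∧ ¬ SD P) ∨
      (Fintype.card ι = 12 ∧ Nat.card (ph e).ker = 3) := by
  rcases card_ker e hC with h1 | h1
  · exact Or.inr (Or.inl (one e hC h1 hn))
  have H := hyp e hC h1
  have hfin : Finite P := inferInstance
  rcases H.dims (by rw [finrank_eq]; exact hn) with ⟨h2, h3⟩ | ⟨h2, h3⟩
  · left
    refine ⟨by rw [← h2, finrank_eq], ?_⟩
    apply Cj.of_reg' 2
    intro g hg ho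
    rw [← tr_sq]
    apply (algebraMap F (AlgebraicClosure F)).injective
    have h5 := H.tc_sq (fun w hw => by
      rw [h3 w hw, h2]
      have h3 : (2 : AlgebraicClosure F) = 0 := CharTwo.two_eq_zero
      push_cast
      linear_combination -3 * h3) (g := ⟨g, hg⟩) (by
      rw [← Subgroup.orderOf_coe]
      exact ho)
    rw [tc_rep, tc_rep] at h5
    exact h5
  · right; right
    exact ⟨by rw [← h2, finrank_eq], h1⟩

end Cfsg.Agent.H921.M22
end
end

section
prune_inst 0xffadf9bbbcb9dfdfff7e7fa6dccffdb9bdbfffe6dff9cbffe061ffabdf7b8289c5fb8d8de818fe0ed7c21410b87b53f9ffce7fea6bdc7ffffd5ff41ffbee0fe5f7b50851d48c340fbc0ff603f0778e7f000000000000000000000000000000000200000000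

-- part: H906/T14Core
section
prune_inst 0x1006444242202000018050030002460200000900000000080c000400801c402200301213230010200c020d44008006003080050420000000a000400011d018000811002b0080100020018000080000000000000000000000000000000000000000000000
set_option linter.all false
open scoped Cfsg.Agent.FastGrp

/-!
# Cores with socle `PSL_3(4)`
-/

set_option autoImplicit false
set_option linter.unusedSectionVars false

namespace Cfsg.Agent.H906.T14

open Cfsg Cfsg.Geo SL3Par L34 H915.LD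
open scoped MatrixGroups commutatorElement Matrix

universe u v

variable {ι : Type} [Fintype ι] [DecidableEq ι] {F : Type u} [Field F] {P : Subgroup (GL ι F)}
  {K : Type v} [Field K] [Fintype K]

/-- the projection of the core -/
abbrev ph (e : Soc P ≃* Matrix.ProjectiveSpecialLinearGroup (Fin 3) K) :
    P →* Matrix.ProjectiveSpecialLinearGroup (Fin 3) K := e.toMonoidHom.comp (toSoc P)

variable (e : Soc P ≃* Matrix.ProjectiveSpecialLinearGroup (Fin 3) K)

lemma ph_surj : Function.Surjective (ph e) := e.surjective.comp (toSoc_surjective P)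

lemma ph_cen : (ph e).ker ≤ Subgroup.center P := by
  rw [ker_comp e]
  exact H915.LD.scalars_le_center (P := P)

lemma ph_scalar {z : P} (hz : z ∈ (ph e).ker) : ∃ c : F, c ≠ 0 ∧ ((z : GL ι F) : Matrix ι ι F) = c • 1 := by
  rw [ker_comp e, Subgroup.mem_subgroupOf, mem_scalars_iff] at hz
  obtain ⟨c, hc⟩ := hz
  exact ⟨c, c.ne_zero, hc⟩

variable (hC : Core P)

include hC in
lemma ph_pow {z : P} (hz : z ∈ (ph e).ker) : z ^ Fintype.card ι = 1 := by
  rw [ker_comp e] at hz
  exact hC.pow_card hz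

lemma smul_ext [Nonempty ι] {c d : F} (h : c • (1 : Matrix ι ι F) = d • 1) : c = d := by
  obtain ⟨i⟩ := ‹Nonempty ι›
  have := congrFun (congrFun h i) i
  simpa using this

include hC in
/-- degree `2 mod 4` -/
theorem two_of (hn : Fintype.card ι % 4 = 2) : Two (ph e) where
  surj := ph_surj e
  cen := ph_cen e
  four := by
    intro z hz h4
    have h1 := ph_pow e hC hz
    have h2 : Fintype.card ι = 4 * (Fintype.card ι / 4) + 2 := by omega
    rw [h2, pow_add, pow_mul, h4, one_pow, one_mul] at h1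
    exact h1
  uniq := by
    intro z hz z' hz' h2 h2' h1 h1'
    have hne := hC.nonempty
    have key : ∀ z : P, z ∈ (ph e).ker → z ^ 2 = 1 → z ≠ 1 → ((z : GL ι F) : Matrix ι ι F) = (-1 : F) • 1 := by
      intro z hz h2 h1
      obtain ⟨c, -, hc⟩ := ph_scalar e hz
      have h3 : (((z ^ 2 : P) : GL ι F) : Matrix ι ι F) = (c ^ 2) • 1 := by
        rw [Subgroup.coe_pow, Units.val_pow_eq_pow_val, hc, smul_pow, one_pow]
      rw [h2] at h3
      have h4 : (c ^ 2 : F) = 1 := by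
        apply smul_ext (ι := ι)
        rw [← h3, one_smul]
        rfl
      have h5 : (c - 1) * (c + 1) = 0 := by linear_combination h4
      rcases mul_eq_zero.1 h5 with h6 | h6
      · exfalso
        apply h1
        apply Subtype.ext
        apply Units.ext
        rw [hc, sub_eq_zero.1 h6, one_smul]
        rfl
      · rw [hc, eq_neg_of_add_eq_zero_left h6]
    apply Subtype.ext
    apply Units.ext
    rw [key z hz h2 h1, key z' hz' h2' h1']

/-- elements with the same image -/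
lemma tr_twist {x g : P} (h : ph e x = ph e g) : ∃ z ∈ (ph e).ker, ∃ c : F, c ≠ 0 ∧
    ((z : GL ι F) : Matrix ι ι F) = c • 1 ∧ tr (x : GL ι F) = c * tr (g : GL ι F) ∧
      tr (x⁻¹ : GL ι F) = c⁻¹ * tr (g⁻¹ : GL ι F) := by
  have hz : x * g⁻¹ ∈ (ph e).ker := by rw [MonoidHom.mem_ker, map_mul, map_inv, h, mul_inv_cancel]
  obtain ⟨c, hc0, hc⟩ := ph_scalar e hz
  have h1 : ((x : GL ι F) : Matrix ι ι F) = c • ((g : GL ι F) : Matrix ι ι F) := by
    have h2 : ((x : GL ι F) : Matrix ι ι F) = (((x * g⁻¹ : P) : GL ι F) : Matrix ι ι F) * ((g : GL ι F) : Matrix ι ι F) := by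
      rw [← Units.val_mul, ← Subgroup.coe_mul, inv_mul_cancel_right]
    rw [h2, hc, smul_mul_assoc, one_mul]
  have h3 : (((x : GL ι F)⁻¹ : GL ι F) : Matrix ι ι F) = c⁻¹ • (((g : GL ι F)⁻¹ : GL ι F) : Matrix ι ι F) := by
    have e1 : (x : GL ι F) * (c⁻¹ • (((g : GL ι F)⁻¹ : GL ι F) : Matrix ι ι F)) = 1 := by
      rw [h1, smul_mul_smul_comm, ← Units.val_mul, mul_inv_cancel, mul_inv_cancel₀ hc0, Units.val_one, one_smul]
    calc (((x : GL ι F)⁻¹ : GL ι F) : Matrix ι ι F)
        = (((x : GL ι F)⁻¹ : GL ι F) : Matrix ι ι F) * ((x : GL ι F) * (c⁻¹ • (((g : GL ι F)⁻¹ : GL ι F) : Matrix ι ι F))) := by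
          rw [e1, mul_one]
      _ = _ := by rw [← mul_assoc, ← Units.val_mul, inv_mul_cancel, Units.val_one, one_mul]
  exact ⟨_, hz, c, hc0, hc, tr_smul h1, tr_smul h3⟩

section rep

/-- the representation over the algebraic closure -/
noncomputable def rep (P : Subgroup (GL ι F)) : P →* Module.End (AlgebraicClosure F) (ι → AlgebraicClosure F) :=
  ((Matrix.toLinAlgEquiv' (R := AlgebraicClosure F) (n := ι)).toAlgHom :
      Matrix ι ι (AlgebraicClosure F) →* Module.End (AlgebraicClosure F) (ι → AlgebraicClosure F)).comp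
    ((Units.coeHom _).comp ((Matrix.GeneralLinearGroup.map (algebraMap F (AlgebraicClosure F))).comp P.subtype))

lemma rep_apply (g : P) : rep P g = Matrix.toLin' (((g : GL ι F) : Matrix ι ι F).map (algebraMap F (AlgebraicClosure F))) := rfl

lemma rep_injective : Function.Injective (rep P) := by
  intro a b hab
  rw [rep_apply, rep_apply] at hab
  have h1 := Matrix.toLin'.injective hab
  apply Subtype.ext
  apply Units.ext
  ext k l
  exact (algebraMap F (AlgebraicClosure F)).injective (congrFun (congrFun h1 k) l)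

lemma trace_rep (g : P) : LinearMap.trace _ _ (rep P g) = algebraMap F (AlgebraicClosure F) (tr (g : GL ι F)) := by
  rw [rep_apply, LinearMap.trace_eq_matrix_trace _ (Pi.basisFun _ _), LinearMap.toMatrix_eq_toMatrix',
    LinearMap.toMatrix'_toLin']
  unfold tr Matrix.trace
  rw [map_sum]
  rfl

lemma rep_scalar {z : P} (hz : z ∈ (ph e).ker) : ∃ c : AlgebraicClosure F, rep P z = c • 1 := by
  obtain ⟨c, -, hc⟩ := ph_scalar e hz
  refine ⟨algebraMap F _ c, ?_⟩
  rw [rep_apply, hc]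
  have h1 : (c • (1 : Matrix ι ι F)).map (algebraMap F (AlgebraicClosure F)) =
      algebraMap F (AlgebraicClosure F) c • (1 : Matrix ι ι (AlgebraicClosure F)) := by
    ext i j
    by_cases hij : i = j
    · subst hij; simp
    · simp [hij]
  rw [h1, map_smul, Matrix.toLin'_one]
  rfl

lemma two_ne (p : ℕ) [hp : Fact p.Prime] [CharP F p] (hp2 : p ≠ 2) (R : Type*) [Field R] [Algebra F R] : (2 : R) ≠ 0 := by
  intro h0
  have h1 : (2 : F) = 0 := by
    apply (algebraMap F R).injective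
    rw [map_zero, map_ofNat, h0]
  have h2 : ((2 : ℕ) : F) = 0 := by exact_mod_cast h1
  rw [CharP.cast_eq_zero_iff F p] at h2
  exact hp2 ((Nat.prime_dvd_prime_iff_eq hp.out Nat.prime_two).1 h2)

end rep

section traces

variable [Finite F] (p : ℕ) [hp : Fact p.Prime] [CharP F p]

omit [Fintype K] in
/-- real elements of order dividing `m` when `p ≡ ±1 mod m` -/
lemma tr_real {g : P} {m : ℕ} (hm : g ^ m = 1) (hreal : IsConj g g⁻¹) (hpm : p % m = 1 ∨ p % m = m - 1) (hm1 : 1 < m) :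
    tr (g : GL ι F) ^ p = tr (g : GL ι F) := by
  have h1 := tr_pow_char p (g : GL ι F) 1
  rw [pow_one] at h1
  rw [← h1]
  have h2 : g ^ p = g ^ (p % m) := by
    conv_lhs => rw [← Nat.div_add_mod p m, pow_add, pow_mul, hm, one_pow, one_mul]
  have h3 : ((g : GL ι F)) ^ p = ((g ^ p : P) : GL ι F) := rfl
  rw [h3, h2]
  rcases hpm with h | h
  · rw [h, pow_one]
  · rw [h]
    have h4 : g ^ (m - 1) = g⁻¹ := by
      rw [eq_inv_iff_mul_eq_one, ← pow_succ, Nat.sub_add_cancel hm1.le, hm]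
    rw [h4]
    exact (tr_of_isConj hreal).symm

lemma tr_inv_real {g : P} (hreal : IsConj g g⁻¹) : tr ((g : GL ι F)⁻¹) = tr (g : GL ι F) := by
  have := tr_of_isConj hreal
  exact this.symm

end traces

end Cfsg.Agent.H906.T14
end

-- part: H906/T14Ten
section
set_option linter.all false
open scoped Cfsg.Agent.FastGrp

/-!
# Cores with socle `PSL_3(4)` in degree ten
-/

set_option autoImplicit false
set_option linter.unusedSectionVars false

namespace Cfsg.Agent.H906.T14

open Cfsg Cfsg.Geo SL3Par L34 H915.LD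
open scoped MatrixGroups commutatorElement Matrix

universe u v

variable {ι : Type} [Fintype ι] [DecidableEq ι] {F : Type u} [Field F] {P : Subgroup (GL ι F)}
  {K : Type v} [Field K] [Fintype K] (e : Soc P ≃* Matrix.ProjectiveSpecialLinearGroup (Fin 3) K)

lemma eq_one_of_pow {T : Type*} [Group T] {t : T} {r s : ℕ} (hr : t ^ r = 1) (hp : r.Prime) (hs : orderOf t ∣ s)
    (hrs : ¬ r ∣ s) : t = 1 := by
  have h1 : orderOf t ∣ r := orderOf_dvd_of_pow_eq_one hr
  rcases (Nat.dvd_prime hp).1 h1 with h2 | h2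
  · exact orderOf_eq_one_iff.1 h2
  · rw [h2] at hs
    exact absurd hs hrs

/-- the shape of the elements of order prime to `p` -/
theorem classify [Finite F] (p : ℕ) [hp : Fact p.Prime] [CharP F p] (hC : Core P) (hp2 : p ≠ 2)
    (hK : Fintype.card K = 4) (h : Two (ph e)) (hnine : ∀ z ∈ (ph e).ker, z ^ 9 = 1 → z ^ 3 = 1)
    (h5 : ∀ g : P, g ^ 5 = 1 → ph e g ≠ 1 → p ≠ 5 → tr (g : GL ι F) ^ p = tr (g : GL ι F))
    (g : P) (hg : ¬ p ∣ orderOf g) :
    ∃ g' : P, ph e g = ph e g' ∧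
      (((ph e g' ^ 3 = 1 ∨ ph e g' ^ 4 = 1 ∨ ph e g' ^ 5 = 1) ∧ tr (g' : GL ι F) ^ p = tr (g' : GL ι F) ∧
        tr ((g' : GL ι F)⁻¹) = tr (g' : GL ι F)) ∨
      (p ≠ 7 ∧ ph e g' ^ 7 = 1 ∧ g' ^ 7 = 1 ∧ IsConj g' (g' ^ 2))) := by
  have hfin : Finite P := inferInstance
  have hord : orderOf (ph e g) ∣ orderOf g := orderOf_map_dvd _ _
  have four : ∀ t, ph e g = t → t ^ 4 = 1 → ∃ g' : P, ph e g = ph e g' ∧
      (((ph e g' ^ 3 = 1 ∨ ph e g' ^ 4 = 1 ∨ ph e g' ^ 5 = 1) ∧ tr (g' : GL ι F) ^ p = tr (g' : GL ι F) ∧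
        tr ((g' : GL ι F)⁻¹) = tr (g' : GL ι F)) ∨
      (p ≠ 7 ∧ ph e g' ^ 7 = 1 ∧ g' ^ 7 = 1 ∧ IsConj g' (g' ^ 2))) := by
    rintro t ht ht4
    obtain ⟨g', h1, h2, h3⟩ := h.two_part hK t ht4
    refine ⟨g', by rw [ht, h1], Or.inl ⟨Or.inr (Or.inl (by rw [h1, ht4])), tr_real p h2 h3 ?_ (by norm_num), tr_inv_real h3⟩⟩
    have hodd := hp.out.eq_two_or_odd.resolve_left hp2
    omega
  rcases pow_cases hK (ph e g) with ht | ht | ht | ht
  · by_cases hp3 : p = 3
    · have h1 := eq_one_of_pow ht Nat.prime_three hord (by rw [← hp3]; exact hg)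
      exact four _ rfl (by rw [h1, one_pow])
    · obtain ⟨g', h1, h2, h3⟩ := three_part (ph_surj e) (ph_cen e) hnine hK _ ht
      refine ⟨g', by rw [h1], Or.inl ⟨Or.inl (by rw [h1, ht]), tr_real p h2 h3 ?_ (by norm_num), tr_inv_real h3⟩⟩
      have h4 : p % 3 ≠ 0 := fun h0 => hp3 ((Nat.prime_dvd_prime_iff_eq Nat.prime_three hp.out).1 (Nat.dvd_of_mod_eq_zero h0)).symm
      omega
  · exact four _ rfl ht
  · by_cases h1 : ph e g = 1
    · exact four _ rfl (by rw [h1, one_pow])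
    · have hp5 : p ≠ 5 := by
        intro hp5
        exact h1 (eq_one_of_pow ht Nat.prime_five hord (by rw [← hp5]; exact hg))
      obtain ⟨g', h2, h3, h4⟩ := five_part (ph_surj e) (ph_cen e)
        (coprime_ker_five hK (ph_surj e) (ph_cen e) hC.commutator_top) hK _ ht
      exact ⟨g', by rw [h2], Or.inl ⟨Or.inr (Or.inr (by rw [h2, ht])), h5 g' h3 (by rw [h2]; exact h1) hp5, tr_inv_real h4⟩⟩
  · by_cases h1 : ph e g = 1
    · exact four _ rfl (by rw [h1, one_pow])
    · have hp7 : p ≠ 7 := by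
        intro hp7
        exact h1 (eq_one_of_pow ht (by norm_num) hord (by rw [← hp7]; exact hg))
      obtain ⟨g', h2, h3, h4⟩ := seven_part (ph_surj e) (ph_cen e)
        (coprime_ker_seven hK (ph_surj e) (ph_cen e) hC.commutator_top) hK _ ht
      exact ⟨g', by rw [h2], Or.inr ⟨hp7, by rw [h2, ht], h3, h4⟩⟩

/-- traces of elements of order seven -/
lemma tr_seven [Finite F] (p : ℕ) [hp : Fact p.Prime] [CharP F p] {g : P} (h7 : g ^ 7 = 1) (hc : IsConj g (g ^ 2)) :
    ((p % 7 = 1 ∨ p % 7 = 2 ∨ p % 7 = 4) → tr (g : GL ι F) ^ p = tr (g : GL ι F)) ∧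
    ((p % 7 = 3 ∨ p % 7 = 5 ∨ p % 7 = 6) → tr (g : GL ι F) ^ p = tr ((g : GL ι F)⁻¹)) := by
  have h1 := tr_pow_char p (g : GL ι F) 1
  rw [pow_one] at h1
  have h2 : g ^ p = g ^ (p % 7) := by
    conv_lhs => rw [← Nat.div_add_mod p 7, pow_add, pow_mul, h7, one_pow, one_mul]
  have h3 : ((g : GL ι F)) ^ p = ((g ^ p : P) : GL ι F) := rfl
  rw [h3, h2] at h1
  obtain ⟨s, hs⟩ := isConj_iff.1 hc
  have cc : ∀ k : ℕ, IsConj (g ^ k) (g ^ (2 * k)) := fun k =>
    isConj_iff.2 ⟨s, by rw [← conj_pow, hs, ← pow_mul]⟩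
  have m7 : ∀ k : ℕ, g ^ (k % 7) = g ^ k := by
    intro k
    conv_rhs => rw [← Nat.div_add_mod k 7, pow_add, pow_mul, h7, one_pow, one_mul]
  have t2 : tr ((g ^ 2 : P) : GL ι F) = tr (g : GL ι F) := (tr_of_isConj hc).symm
  have t4 : tr ((g ^ 4 : P) : GL ι F) = tr (g : GL ι F) := by
    rw [← t2]
    exact (tr_of_isConj (cc 2)).symm
  have t63 : tr ((g ^ 3 : P) : GL ι F) = tr ((g ^ 6 : P) : GL ι F) := tr_of_isConj (cc 3)
  have t53 : tr ((g ^ 5 : P) : GL ι F) = tr ((g ^ 3 : P) : GL ι F) := by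
    have := tr_of_isConj (cc 5)
    rw [← m7 (2 * 5)] at this
    exact this
  have hinv : ((g : GL ι F)⁻¹) = ((g ^ 6 : P) : GL ι F) := by
    have : g⁻¹ = g ^ 6 := by rw [inv_eq_iff_mul_eq_one, ← pow_succ', h7]
    rw [← this]; rfl
  constructor
  · rintro (h | h | h) <;> rw [h] at h1
    · rw [← h1, pow_one]
    · rw [← h1, t2]
    · rw [← h1, t4]
  · rintro (h | h | h) <;> rw [h] at h1
    · rw [← h1, hinv, t63]
    · rw [← h1, hinv, t53, t63]
    · rw [← h1, hinv]

/-- **Cores with socle `PSL_3(4)` in degree ten.** -/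
theorem l34_ten [Finite F] (p : ℕ) [hp : Fact p.Prime] [CharP F p] (hC : Core P) (hp2 : p ≠ 2)
    (hK : Fintype.card K = 4) (hn : Fintype.card ι = 10)
    (e : Soc P ≃* Matrix.ProjectiveSpecialLinearGroup (Fin 3) K) :
    ((p % 7 = 1 ∨ p % 7 = 2 ∨ p % 7 = 4) → Fr P p) ∧ ((p % 7 = 3 ∨ p % 7 = 5 ∨ p % 7 = 6) → Cj P p) ∧
      (p = 7 → SD P ∧ Fr P 7) := by
  have hfin : Finite P := inferInstance
  have hne := hC.nonempty
  have h := two_of e hC (by rw [hn])
  have hcop := coprime_ker_five hK (ph_surj e) (ph_cen e) hC.commutator_top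
  have hz2 : ∀ z ∈ (ph e).ker, z ^ 2 = 1 := by
    intro z hz
    have h1 := ph_pow e hC hz
    rw [hn] at h1
    have h2 : orderOf z ∣ Nat.card (ph e).ker := by
      have h3 : orderOf (⟨z, hz⟩ : (ph e).ker) ∣ Nat.card (ph e).ker := orderOf_dvd_natCard _
      rwa [← Subgroup.orderOf_coe] at h3
    have h3 : orderOf z ∣ 10 := orderOf_dvd_of_pow_eq_one h1
    have h4 : (orderOf z).Coprime 5 := Nat.Coprime.coprime_dvd_left h2 hcop
    rw [← orderOf_dvd_iff_pow_eq_one]
    have h5 : orderOf z ∣ 5 * 2 := by norm_num; exact h3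
    exact h4.dvd_of_dvd_mul_left h5
  have h2Ω := two_ne (F := F) p hp2 (AlgebraicClosure F)
  have h5 : ∀ g : P, g ^ 5 = 1 → ph e g ≠ 1 → p ≠ 5 → tr (g : GL ι F) ^ p = tr (g : GL ι F) := by
    intro g hg5 hg1 _
    have h6 := five_trace_ten h hK (rep P) rep_injective (fun z hz => rep_scalar e hz) h2Ω hcop
      (by rw [Module.finrank_fintype_fun_eq_card, hn]) hg5 hg1
    rw [trace_rep, map_eq_zero] at h6
    rw [h6, zero_pow hp.out.ne_zero]
  have hcl := classify e p hC hp2 hK h (fun z hz h9 => by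
    have h1 : z ^ 9 = z := by
      calc z ^ 9 = (z ^ 2) ^ 4 * z := by rw [← pow_mul, ← pow_succ]
        _ = z := by rw [hz2 z hz, one_pow, one_mul]
    rw [h1] at h9
    rw [h9, one_pow]) h5
  have hodd : p % 2 = 1 := hp.out.eq_two_or_odd.resolve_left hp2
  -- signs
  have sgn : ∀ z ∈ (ph e).ker, ∀ c : F, ((z : GL ι F) : Matrix ι ι F) = c • 1 → c ^ p = c ∧ c⁻¹ = c := by
    intro z hz c hc
    have h1 := hz2 z hz
    have h3 : (((z ^ 2 : P) : GL ι F) : Matrix ι ι F) = (c ^ 2) • 1 := by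
      rw [Subgroup.coe_pow, Units.val_pow_eq_pow_val, hc, smul_pow, one_pow]
    rw [h1] at h3
    have h4 : (c ^ 2 : F) = 1 := by
      apply smul_ext (ι := ι)
      rw [← h3, one_smul]
      rfl
    constructor
    · have h5 : p = 2 * (p / 2) + 1 := by omega
      rw [h5, pow_succ, pow_mul, h4, one_pow, one_mul]
    · exact inv_eq_of_mul_eq_one_right (by rw [← pow_two, h4])
  -- real elements
  have real : ∀ g : P, ¬ p ∣ orderOf g → (p % 7 = 0 ∨ ∃ g', ph e g = ph e g' ∧ tr (g' : GL ι F) ^ p = tr (g' : GL ι F) ∧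
        tr ((g' : GL ι F)⁻¹) = tr (g' : GL ι F)) → tr (g : GL ι F) ^ p = tr (g : GL ι F) ∧ tr ((g : GL ι F)⁻¹) = tr (g : GL ι F) := by
    intro g hg hor
    have hex : ∃ g', ph e g = ph e g' ∧ tr (g' : GL ι F) ^ p = tr (g' : GL ι F) ∧
        tr ((g' : GL ι F)⁻¹) = tr (g' : GL ι F) := by
      rcases hor with h0 | h0
      · obtain ⟨g', h1, h2 | h2⟩ := hcl g hg
        · exact ⟨g', h1, h2.2⟩
        · exfalso
          apply h2.1
          exact ((Nat.prime_dvd_prime_iff_eq (by norm_num) hp.out).1 (Nat.dvd_of_mod_eq_zero h0)).symm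
      · exact h0
    obtain ⟨g', h1, h2, h3⟩ := hex
    obtain ⟨z, hz, c, hc0, hc, t1, t2⟩ := tr_twist e h1
    obtain ⟨s1, s2⟩ := sgn z hz c hc
    rw [t1, t2, s2, h3, mul_pow, s1, h2]
    exact ⟨rfl, rfl⟩
  refine ⟨?_, ?_, ?_⟩
  · intro h7
    apply Fr.of_reg' p
    intro g hg hord
    have hord' : ¬ p ∣ orderOf (⟨g, hg⟩ : P) := by rwa [← Subgroup.orderOf_coe]
    obtain ⟨g', h1, h2 | h2⟩ := hcl ⟨g, hg⟩ hord'
    · exact (real ⟨g, hg⟩ hord' (Or.inr ⟨g', h1, h2.2⟩)).1
    · obtain ⟨z, hz, c, hc0, hc, t1, t2⟩ := tr_twist e h1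
      obtain ⟨s1, s2⟩ := sgn z hz c hc
      change tr ((⟨g, hg⟩ : P) : GL ι F) ^ p = tr ((⟨g, hg⟩ : P) : GL ι F)
      rw [t1, mul_pow, s1, (tr_seven p h2.2.2.1 h2.2.2.2).1 h7]
  · intro h7
    apply Cj.of_reg' p
    intro g hg hord
    have hord' : ¬ p ∣ orderOf (⟨g, hg⟩ : P) := by rwa [← Subgroup.orderOf_coe]
    obtain ⟨g', h1, h2 | h2⟩ := hcl ⟨g, hg⟩ hord'
    · have h3 := real ⟨g, hg⟩ hord' (Or.inr ⟨g', h1, h2.2⟩)
      change tr ((⟨g, hg⟩ : P) : GL ι F) ^ p = tr ((⟨g, hg⟩ : P) : GL ι F)⁻¹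
      rw [h3.1, h3.2]
    · obtain ⟨z, hz, c, hc0, hc, t1, t2⟩ := tr_twist e h1
      obtain ⟨s1, s2⟩ := sgn z hz c hc
      change tr ((⟨g, hg⟩ : P) : GL ι F) ^ p = tr ((⟨g, hg⟩ : P) : GL ι F)⁻¹
      rw [t1, t2, mul_pow, s1, s2, (tr_seven p h2.2.2.1 h2.2.2.2).2 h7]
  · rintro rfl
    constructor
    · apply SD.of_reg 7
      intro g hg hord
      have hord' : ¬ 7 ∣ orderOf (⟨g, hg⟩ : P) := by rwa [← Subgroup.orderOf_coe]
      exact (real ⟨g, hg⟩ hord' (Or.inl rfl)).2
    · apply Fr.of_reg' 7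
      intro g hg hord
      have hord' : ¬ 7 ∣ orderOf (⟨g, hg⟩ : P) := by rwa [← Subgroup.orderOf_coe]
      exact (real ⟨g, hg⟩ hord' (Or.inl rfl)).1

end Cfsg.Agent.H906.T14
end

-- part: H906/T14SixF
section
prune_inst 0x50060040400020000000000200004202000000000000000400000000800040200020020000001020200048400000000010000100000000000000400010101800081100220000000020018000000000000000000000000000000000000000000000000000
set_option linter.all false
open scoped Cfsg.Agent.FastGrp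

-- part: H906/T14Six
section
/-!
# Cores with socle `PSL_3(4)` in degree six
-/

set_option autoImplicit false
set_option linter.unusedSectionVars false

namespace Cfsg.Agent.H906.T14

open Cfsg Cfsg.Geo SL3Par L34 H915.LD Wt
open scoped MatrixGroups commutatorElement Matrix

universe u v

section par

variable {K : Type v} [Field K] [Fintype K]

/-- parabolic elements have order three, four or five -/
theorem pow_cases_par (hK : Fintype.card K = 4) (g : X K) {s : K} (hs : s ≠ 0)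
    (hab : g.1.adjugate.trace = s * g.1.trace) : pj K g ^ 3 = 1 ∨ pj K g ^ 4 = 1 ∨ pj K g ^ 5 = 1 := by
  have h2 := two_zero hK
  have h0 := H906.cayley_three g.1
  have hdet : g.1.det = 1 := g.2
  set a := g.1.trace
  set b := g.1.adjugate.trace
  have h1 : g.1 ^ 3 = a • g.1 ^ 2 + b • g.1 + 1 := by
    rw [h0, hdet, one_smul]
    have : b • g.1 + b • g.1 = 0 := by rw [← add_smul, add_self hK, zero_smul]
    have h4 : - (b • g.1) = b • g.1 := neg_eq_of_add_eq_zero_left this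
    rw [sub_eq_add_neg, h4]
  -- scaling
  have scale : ∀ c : K, c ≠ 0 → (c • g.1) ^ 3 = (c * a) • (c • g.1) ^ 2 + (c ^ 2 * b) • (c • g.1) + 1 := by
    intro c hc
    have hc3 := cube_one hK hc
    rw [smul_pow, smul_pow, hc3, one_smul, h1, smul_smul, smul_smul]
    have e1 : c * a * c ^ 2 = a := by linear_combination a * hc3
    have e2 : c ^ 2 * b * c = b := by linear_combination b * hc3
    rw [e1, e2]
  have fin : ∀ (c : K) (m : ℕ), c ≠ 0 → (c • g.1) ^ m = 1 → pj K g ^ m = 1 := by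
    intro c m hc hm
    rw [← map_pow]
    apply pj_eq_one_of_smul (c := (c ^ m)⁻¹)
    have h5 : (g ^ m).1 = g.1 ^ m := rfl
    rw [h5, ← hm, smul_pow, smul_smul, inv_mul_cancel₀ (pow_ne_zero _ hc), one_smul]
  by_cases ha : a = 0
  · have hb : b = 0 := by rw [hab, ha, mul_zero]
    left
    apply fin 1 3 one_ne_zero
    exact (pow_of_rel hK (scale 1 one_ne_zero)).1 (by rw [ha, mul_zero]) (by rw [hb, mul_zero])
  · have hb : b ≠ 0 := by rw [hab]; exact mul_ne_zero hs ha
    have ha3 := cube_one hK ha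
    have hb3 := cube_one hK hb
    by_cases hab : a * b = 1
    · right; left
      have ha2 : a ^ 2 ≠ 0 := pow_ne_zero _ ha
      apply fin (a ^ 2) 4 ha2
      refine (pow_of_rel hK (scale (a ^ 2) ha2)).2.1 (by rw [← pow_succ, ha3]) ?_
      linear_combination hab + (a * b) * ha3
    · right; right
      have hc : a * b ^ 2 ≠ 0 := mul_ne_zero ha (pow_ne_zero _ hb)
      apply fin (a * b ^ 2) 5 hc
      refine (pow_of_rel hK (scale (a * b ^ 2) hc)).2.2.1 ?_ ?_
      · linear_combination (-(a ^ 2 * b ^ 2)) * hb3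
      · have hne : a * b - 1 ≠ 0 := sub_ne_zero.2 hab
        have h6 : (a * b ^ 2 * a) ^ 3 = 1 := by
          rw [mul_pow, mul_pow, ha3, ← pow_mul, mul_comm 2 3, pow_mul, hb3]; simp
        have h7 : a * b ^ 2 * a ≠ 1 := by
          intro h8
          have h9 : (a * b - 1) * (a * b + 1) = 0 := by linear_combination h8
          rcases mul_eq_zero.1 h9 with h10 | h10
          · exact hne h10
          · apply hne
            linear_combination h10 - h2
        have h8 : (a * b ^ 2 * a - 1) * ((a * b ^ 2 * a) ^ 2 + (a * b ^ 2 * a) + 1) = 0 := by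
          linear_combination h6
        exact (mul_eq_zero.1 h8).resolve_left (sub_ne_zero.2 h7)

theorem pow_cases_Pa (hK : Fintype.card K = 4) {g : X K} (hg : g ∈ Pa K) :
    pj K g ^ 3 = 1 ∨ pj K g ^ 4 = 1 ∨ pj K g ^ 5 = 1 := by
  obtain ⟨h1, h2⟩ := hg
  have hd := det_eq g
  have ht : g.1 2 2 ≠ 0 := by
    intro h0
    apply zero_ne_one (α := K)
    linear_combination hd + (-(g.1 0 0 * g.1 1 1) + g.1 0 1 * g.1 1 0) * h0 + (g.1 0 0 * g.1 1 2 - g.1 0 2 * g.1 1 0) * h2 +
      (g.1 0 2 * g.1 1 1 - g.1 0 1 * g.1 1 2) * h1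
  have ht3 := cube_one hK ht
  have k2 := two_zero hK
  apply pow_cases_par hK g ht
  rw [Matrix.adjugate_fin_three, Matrix.trace_fin_three, Matrix.trace_fin_three]
  simp
  have hd' : g.1 2 2 * (g.1 0 0 * g.1 1 1 - g.1 0 1 * g.1 1 0) = 1 := by
    linear_combination hd + (g.1 0 0 * g.1 1 2 - g.1 0 2 * g.1 1 0) * h2 + (g.1 0 2 * g.1 1 1 - g.1 0 1 * g.1 1 2) * h1
  have hd2 : g.1 0 0 * g.1 1 1 - g.1 0 1 * g.1 1 0 = g.1 2 2 ^ 2 := by
    linear_combination g.1 2 2 ^ 2 * hd' - (g.1 0 0 * g.1 1 1 - g.1 0 1 * g.1 1 0) * ht3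
  linear_combination hd2 - g.1 1 2 * h2 - g.1 0 2 * h1

theorem pow_cases_Pb (hK : Fintype.card K = 4) {g : X K} (hg : g ∈ Pb K) :
    pj K g ^ 3 = 1 ∨ pj K g ^ 4 = 1 ∨ pj K g ^ 5 = 1 := by
  obtain ⟨h1, h2⟩ := hg
  have hd := det_eq g
  have ht : g.1 0 0 ≠ 0 := by
    intro h0
    apply zero_ne_one (α := K)
    linear_combination hd + (-(g.1 2 2 * g.1 1 1) + g.1 1 2 * g.1 2 1) * h0 + (g.1 0 1 * g.1 2 2 - g.1 0 2 * g.1 2 1) * h1 +
      (g.1 0 2 * g.1 1 1 - g.1 0 1 * g.1 1 2) * h2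
  have ht3 := cube_one hK ht
  have k2 := two_zero hK
  apply pow_cases_par hK g ht
  rw [Matrix.adjugate_fin_three, Matrix.trace_fin_three, Matrix.trace_fin_three]
  simp
  have hd' : g.1 0 0 * (g.1 1 1 * g.1 2 2 - g.1 1 2 * g.1 2 1) = 1 := by
    linear_combination hd + (g.1 0 1 * g.1 2 2 - g.1 0 2 * g.1 2 1) * h1 + (g.1 0 2 * g.1 1 1 - g.1 0 1 * g.1 1 2) * h2
  have hd2 : g.1 1 1 * g.1 2 2 - g.1 1 2 * g.1 2 1 = g.1 0 0 ^ 2 := by
    linear_combination g.1 0 0 ^ 2 * hd' - (g.1 1 1 * g.1 2 2 - g.1 1 2 * g.1 2 1) * ht3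
  linear_combination hd2 - g.1 0 1 * h1 - g.1 0 2 * h2

lemma comm_le {G : Type*} [Group G] (H : Subgroup G) : ⁅H, H⁆ ≤ H :=
  Subgroup.commutator_le.2 fun _ ha _ hb =>
    H.mul_mem (H.mul_mem (H.mul_mem ha hb) (H.inv_mem ha)) (H.inv_mem hb)

theorem par_sup (hK : Fintype.card K = 4) : (Pa K).map (pj K) ⊔ (Pb K).map (pj K) = ⊤ := by
  obtain ⟨w, hw⟩ := exists_w hK
  have k2 := two_zero hK
  have hw0 : w ≠ 0 := by
    rintro rfl
    norm_num at hw
  have hw1 : w * w ≠ 1 := by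
    intro h0
    apply hw0
    linear_combination hw - h0 - k2
  obtain ⟨-, h2⟩ := gen_parabolics hw0 hw1
  rw [← Subgroup.map_sup, eq_top_iff, ← Subgroup.map_top_of_surjective (pj K) (QuotientGroup.mk'_surjective _)]
  apply Subgroup.map_mono
  rw [← h2]
  apply sup_le_sup
  · apply sup_le
    · rintro _ ⟨b, c, rfl⟩
      constructor <;> simp [uni]
    · exact comm_le _
  · apply sup_le
    · rintro _ ⟨b, c, rfl⟩
      constructor <;> simp [uni]
    · exact comm_le _

end par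

end Cfsg.Agent.H906.T14
end

-- part: H906/T14Irr
section
/-!
# The Borel subgroup of a cover of `PSL_3(4)` is irreducible in degree six
-/

set_option autoImplicit false
set_option linter.unusedSectionVars false

namespace Cfsg.Agent.H906.T14

open Cfsg Cfsg.Geo SL3Par L34 Wt
open scoped MatrixGroups commutatorElement Matrix

/-- a permutation of a three-element set -/
lemma three_cycle {X : Type*} (y s : Equiv.Perm X) (hs2 : s * s = 1) (hcomm : s * (y * s * y⁻¹) = (y * s * y⁻¹) * s)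
    {c0 c1 c2 : X} (h0 : y c0 = c1) (h1 : y c1 = c2) (h2 : y c2 = c0) (h01 : c0 ≠ c1) (h02 : c0 ≠ c2) (h12 : c1 ≠ c2)
    (s0 : s c0 = c0 ∨ s c0 = c1 ∨ s c0 = c2) (s1 : s c1 = c0 ∨ s c1 = c1 ∨ s c1 = c2)
    (s2 : s c2 = c0 ∨ s c2 = c1 ∨ s c2 = c2) : s c0 = c0 ∧ s c1 = c1 ∧ s c2 = c2 := by
  have i0 : y⁻¹ c1 = c0 := by rw [← h0]; simp
  have i1 : y⁻¹ c2 = c1 := by rw [← h1]; simp
  have i2 : y⁻¹ c0 = c2 := by rw [← h2]; simp
  have sq : ∀ x, s (s x) = x := fun x => by
    have := congrArg (fun f : Equiv.Perm X => f x) hs2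
    exact this
  have cm : ∀ x, s (y (s (y⁻¹ x))) = y (s (y⁻¹ (s x))) := fun x => by
    have := congrArg (fun f : Equiv.Perm X => f x) hcomm
    exact this
  have cm0 := cm c0
  rw [i2] at cm0
  rcases s0 with s0 | s0 | s0
  · rcases s1 with s1 | s1 | s1
    · exfalso
      apply h01
      exact s.injective (by rw [s0, s1])
    · refine ⟨s0, s1, ?_⟩
      rcases s2 with s2 | s2 | s2
      · exact absurd (s.injective (by rw [s0, s2])) h02
      · exact absurd (s.injective (by rw [s1, s2])) h12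
      · exact s2
    · exfalso
      have s2' : s c2 = c1 := by rw [← s1, sq]
      rw [s2', h1, s2', s0, i2, s2', h1] at cm0
      exact h12 cm0
  · exfalso
    have s1' : s c1 = c0 := by rw [← s0, sq]
    have s2' : s c2 = c2 := by
      rcases s2 with s2 | s2 | s2
      · exact absurd (s.injective (by rw [s1', s2])) h12
      · exact absurd (s.injective (by rw [s0, s2])) h02
      · exact s2
    rw [s2', h2, s0, i0, s0, h1] at cm0
    exact h12 cm0
  · exfalso
    have s2' : s c2 = c0 := by rw [← s0, sq]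
    have s1' : s c1 = c1 := by
      rcases s1 with s1 | s1 | s1
      · exact absurd (s.injective (by rw [s2', s1])) h12
      · exact s1
      · exact absurd (s.injective (by rw [s0, s1])) h01
    rw [s2', h0, s1', s0, i1, s1', h1] at cm0
    exact h12 cm0

section lifted

variable {K : Type*} [Field K] [Fintype K] {L : Type*} [Group L] [Finite L]
  {φ : L →* Matrix.ProjectiveSpecialLinearGroup (Fin 3) K} (h : Two φ) (hK : Fintype.card K = 4)
  {Ω V : Type*} [Field Ω] [IsAlgClosed Ω] [AddCommGroup V] [Module Ω V] [FiniteDimensional Ω V]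
  (ρ : L →* Module.End Ω V)

lemma six_le_one (hρ : Function.Injective ρ) (hZ : ∀ z ∈ φ.ker, ∃ c : Ω, ρ z = c • 1) (h2 : (2 : Ω) ≠ 0)
    (hd : Module.finrank Ω V = 6) (χ : Ah h hK →* Ωˣ) : Module.finrank Ω (W (rs ρ (Ah h hK)) χ) ≤ 1 := by
  classical
  obtain ⟨w, hw⟩ := exists_w hK
  obtain ⟨x, hxP, hx5, hx1, hx, -⟩ := exists_x5 hK hw
  obtain ⟨g, hg⟩ := h.surj (pj K x)
  obtain ⟨χ₀, h1, h3, h4⟩ := six_fixed h hK ρ hρ hZ h2 hd hw hxP hx5 hx hg
  set σ := sg Ω (nor_Ah h hK hxP hg) with hσ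
  have h5 : σ ^ 5 = 1 := by
    rw [hσ, ← sg_pow _ 5 ((nor_Ah h hK hxP hg).pow 5)]
    exact sg_eq_one _ (fun a _ => h.comm (z := g ^ 5) (by rw [MonoidHom.mem_ker, map_pow, hg, hx5]) a)
  by_cases hfix : σ χ = χ
  · by_cases hne : χ = χ₀
    · rw [hne, h4]
    · rw [h3 χ hfix hne, finrank_bot]
      exact Nat.zero_le _
  · have hfr : ∀ i : ℕ, Module.finrank Ω (W (rs ρ (Ah h hK)) ((σ ^ i) χ)) = Module.finrank Ω (W (rs ρ (Ah h hK)) χ) := by
      intro i
      induction i with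
      | zero => rfl
      | succ i ih => rw [pow_succ', Equiv.Perm.mul_apply, hσ, finrank_sg, ← hσ, ih]
    have hinj : Set.InjOn (fun i : ℕ => (σ ^ i) χ) (Finset.range 5) := by
      have aux : ∀ i j : ℕ, i < j → j < 5 → (σ ^ i) χ ≠ (σ ^ j) χ := by
        intro i j hij hj h0
        apply hfix
        have h6 : (σ ^ (j - i)) χ = χ := by
          apply (σ ^ i).injective
          rw [← Equiv.Perm.mul_apply, ← pow_add, Nat.add_sub_cancel' hij.le, h0]
        have h7 : j - i = 1 ∨ j - i = 2 ∨ j - i = 3 ∨ j - i = 4 := by omega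
        rcases h7 with h7 | h7 | h7 | h7 <;> rw [h7] at h6
        · exact perm_fix _ h5 (k := 1) (m := 1) (by norm_num) h6
        · exact perm_fix _ h5 (k := 2) (m := 3) (by norm_num) h6
        · exact perm_fix _ h5 (k := 3) (m := 2) (by norm_num) h6
        · exact perm_fix _ h5 (k := 4) (m := 4) (by norm_num) h6
      intro i hi j hj hij
      rw [Finset.coe_range, Set.mem_Iio] at hi hj
      rcases lt_trichotomy i j with h8 | h8 | h8
      · exact absurd hij (aux i j h8 hj)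
      · exact h8
      · exact absurd hij.symm (aux j i h8 hi)
    have h6 := sum_le h hK ρ h2 (insert χ₀ (Finset.image (fun i : ℕ => (σ ^ i) χ) (Finset.range 5)))
    have hnot : χ₀ ∉ Finset.image (fun i : ℕ => (σ ^ i) χ) (Finset.range 5) := by
      intro h0
      obtain ⟨i, -, hi⟩ := Finset.mem_image.1 h0
      apply hfix
      apply (σ ^ i).injective
      rw [← Equiv.Perm.mul_apply, ← pow_succ, pow_succ', Equiv.Perm.mul_apply, hi, h1]
    rw [Finset.sum_insert hnot, Finset.sum_image hinj, Finset.sum_congr rfl (fun i _ => hfr i), Finset.sum_const,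
      Finset.card_range, h4, hd, smul_eq_mul] at h6
    omega

/-- a non-zero invariant subspace contains a weight vector -/
lemma exists_weight (h2 : (2 : Ω) ≠ 0) {W' : Submodule Ω V} (hW' : ∀ a ∈ Ah h hK, ∀ v ∈ W', ρ a v ∈ W') (hne : W' ≠ ⊥) :
    ∃ χ : Ah h hK →* Ωˣ, ∃ v ∈ W (rs ρ (Ah h hK)) χ, v ∈ W' ∧ v ≠ 0 := by
  let ρ' : Ah h hK →* Module.End Ω W' :=
    { toFun := fun a => (ρ a.1).restrict (hW' a.1 a.2)
      map_one' := by
        ext v
        change ρ 1 v.1 = v.1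
        rw [map_one, Module.End.one_apply]
      map_mul' := fun a b => by
        ext v
        change ρ (a.1 * b.1) v.1 = ρ a.1 (ρ b.1 v.1)
        rw [map_mul, Module.End.mul_apply] }
  have hcomm' : ∀ a b : Ah h hK, ρ' a * ρ' b = ρ' b * ρ' a := by
    intro a b
    have e1 : a * b = b * a := Subtype.ext (comm_Ah h hK a.1 a.2 b.1 b.2)
    rw [← map_mul, ← map_mul, e1]
  have hsup := iSup_W hcomm' (card_Ah h hK h2)
  by_contra hcon
  push Not at hcon
  have hbot : ∀ χ : Ah h hK →* Ωˣ, W ρ' χ = ⊥ := by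
    intro χ
    rw [Submodule.eq_bot_iff]
    intro v hv
    refine Subtype.ext (hcon χ v.1 ?_ v.2)
    rw [mem_W] at hv ⊢
    intro a
    exact congrArg Subtype.val (hv a)
  rw [iSup_congr hbot, iSup_bot] at hsup
  apply hne
  rw [Submodule.eq_bot_iff]
  intro v hv
  have h3 : (⟨v, hv⟩ : W') ∈ (⊥ : Submodule Ω W') := by rw [hsup]; trivial
  exact congrArg Subtype.val ((Submodule.mem_bot Ω).1 h3)

lemma le_of_inter {W₁ W' : Submodule Ω V} (h1 : Module.finrank Ω W₁ ≤ 1) {v : V} (hv : v ∈ W₁) (hv' : v ∈ W') (hv0 : v ≠ 0) :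
    W₁ ≤ W' := by
  intro u hu
  have h2 : Module.finrank Ω W₁ = 1 := by
    apply le_antisymm h1
    rw [Nat.one_le_iff_ne_zero]
    intro h0
    rw [Submodule.finrank_eq_zero] at h0
    rw [h0, Submodule.mem_bot] at hv
    exact hv0 hv
  obtain ⟨c, hc⟩ := (finrank_eq_one_iff_of_nonzero' (K := Ω) (V := W₁) ⟨v, hv⟩ (by
    intro h0
    exact hv0 (congrArg Subtype.val h0))).1 h2 ⟨u, hu⟩
  have h3 : c • v = u := congrArg Subtype.val hc
  rw [← h3]
  exact W'.smul_mem c hv'

include h hK in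
/-- the Borel subgroup is irreducible in degree six -/
theorem six_irred (hρ : Function.Injective ρ) (hZ : ∀ z ∈ φ.ker, ∃ c : Ω, ρ z = c • 1) (h2 : (2 : Ω) ≠ 0)
    (hd : Module.finrank Ω V = 6) (W' : Submodule Ω V)
    (hW' : ∀ g : L, φ g ∈ (Pa K ⊓ Pb K).map (pj K) → ∀ v ∈ W', ρ g v ∈ W') : W' = ⊥ ∨ W' = ⊤ := by
  classical
  obtain ⟨w, hw⟩ := exists_w hK
  have k2 := two_zero hK
  obtain ⟨y, hyP, hyP', hy3, hy⟩ := exists_y3 (K := K) hw
  obtain ⟨g, hg⟩ := h.surj (pj K y)
  have hgB : φ g ∈ (Pa K ⊓ Pb K).map (pj K) := ⟨y, ⟨hyP, hyP'⟩, hg.symm⟩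
  -- the involution
  have hUa : ∀ a b c : K, uni a b c ∈ Pa K := fun a b c => by constructor <;> simp [uni]
  have hUb : ∀ a b c : K, uni a b c ∈ Pb K := fun a b c => by constructor <;> simp [uni]
  have sq0 : ∀ a : K, pj K (uni a 0 0) ^ 2 = 1 := by
    intro a
    rw [← map_pow, pow_two, uni_mul, add_self hK, add_self hK, mul_zero, add_zero, uni_zero, map_one]
  obtain ⟨s, hs, hs2⟩ := h.lift_two hK (pj K (uni 1 0 0)) (sq0 1)
  have hsB : φ s ∈ (Pa K ⊓ Pb K).map (pj K) := ⟨uni 1 0 0, ⟨hUa _ _ _, hUb _ _ _⟩, hs.symm⟩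
  have ns := nor_Ah h hK (hUa 1 0 0) hs
  have ng := nor_Ah h hK hyP hg
  set σ := sg Ω ns with hσ
  set τ := sg Ω ng with hτ
  have hτ3 : τ ^ 3 = 1 := by
    rw [hτ, ← sg_pow _ 3 (ng.pow 3)]
    exact sg_eq_one _ (fun a _ => h.comm (z := g ^ 3) (by rw [MonoidHom.mem_ker, map_pow, hg, ← map_pow, hy3, map_one]) a)
  have hσ2 : σ * σ = 1 := by
    rw [← pow_two, hσ, ← sg_pow _ 2 (ns.pow 2)]
    exact sg_eq_one _ (fun a _ => by rw [hs2, one_mul, mul_one])
  have hσc : σ * (τ * σ * τ⁻¹) = (τ * σ * τ⁻¹) * σ := by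
    have n1 : Nor (Ah h hK) (g * s * g⁻¹) := (ng.mul ns).mul ng.inv
    have e1 : τ * σ * τ⁻¹ = sg Ω n1 := by
      ext χ a
      have e2 : sg Ω n1 χ = sg Ω ng (sg Ω ns (sg Ω ng.inv χ)) := by
        rw [sg_mul (ng.mul ns) ng.inv n1, sg_mul ng ns (ng.mul ns)]
      have e3 : sg Ω ng.inv χ = τ⁻¹ χ := by
        have n0 : Nor (Ah h hK) (g * g⁻¹) := ng.mul ng.inv
        apply τ.injective
        have q0 : τ (τ⁻¹ χ) = χ := by simp
        rw [q0, hτ, ← sg_mul ng ng.inv n0]
        have : sg Ω n0 = 1 := sg_eq_one _ (fun a _ => by rw [mul_inv_cancel, one_mul, mul_one])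
        rw [this]; rfl
      rw [e2, e3]
      rfl
    have hc : s * (g * s * g⁻¹) = (g * s * g⁻¹) * s := by
      have q1 : φ (g * s * g⁻¹) = pj K (uni (w ^ 2) 0 0) := by
        rw [map_mul, map_mul, map_inv, hg, hs, ← map_inv, ← map_mul, ← map_mul, hy]
        simp
      apply h.comm_of hK _ hs2
      · rw [conj_pow, hs2, mul_one, mul_inv_cancel]
      · rw [q1, hs, ← map_mul, ← map_mul, uni_mul, uni_mul]
        congr 2 <;> ring
    have n2 : Nor (Ah h hK) (s * (g * s * g⁻¹)) := ns.mul n1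
    have n3 : Nor (Ah h hK) ((g * s * g⁻¹) * s) := n1.mul ns
    rw [e1]
    ext χ a
    have e4 : sg Ω n2 χ = sg Ω n3 χ := by
      ext b
      rw [sg_apply, sg_apply]
      congr 2
      apply Subtype.ext
      change (s * (g * s * g⁻¹))⁻¹ * b.1 * (s * (g * s * g⁻¹)) = _
      rw [hc]
    rw [sg_mul ns n1 n2, sg_mul n1 ns n3] at e4
    exact congrArg Units.val (DFunLike.congr_fun e4 a)
  -- multiplicities
  have hle := six_le_one h hK ρ hρ hZ h2 hd
  obtain ⟨ψ₀, q1, q3, l, hl⟩ := three_fixed h hK ρ hZ h2 hw hyP hy3 hy hg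
  have hyfix : ∀ χ, τ χ = χ → W (rs ρ (Ah h hK)) χ = ⊥ := by
    intro χ hχ
    by_cases hne : χ = ψ₀
    · have h5 := hle ψ₀
      rw [hd] at hl
      have h6 : Module.finrank Ω (W (rs ρ (Ah h hK)) ψ₀) = 0 := by omega
      rw [hne]
      exact Submodule.finrank_eq_zero.1 h6
    · exact q3 χ hχ hne
  -- invariance of the set of weights in `W'`
  have hA : ∀ a ∈ Ah h hK, ∀ v ∈ W', ρ a v ∈ W' := by
    rintro a ⟨⟨_, ⟨b, c, rfl⟩, ha⟩, -⟩ v hv
    exact hW' a ⟨uni 0 b c, ⟨hUa _ _ _, hUb _ _ _⟩, ha⟩ v hv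
  by_cases hbot : W' = ⊥
  · exact Or.inl hbot
  right
  obtain ⟨χ, v, hv, hvW, hv0⟩ := exists_weight h hK ρ h2 hA hbot
  by_contra htop
  have hcomm' : ∀ a b : Ah h hK, rs ρ (Ah h hK) a * rs ρ (Ah h hK) b = rs ρ (Ah h hK) b * rs ρ (Ah h hK) a := by
    intro a b
    change ρ a.1 * ρ b.1 = ρ b.1 * ρ a.1
    rw [← map_mul, comm_Ah h hK a.1 a.2 b.1 b.2, map_mul]
  have hsup := iSup_W hcomm' (card_Ah h hK h2)
  obtain ⟨ψ, hψ⟩ : ∃ ψ, ¬ W (rs ρ (Ah h hK)) ψ ≤ W' := by
    by_contra hcon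
    push Not at hcon
    apply htop
    rw [eq_top_iff, ← hsup]
    exact iSup_le hcon
  -- moving weights
  have move : ∀ (k : L) (nk : Nor (Ah h hK) k), φ k ∈ (Pa K ⊓ Pb K).map (pj K) → ∀ θ : Ah h hK →* Ωˣ,
      W (rs ρ (Ah h hK)) θ ≠ ⊥ → (W (rs ρ (Ah h hK)) θ ≤ W' ↔ W (rs ρ (Ah h hK)) (sg Ω nk θ) ≤ W') := by
    intro k nk hk θ hθ
    obtain ⟨u, hu, hu0⟩ := (Submodule.ne_bot_iff _).1 hθ
    have hku := map_W ρ nk θ hu
    have hback : ρ k⁻¹ (ρ k u) = u := by
      rw [← Module.End.mul_apply, ← map_mul, inv_mul_cancel, map_one, Module.End.one_apply]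
    constructor
    · intro hle'
      apply le_of_inter (hle _) hku (hW' k hk u (hle' hu))
      intro h0
      apply hu0
      rw [← hback, h0, map_zero]
    · intro hle'
      have h6 := hW' k⁻¹ (by rw [map_inv]; exact Subgroup.inv_mem _ hk) _ (hle' hku)
      rw [hback] at h6
      exact le_of_inter (hle _) hu h6 hu0
  have nebot : ∀ (k : L) (nk : Nor (Ah h hK) k) (θ : Ah h hK →* Ωˣ), W (rs ρ (Ah h hK)) θ ≠ ⊥ →
      W (rs ρ (Ah h hK)) (sg Ω nk θ) ≠ ⊥ := by
    intro k nk θ hθ h0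
    apply hθ
    rw [← Submodule.finrank_eq_zero] at h0 ⊢
    rwa [finrank_sg] at h0
  have hχne : W (rs ρ (Ah h hK)) χ ≠ ⊥ := (Submodule.ne_bot_iff _).2 ⟨v, hv, hv0⟩
  have hψne : W (rs ρ (Ah h hK)) ψ ≠ ⊥ := by
    intro h0
    apply hψ
    rw [h0]; exact bot_le
  have hχle : W (rs ρ (Ah h hK)) χ ≤ W' := le_of_inter (hle _) hv hvW hv0
  -- orbits of length three
  have orb : ∀ θ : Ah h hK →* Ωˣ, W (rs ρ (Ah h hK)) θ ≠ ⊥ → θ ≠ τ θ ∧ θ ≠ τ (τ θ) ∧ τ θ ≠ τ (τ θ) ∧ τ (τ (τ θ)) = θ := by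
    intro θ hθ
    have a1 : τ θ ≠ θ := fun h0 => hθ (hyfix θ h0)
    have a3 : τ (τ (τ θ)) = θ := by
      have := congrArg (fun f : Equiv.Perm (Ah h hK →* Ωˣ) => f θ) hτ3
      exact this
    refine ⟨a1.symm, ?_, ?_, a3⟩
    · intro h0
      apply a1
      rw [← h0] at a3
      exact a3
    · intro h0
      exact a1 (τ.injective h0.symm)
  obtain ⟨c01, c02, c12, c3⟩ := orb χ hχne
  obtain ⟨d01, d02, d12, d3⟩ := orb ψ hψne
  have fr1 : ∀ θ : Ah h hK →* Ωˣ, W (rs ρ (Ah h hK)) θ ≠ ⊥ → Module.finrank Ω (W (rs ρ (Ah h hK)) θ) = 1 := by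
    intro θ hθ
    apply le_antisymm (hle θ)
    rw [Nat.one_le_iff_ne_zero]
    intro h0
    exact hθ (Submodule.finrank_eq_zero.1 h0)
  have inχ : ∀ θ ∈ ({χ, τ χ, τ (τ χ)} : Finset (Ah h hK →* Ωˣ)), W (rs ρ (Ah h hK)) θ ≠ ⊥ ∧ W (rs ρ (Ah h hK)) θ ≤ W' := by
    intro θ hθ
    simp only [Finset.mem_insert, Finset.mem_singleton] at hθ
    have e1 : W (rs ρ (Ah h hK)) (τ χ) ≠ ⊥ ∧ W (rs ρ (Ah h hK)) (τ χ) ≤ W' :=
      ⟨nebot g ng χ hχne, (move g ng hgB χ hχne).1 hχle⟩
    rcases hθ with rfl | rfl | rfl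
    · exact ⟨hχne, hχle⟩
    · exact e1
    · exact ⟨nebot g ng _ e1.1, (move g ng hgB _ e1.1).1 e1.2⟩
  have inψ : ∀ θ ∈ ({ψ, τ ψ, τ (τ ψ)} : Finset (Ah h hK →* Ωˣ)), W (rs ρ (Ah h hK)) θ ≠ ⊥ ∧ ¬ W (rs ρ (Ah h hK)) θ ≤ W' := by
    intro θ hθ
    simp only [Finset.mem_insert, Finset.mem_singleton] at hθ
    have e1 : W (rs ρ (Ah h hK)) (τ ψ) ≠ ⊥ ∧ ¬ W (rs ρ (Ah h hK)) (τ ψ) ≤ W' :=
      ⟨nebot g ng ψ hψne, fun h0 => hψ ((move g ng hgB ψ hψne).2 h0)⟩
    rcases hθ with rfl | rfl | rfl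
    · exact ⟨hψne, hψ⟩
    · exact e1
    · exact ⟨nebot g ng _ e1.1, fun h0 => e1.2 ((move g ng hgB _ e1.1).2 h0)⟩
  have card3 : ∀ a b c : Ah h hK →* Ωˣ, a ≠ b → a ≠ c → b ≠ c → ({a, b, c} : Finset (Ah h hK →* Ωˣ)).card = 3 := by
    intro a b c hab hac hbc
    exact Finset.card_eq_three.2 ⟨a, b, c, hab, hac, hbc, rfl⟩
  have hdisj : Disjoint ({χ, τ χ, τ (τ χ)} : Finset (Ah h hK →* Ωˣ)) {ψ, τ ψ, τ (τ ψ)} := by
    rw [Finset.disjoint_left]
    intro θ h1 h3
    exact (inψ θ h3).2 (inχ θ h1).2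
  have all : ∀ θ : Ah h hK →* Ωˣ, W (rs ρ (Ah h hK)) θ ≠ ⊥ →
      θ ∈ ({χ, τ χ, τ (τ χ)} : Finset (Ah h hK →* Ωˣ)) ∪ {ψ, τ ψ, τ (τ ψ)} := by
    intro θ hθ
    by_contra hnot
    have h6 := sum_le h hK ρ h2 (insert θ (({χ, τ χ, τ (τ χ)} : Finset (Ah h hK →* Ωˣ)) ∪ {ψ, τ ψ, τ (τ ψ)}))
    rw [Finset.sum_congr rfl (fun θ' hθ' => fr1 θ' (by
      rw [Finset.mem_insert, Finset.mem_union] at hθ'
      rcases hθ' with rfl | h7 | h7
      · exact hθ
      · exact (inχ _ h7).1
      · exact (inψ _ h7).1)), Finset.sum_const, Finset.card_insert_of_notMem hnot, Finset.card_union_of_disjoint hdisj,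
      card3 _ _ _ c01 c02 c12, card3 _ _ _ d01 d02 d12, hd, smul_eq_mul] at h6
    omega
  -- `σ` fixes every weight
  have hσχ : ∀ θ ∈ ({χ, τ χ, τ (τ χ)} : Finset (Ah h hK →* Ωˣ)), σ θ ∈ ({χ, τ χ, τ (τ χ)} : Finset (Ah h hK →* Ωˣ)) := by
    intro θ hθ
    have e1 := inχ θ hθ
    have e2 := all (σ θ) (nebot s ns θ e1.1)
    rw [Finset.mem_union] at e2
    rcases e2 with e2 | e2
    · exact e2
    · exact absurd ((move s ns hsB θ e1.1).1 e1.2) (inψ _ e2).2
  have hσψ : ∀ θ ∈ ({ψ, τ ψ, τ (τ ψ)} : Finset (Ah h hK →* Ωˣ)), σ θ ∈ ({ψ, τ ψ, τ (τ ψ)} : Finset (Ah h hK →* Ωˣ)) := by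
    intro θ hθ
    have e1 := inψ θ hθ
    have e2 := all (σ θ) (nebot s ns θ e1.1)
    rw [Finset.mem_union] at e2
    rcases e2 with e2 | e2
    · exact absurd ((move s ns hsB θ e1.1).2 (inχ _ e2).2) e1.2
    · exact e2
  have r1 := three_cycle τ σ hσ2 hσc (c0 := χ) rfl rfl c3 c01 c02 c12 (by simpa using hσχ χ (by simp))
    (by simpa using hσχ (τ χ) (by simp)) (by simpa using hσχ (τ (τ χ)) (by simp))
  have r2 := three_cycle τ σ hσ2 hσc (c0 := ψ) rfl rfl d3 d01 d02 d12 (by simpa using hσψ ψ (by simp))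
    (by simpa using hσψ (τ ψ) (by simp)) (by simpa using hσψ (τ (τ ψ)) (by simp))
  have hfixall : ∀ θ : Ah h hK →* Ωˣ, W (rs ρ (Ah h hK)) θ ≠ ⊥ → σ θ = θ := by
    intro θ hθ
    have e1 := all θ hθ
    simp only [Finset.mem_union, Finset.mem_insert, Finset.mem_singleton] at e1
    rcases e1 with (rfl | rfl | rfl) | (rfl | rfl | rfl)
    · exact r1.1
    · exact r1.2.1
    · exact r1.2.2
    · exact r2.1
    · exact r2.2.1
    · exact r2.2.2
  -- hence `s` centralises the lift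
  obtain ⟨a, ha, ha1⟩ := lift_Ah h hK 1 0
  have hsa : s * a * s⁻¹ = a := by
    apply hρ
    apply LinearMap.ext
    intro u
    have hu : u ∈ ⨆ χ : Ah h hK →* Ωˣ, W (rs ρ (Ah h hK)) χ := by rw [hsup]; trivial
    induction hu using Submodule.iSup_induction' with
    | mem θ u hu =>
      by_cases hθ : W (rs ρ (Ah h hK)) θ = ⊥
      · rw [hθ, Submodule.mem_bot] at hu
        rw [hu, map_zero, map_zero]
      · have e1 := (sg_eq_self ns).1 (hfixall θ hθ) ⟨a, ha⟩
        have e2 := mem_W.1 hu ⟨s * a * s⁻¹, (ns a).1 ha⟩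
        have e3 := mem_W.1 hu ⟨a, ha⟩
        change ρ (s * a * s⁻¹) u = _ at e2
        change ρ a u = _ at e3
        rw [e2, e3, e1]
    | zero => rw [map_zero, map_zero]
    | add u u' _ _ h1 h3 => rw [map_add, map_add, h1, h3]
  have h7 : pj K (uni 1 0 0 * uni 0 1 0 * (uni 1 0 0)⁻¹) = pj K (uni 0 1 0) := by
    rw [map_mul, map_mul, map_inv, ← hs, ← ha1, ← map_mul, ← map_inv, ← map_mul, hsa]
  rw [uni_inv, uni_mul, uni_mul] at h7
  have h8 := congrFun (congrFun (congrArg Subtype.val (pj_uni_inj h7)) 0) 2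
  simp [uni] at h8

end lifted

end Cfsg.Agent.H906.T14
end

-- part: H906/T14SixM
section
/-!
# Cores with socle `PSL_3(4)` in degree six: glueing
-/

set_option autoImplicit false
set_option linter.unusedSectionVars false

namespace Cfsg.Agent.H906.T14

open Cfsg Cfsg.Geo SL3Par L34 H915.LD Wt
open scoped MatrixGroups commutatorElement Matrix

universe u v

variable {ι : Type} [Fintype ι] [DecidableEq ι] {F : Type u} [Field F] {P : Subgroup (GL ι F)}
  {K : Type v} [Field K] [Fintype K]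

/-- the matrix representation over the algebraic closure -/
noncomputable def mrep (P : Subgroup (GL ι F)) : P →* Matrix ι ι (AlgebraicClosure F) :=
  (Units.coeHom _).comp ((Matrix.GeneralLinearGroup.map (algebraMap F (AlgebraicClosure F))).comp P.subtype)

lemma mrep_apply (g : P) : mrep P g = ((g : GL ι F) : Matrix ι ι F).map (algebraMap F (AlgebraicClosure F)) := rfl

lemma trace_mrep (g : P) : (mrep P g).trace = algebraMap F (AlgebraicClosure F) (tr (g : GL ι F)) := by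
  rw [mrep_apply]
  unfold tr Matrix.trace
  rw [map_sum]
  rfl

variable (e : Soc P ≃* Matrix.ProjectiveSpecialLinearGroup (Fin 3) K)

/-- the Borel subgroup, the parabolic subgroups -/
def Bh : Subgroup P := ((Pa K ⊓ Pb K).map (pj K)).comap (ph e)

def Ma : Subgroup P := ((Pa K).map (pj K)).comap (ph e)

def Mb : Subgroup P := ((Pb K).map (pj K)).comap (ph e)

lemma Bh_le_Ma : Bh e ≤ Ma e := Subgroup.comap_mono (Subgroup.map_mono inf_le_left)

lemma Bh_le_Mb : Bh e ≤ Mb e := Subgroup.comap_mono (Subgroup.map_mono inf_le_right)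

lemma Ma_sup_Mb (hK : Fintype.card K = 4) : Ma e ⊔ Mb e = ⊤ := by
  have h1 := par_sup hK
  have hs := ph_surj e
  rw [eq_top_iff]
  intro g _
  have h2 : (Ma e ⊔ Mb e).map (ph e) = ⊤ := by
    rw [Subgroup.map_sup]
    unfold Ma Mb
    rw [Subgroup.map_comap_eq_self_of_surjective hs, Subgroup.map_comap_eq_self_of_surjective hs, h1]
  have h3 : ph e g ∈ (Ma e ⊔ Mb e).map (ph e) := by rw [h2]; trivial
  obtain ⟨k, hk, hkg⟩ := h3
  have h4 : (ph e).ker ≤ Ma e := fun z hz => by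
    change ph e z ∈ (Pa K).map (pj K)
    rw [(MonoidHom.mem_ker).1 hz]
    exact Subgroup.one_mem _
  have h5 : k⁻¹ * g ∈ Ma e ⊔ Mb e := by
    apply le_sup_left (a := Ma e)
    apply h4
    rw [MonoidHom.mem_ker, map_mul, map_inv, hkg, inv_mul_cancel]
  have h6 : g = k * (k⁻¹ * g) := by group
  rw [h6]
  exact Subgroup.mul_mem _ hk h5

theorem span_Bh [Finite P] (h : Two (ph e)) (hK : Fintype.card K = 4) (h2 : (2 : AlgebraicClosure F) ≠ 0)
    (hn : Fintype.card ι = 6) : Submodule.span (AlgebraicClosure F) (mrep P '' (Bh e : Set P)) = ⊤ := by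
  have hne : Nonempty ι := by
    rw [← Fintype.card_pos_iff, hn]; norm_num
  have hd : Module.finrank (AlgebraicClosure F) (ι → AlgebraicClosure F) = 6 := by
    rw [Module.finrank_fintype_fun_eq_card, hn]
  let RB : Subgroup (GL ι (AlgebraicClosure F)) :=
    (Bh e).map ((Matrix.GeneralLinearGroup.map (algebraMap F (AlgebraicClosure F))).comp P.subtype)
  have hset : matrixSet RB = mrep P '' (Bh e : Set P) := by
    ext M
    constructor
    · rintro ⟨_, ⟨g, hg, rfl⟩, rfl⟩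
      exact ⟨g, hg, rfl⟩
    · rintro ⟨g, hg, rfl⟩
      exact ⟨_, ⟨g, hg, rfl⟩, rfl⟩
  have hirr : ∀ W' : Submodule (AlgebraicClosure F) (ι → AlgebraicClosure F),
      (∀ g ∈ Bh e, ∀ v ∈ W', rep P g v ∈ W') → W' = ⊥ ∨ W' = ⊤ := fun W' hW' =>
    six_irred h hK (rep P) rep_injective (fun z hz => rep_scalar e hz) h2 hd W' hW'
  rw [← hset]
  apply Cfsg.Agent.H920.span_eq_top
  constructor
  · intro W' hW'
    apply hirr W'
    intro g hg v hv
    have h1 := hW' (mrep P g) (by rw [hset]; exact ⟨g, hg, rfl⟩)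
    exact h1 ⟨v, hv, rfl⟩
  · intro M hM
    have hnt : Nontrivial (ι → AlgebraicClosure F) := inferInstance
    obtain ⟨c, hc⟩ := Module.End.exists_eigenvalue (Matrix.toLin' M)
    refine ⟨c, ?_⟩
    have h1 := hirr (Module.End.eigenspace (Matrix.toLin' M) c) (by
      intro g hg v hv
      rw [Module.End.mem_eigenspace_iff] at hv ⊢
      have h3 := hM (mrep P g) (by rw [hset]; exact ⟨g, hg, rfl⟩)
      have h4 := congrArg Matrix.toLin' h3
      rw [Matrix.toLin'_mul, Matrix.toLin'_mul] at h4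
      have h5 := congrArg (fun f : (ι → AlgebraicClosure F) →ₗ[AlgebraicClosure F] (ι → AlgebraicClosure F) => f v) h4
      change Matrix.toLin' M (rep P g v) = rep P g (Matrix.toLin' M v) at h5
      rw [h5, hv, map_smul])
    have h3 : Module.End.eigenspace (Matrix.toLin' M) c = ⊤ := by
      rcases h1 with h1 | h1
      · exact absurd h1 hc
      · exact h1
    have h4 : Matrix.toLin' M = Matrix.toLin' (c • (1 : Matrix ι ι (AlgebraicClosure F))) := by
      ext1 v
      rw [map_smul, Matrix.toLin'_one]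
      have h5 : (LinearMap.single (AlgebraicClosure F) (fun _ : ι => AlgebraicClosure F) v 1) ∈
        Module.End.eigenspace (Matrix.toLin' M) c := by rw [h3]; trivial
      rw [Module.End.mem_eigenspace_iff] at h5
      apply LinearMap.ext_ring
      exact h5
    exact Matrix.toLin'.injective h4

/-- glueing along the Borel subgroup -/
theorem glue (hK : Fintype.card K = 4) [Nonempty ι] {ρ₁ ρ₂ : P →* Matrix ι ι (AlgebraicClosure F)}
    (s₁ : Submodule.span (AlgebraicClosure F) (ρ₁ '' (Bh e : Set P)) = ⊤)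
    (s₂ : Submodule.span (AlgebraicClosure F) (ρ₂ '' (Bh e : Set P)) = ⊤)
    (ta : ∀ g ∈ Ma e, (ρ₁ g).trace = (ρ₂ g).trace) (tb : ∀ g ∈ Mb e, (ρ₁ g).trace = (ρ₂ g).trace) (g : P) :
    (ρ₁ g).trace = (ρ₂ g).trace := by
  have mono : ∀ (ρ : P →* Matrix ι ι (AlgebraicClosure F)) (Q : Subgroup P), Bh e ≤ Q →
      Submodule.span (AlgebraicClosure F) (ρ '' (Bh e : Set P)) = ⊤ →
      Submodule.span (AlgebraicClosure F) (ρ '' (Q : Set P)) = ⊤ := by
    intro ρ Q hQ hs
    rw [eq_top_iff, ← hs]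
    exact Submodule.span_mono (Set.image_mono hQ)
  obtain ⟨B₁, hB₁⟩ := L34.exists_agree ρ₁ ρ₂ (Ma e) (mono _ _ (Bh_le_Ma e) s₁) (mono _ _ (Bh_le_Ma e) s₂) ta
  obtain ⟨B₂, hB₂⟩ := L34.exists_agree ρ₁ ρ₂ (Mb e) (mono _ _ (Bh_le_Mb e) s₁) (mono _ _ (Bh_le_Mb e) s₂) tb
  have h1 := L34.agree_eq s₁ ((Bh_le_Ma e).trans hB₁) ((Bh_le_Mb e).trans hB₂)
  have h2 : (⊤ : Subgroup P) ≤ L34.agree ρ₁ ρ₂ B₁ := by
    rw [← Ma_sup_Mb e hK]
    exact sup_le hB₁ (by rw [h1]; exact hB₂)
  have h3 : L34.cjB B₁ ρ₁ g = ρ₂ g := h2 (Subgroup.mem_top g)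
  rw [← h3, L34.cjB_apply, Matrix.trace_mul_comm, ← mul_assoc, ← Units.val_mul, inv_mul_cancel, Units.val_one, one_mul]

end Cfsg.Agent.H906.T14
end

-- part: H906/T14SixF
section
/-!
# Cores with socle `PSL_3(4)` in degree six
-/

set_option autoImplicit false
set_option linter.unusedSectionVars false

namespace Cfsg.Agent.H906.T14

open Cfsg Cfsg.Geo SL3Par L34 H915.LD Wt
open scoped MatrixGroups commutatorElement Matrix

universe u v

variable {ι : Type} [Fintype ι] [DecidableEq ι] {F : Type u} [Field F] {P : Subgroup (GL ι F)}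
  {K : Type v} [Field K] [Fintype K]

/-- traces on a subgroup without elements of order seven -/
theorem six_sub [Finite F] (p : ℕ) [hp : Fact p.Prime] [CharP F p] (hC : Core P) (hp2 : p ≠ 2)
    (hK : Fintype.card K = 4) (hn : Fintype.card ι = 6)
    (e : Soc P ≃* Matrix.ProjectiveSpecialLinearGroup (Fin 3) K) (Q : Subgroup P)
    (hQ : ∀ g ∈ Q, ph e g ^ 3 = 1 ∨ ph e g ^ 4 = 1 ∨ ph e g ^ 5 = 1) :
    (p % 3 = 1 → ∀ g ∈ Q, tr (g : GL ι F) ^ p = tr (g : GL ι F)) ∧
    (p % 3 = 2 → ∀ g ∈ Q, tr (g : GL ι F) ^ p = tr ((g : GL ι F)⁻¹)) ∧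
    (p = 3 → ∀ g ∈ Q, tr (g : GL ι F) ^ p = tr (g : GL ι F) ∧ tr ((g : GL ι F)⁻¹) = tr (g : GL ι F)) := by
  have hfin : Finite P := inferInstance
  have hne := hC.nonempty
  have h := two_of e hC (by rw [hn])
  have hcop := coprime_ker_five hK (ph_surj e) (ph_cen e) hC.commutator_top
  have h2Ω := two_ne (F := F) p hp2 (AlgebraicClosure F)
  have h5 : ∀ g : P, g ^ 5 = 1 → ph e g ≠ 1 → p ≠ 5 → tr (g : GL ι F) ^ p = tr (g : GL ι F) := by
    intro g hg5 hg1 _
    have h6 := five_trace_six h hK (rep P) rep_injective (fun z hz => rep_scalar e hz) h2Ω hcop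
      (by rw [Module.finrank_fintype_fun_eq_card, hn]) hg5 hg1
    rw [trace_rep, ← map_one (algebraMap F (AlgebraicClosure F))] at h6
    rw [(algebraMap F (AlgebraicClosure F)).injective h6, one_pow]
  have hcl := classify e p hC hp2 hK h (fun z hz h9 => by
    have h1 := ph_pow e hC hz
    rw [hn] at h1
    calc z ^ 3 = z ^ 9 * (z ^ 6)⁻¹ := by group
      _ = 1 := by rw [h9, h1]; group) h5
  have hodd : p % 2 = 1 := hp.out.eq_two_or_odd.resolve_left hp2
  -- scalars
  have sc : ∀ z ∈ (ph e).ker, ∀ c : F, ((z : GL ι F) : Matrix ι ι F) = c • 1 → c ^ 6 = 1 := by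
    intro z hz c hc
    have h1 := ph_pow e hC hz
    rw [hn] at h1
    have h3 : (((z ^ 6 : P) : GL ι F) : Matrix ι ι F) = (c ^ 6) • 1 := by
      rw [Subgroup.coe_pow, Units.val_pow_eq_pow_val, hc, smul_pow, one_pow]
    rw [h1] at h3
    apply smul_ext (ι := ι)
    rw [← h3, one_smul]
    rfl
  have key : ∀ g ∈ Q, ¬ p ∣ orderOf g → ∃ g' : P, ph e g = ph e g' ∧ tr (g' : GL ι F) ^ p = tr (g' : GL ι F) ∧
      tr ((g' : GL ι F)⁻¹) = tr (g' : GL ι F) := by
    intro g hg hord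
    obtain ⟨g', h1, h2 | h2⟩ := hcl g hord
    · exact ⟨g', h1, h2.2⟩
    · have h3 : ph e g = 1 := by
        have h7 : ph e g ^ 7 = 1 := by rw [h1, h2.2.1]
        have c7 : ∀ m : ℕ, ph e g ^ m = 1 → ¬ 7 ∣ m → ph e g = 1 := fun m hm hd =>
          eq_one_of_pow h7 (by norm_num) (orderOf_dvd_of_pow_eq_one hm) hd
        rcases hQ g hg with h8 | h8 | h8
        · exact c7 3 h8 (by norm_num)
        · exact c7 4 h8 (by norm_num)
        · exact c7 5 h8 (by norm_num)
      refine ⟨1, by rw [h3, map_one], ?_, ?_⟩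
      · exact tr_real p (g := (1 : P)) (m := 2) (one_pow 2) (by rw [inv_one]) (Or.inl hodd) (by norm_num)
      · exact tr_inv_real (g := (1 : P)) (by rw [inv_one])
  let Q' : Subgroup (GL ι F) := Q.map P.subtype
  have mem : ∀ g ∈ Q', ∃ k ∈ Q, (k : GL ι F) = g := fun g hg => hg
  refine ⟨?_, ?_, ?_⟩
  · intro h3
    have hfr : Fr Q' p := by
      apply Fr.of_reg' p
      intro g hg hord
      obtain ⟨k, hk, rfl⟩ := mem g hg
      obtain ⟨g', h1, h2, h4⟩ := key k hk (by rwa [← Subgroup.orderOf_coe])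
      obtain ⟨z, hz, c, hc0, hc, t1, t2⟩ := tr_twist e h1
      have c6 := sc z hz c hc
      have hcp : c ^ p = c := by
        have h6 : p = 6 * (p / 6) + 1 := by omega
        rw [h6, pow_succ, pow_mul, c6, one_pow, one_mul]
      rw [t1, mul_pow, hcp, h2]
    intro g hg
    exact hfr g ⟨g, hg, rfl⟩
  · intro h3
    have hfr : Cj Q' p := by
      apply Cj.of_reg' p
      intro g hg hord
      obtain ⟨k, hk, rfl⟩ := mem g hg
      obtain ⟨g', h1, h2, h4⟩ := key k hk (by rwa [← Subgroup.orderOf_coe])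
      obtain ⟨z, hz, c, hc0, hc, t1, t2⟩ := tr_twist e h1
      have c6 := sc z hz c hc
      have hcp : c ^ p = c⁻¹ := by
        have h6 : p = 6 * (p / 6) + 5 := by omega
        rw [h6, pow_add, pow_mul, c6, one_pow, one_mul]
        symm
        apply inv_eq_of_mul_eq_one_right
        rw [← pow_succ', c6]
      rw [t1, t2, mul_pow, hcp, h2, h4]
    intro g hg
    exact hfr g ⟨g, hg, rfl⟩
  · rintro rfl
    have c2 : ∀ z ∈ (ph e).ker, ∀ c : F, ((z : GL ι F) : Matrix ι ι F) = c • 1 → c ^ 2 = 1 := by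
      intro z hz c hc
      have c6 := sc z hz c hc
      have h30 : (3 : F) = 0 := by
        have := CharP.cast_eq_zero F 3
        exact_mod_cast this
      have h1 : (c ^ 2 - 1) ^ 3 = 0 := by
        linear_combination c6 - (c ^ 4 - c ^ 2) * h30
      exact sub_eq_zero.1 (pow_eq_zero_iff (by norm_num) |>.1 h1)
    have hfr : Fr Q' 3 := by
      apply Fr.of_reg' 3
      intro g hg hord
      obtain ⟨k, hk, rfl⟩ := mem g hg
      obtain ⟨g', h1, h2, h4⟩ := key k hk (by rwa [← Subgroup.orderOf_coe])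
      obtain ⟨z, hz, c, hc0, hc, t1, t2⟩ := tr_twist e h1
      have c2' := c2 z hz c hc
      have hcp : c ^ 3 = c := by rw [pow_succ, c2', one_mul]
      rw [t1, mul_pow, hcp, h2]
    have hsd : SD Q' := by
      apply SD.of_reg 3
      intro g hg hord
      obtain ⟨k, hk, rfl⟩ := mem g hg
      obtain ⟨g', h1, h2, h4⟩ := key k hk (by rwa [← Subgroup.orderOf_coe])
      obtain ⟨z, hz, c, hc0, hc, t1, t2⟩ := tr_twist e h1
      have c2' := c2 z hz c hc
      have hci : c⁻¹ = c := inv_eq_of_mul_eq_one_right (by rw [← pow_two, c2'])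
      rw [t1, t2, hci, h4]
    intro g hg
    exact ⟨hfr g ⟨g, hg, rfl⟩, hsd g ⟨g, hg, rfl⟩⟩

lemma range_image {Γ ι' : Type*} [Group Γ] [Fintype ι'] [DecidableEq ι'] {R : Type*} [Field R] (ρ : Γ →* Matrix ι' ι' R)
    (Q : Subgroup Γ) : Set.range (ρ.comp Q.subtype) = ρ '' Q := by
  ext M
  constructor
  · rintro ⟨q, rfl⟩
    exact ⟨q.1, q.2, rfl⟩
  · rintro ⟨q, hq, rfl⟩
    exact ⟨⟨q, hq⟩, rfl⟩

/-- **Cores with socle `PSL_3(4)` in degree six.** -/
theorem l34_six [Finite F] (p : ℕ) [hp : Fact p.Prime] [CharP F p] (hC : Core P) (hp2 : p ≠ 2)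
    (hK : Fintype.card K = 4) (hn : Fintype.card ι = 6)
    (e : Soc P ≃* Matrix.ProjectiveSpecialLinearGroup (Fin 3) K) :
    (p % 3 = 1 → Fr P p) ∧ (p % 3 = 2 → Cj P p) ∧ (p = 3 → SD P ∧ Fr P 3) := by
  have hfin : Finite P := inferInstance
  have hne := hC.nonempty
  have h := two_of e hC (by rw [hn])
  have h2Ω := two_ne (F := F) p hp2 (AlgebraicClosure F)
  have hcharΩ : CharP (AlgebraicClosure F) p := charP_of_injective_algebraMap (algebraMap F (AlgebraicClosure F)).injective p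
  have hspan := span_Bh e h hK h2Ω hn
  let Ω := AlgebraicClosure F
  let σ : Ω ≃+* Ω := frobeniusEquiv Ω p
  have hσ : ∀ x : Ω, σ x = x ^ p := fun x => rfl
  have sT : ∀ τ : Ω ≃+* Ω, Submodule.span Ω (twist τ (mrep P) '' (Bh e : Set P)) = ⊤ := by
    intro τ
    rw [← range_image] at hspan ⊢
    have h1 := span_twist τ hspan
    have h3 : twist τ ((mrep P).comp (Bh e).subtype) = (twist τ (mrep P)).comp (Bh e).subtype :=
      MonoidHom.ext fun _ => rfl
    rwa [h3] at h1
  have sC : Submodule.span Ω (contra (mrep P) '' (Bh e : Set P)) = ⊤ := by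
    rw [← range_image] at hspan ⊢
    have h1 := span_contra hspan
    have h3 : contra ((mrep P).comp (Bh e).subtype) = (contra (mrep P)).comp (Bh e).subtype :=
      MonoidHom.ext fun _ => rfl
    rwa [h3] at h1
  have tT : ∀ (τ : Ω ≃+* Ω) (g : P), (twist τ (mrep P) g).trace = τ (algebraMap F Ω (tr (g : GL ι F))) := by
    intro τ g
    rw [twist_apply, map_trace', trace_mrep]
  have tC : ∀ g : P, (contra (mrep P) g).trace = algebraMap F Ω (tr ((g : GL ι F)⁻¹)) := by
    intro g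
    rw [contra_apply, Matrix.trace_transpose, trace_mrep]
    rfl
  have inj := (algebraMap F Ω).injective
  have ha := six_sub p hC hp2 hK hn e (Ma e) (by
    rintro g ⟨x, hx, hxg⟩
    rw [← hxg]
    exact pow_cases_Pa hK hx)
  have hb := six_sub p hC hp2 hK hn e (Mb e) (by
    rintro g ⟨x, hx, hxg⟩
    rw [← hxg]
    exact pow_cases_Pb hK hx)
  refine ⟨?_, ?_, ?_⟩
  · intro h3 g hg
    have h4 := glue e hK (sT σ) hspan (fun g hg => by
      rw [tT, trace_mrep, hσ, ← map_pow, ha.1 h3 g hg]) (fun g hg => by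
      rw [tT, trace_mrep, hσ, ← map_pow, hb.1 h3 g hg]) ⟨g, hg⟩
    rw [tT, trace_mrep, hσ, ← map_pow] at h4
    exact inj h4
  · intro h3 g hg
    have h4 := glue e hK (sT σ) sC (fun g hg => by
      rw [tT, tC, hσ, ← map_pow, ha.2.1 h3 g hg]) (fun g hg => by
      rw [tT, tC, hσ, ← map_pow, hb.2.1 h3 g hg]) ⟨g, hg⟩
    rw [tT, tC, hσ, ← map_pow] at h4
    exact inj h4
  · rintro rfl
    constructor
    · intro g hg
      have h4 := glue e hK sC hspan (fun g hg => by
        rw [tC, trace_mrep, (ha.2.2 rfl g hg).2]) (fun g hg => by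
        rw [tC, trace_mrep, (hb.2.2 rfl g hg).2]) ⟨g, hg⟩
      rw [tC, trace_mrep] at h4
      exact inj h4
    · intro g hg
      have h4 := glue e hK (sT σ) hspan (fun g hg => by
        rw [tT, trace_mrep, hσ, ← map_pow, (ha.2.2 rfl g hg).1]) (fun g hg => by
        rw [tT, trace_mrep, hσ, ← map_pow, (hb.2.2 rfl g hg).1]) ⟨g, hg⟩
      rw [tT, trace_mrep, hσ, ← map_pow] at h4
      exact inj h4

end Cfsg.Agent.H906.T14
end
end

-- part: H921/M22/Facts3
section
set_option linter.all false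
open scoped Cfsg.Agent.FastGrp

/-!
# Facts on `M22` for the representations of degree 12 of `3.M22`

* `oct` : `g` an involution, `w` of order 7, `t = u ^ 4` with `u` of order 8, `t w = g w g⁻¹`, `(t w ^ 3) ^ 5 = 1`;
* `frob` : `y z y⁻¹ = z ^ 3`, `y` of order 5, `z` of order 11;
* `cos` : a subgroup `A` of order 16 and cosets `x₁ A`, `x₂ A` with only one element of order 11 (and none of order 7),
  with only two elements of order 7, one conjugate to the inverse of the other (and none of order 11).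
-/

set_option autoImplicit false

namespace Cfsg.Agent.H921.M22.Facts

open Cfsg Subgroup Cfsg.Agent.SporadicA.GolayBase Cfsg.Agent.SporadicA.GolayPerm
open Cfsg.Agent.SporadicStructure.M24El Cfsg.Agent.H921.Spor.M24

def pw : ℕ := 961494259036883443119923220613221856
def pg : ℕ := 966645205281450554401883888952754624
def pgw : ℕ := 984804022521676985203077058917875840
def pu : ℕ := 968982653686399065263856150837089504
def py : ℕ := 978289236970339193415844103832581600
def lA : List ℕ := [984818244535754528103549039458486304, 960722543430447394230161524690420800,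
  973662324848730782428376625876882528, 956977587143969489668592396845373568, 978355088255623058115747202845514912,
  962385502792982227914350947957228736, 963346065302046961557967289450173664, 975568990542510601383932054293655808,
  966550765170162069893706959823519008, 967334252318246576086866439314121088, 983263827791175851852637786768461248,
  971540950908768264271788005757920736, 964819629591404135287417151862217248, 959654943859448158662998138342062688,
  980112844001466431623916045694209696, 958194967281792409511506720763122368]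
def px1 : ℕ := 979660041653991751886391746673878336
def px2 : ℕ := 977857174874904944130453661151829408
def pa1 : ℕ := 958194967281792409511506720763122368
def pb1 : ℕ := 984818244535754528103549039458486304
def pb2 : ℕ := 967334252318246576086866439314121088
def ph : ℕ := 960189975266886221665753472529208736
def pb2i : ℕ := 965187487493719502169096034149533312

private noncomputable def _root_.Cfsg.Agent.GolayF.f0 : {f // @Cfsg.Agent.H921.M22.Facts.okM = f} :=
  ⟨_, by delta Cfsg.Agent.H921.M22.Facts.okM; rewrite [Cfsg.Agent.GolayF.papp_eq, Cfsg.Agent.GolayF.ok_eq]; exact rfl⟩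

theorem okw : okM pw = true := by (rewrite [Cfsg.Agent.GolayF.f0.2]; decide +kernel)
theorem okg : okM pg = true := by (rewrite [Cfsg.Agent.GolayF.f0.2]; decide +kernel)
theorem okgw : okM pgw = true := by (rewrite [Cfsg.Agent.GolayF.f0.2]; decide +kernel)
theorem oku : okM pu = true := by (rewrite [Cfsg.Agent.GolayF.f0.2]; decide +kernel)
theorem oky : okM py = true := by (rewrite [Cfsg.Agent.GolayF.f0.2]; decide +kernel)
theorem okx1 : okM px1 = true := by (rewrite [Cfsg.Agent.GolayF.f0.2]; decide +kernel)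
theorem okx2 : okM px2 = true := by (rewrite [Cfsg.Agent.GolayF.f0.2]; decide +kernel)
theorem oka1 : okM pa1 = true := by (rewrite [Cfsg.Agent.GolayF.f0.2]; decide +kernel)
theorem okb1 : okM pb1 = true := by (rewrite [Cfsg.Agent.GolayF.f0.2]; decide +kernel)
theorem okb2 : okM pb2 = true := by (rewrite [Cfsg.Agent.GolayF.f0.2]; decide +kernel)
theorem okh : okM ph = true := by (rewrite [Cfsg.Agent.GolayF.f0.2]; decide +kernel)
theorem okb2i : okM pb2i = true := by (rewrite [Cfsg.Agent.GolayF.f0.2]; decide +kernel)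
theorem oklA : lA.all okM = true := by (rewrite [Cfsg.Agent.GolayF.f0.2]; decide +kernel)

theorem okA' {P : ℕ} (h : P ∈ lA) : okM P = true := List.all_eq_true.1 oklA P h

/-- Involution, element of order 7, element of order 8. -/
structure Oct {T : Type*} [Group T] (g w u : T) : Prop where
  hg : orderOf g = 2
  hw : orderOf w = 7
  hu : orderOf u = 8
  hc : g * (w * g * w⁻¹) = (w * g * w⁻¹) * g
  ht : g * (w * g * w⁻¹) = u ^ 4
  h5 : (u ^ 4 * w ^ 3) ^ 5 = 1

private noncomputable def _root_.Cfsg.Agent.GolayF.f1 : {f // @Cfsg.Agent.H921.Spor.M24.ppow = f} :=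
  ⟨_, by delta Cfsg.Agent.H921.Spor.M24.ppow Cfsg.Agent.H921.Spor.M24.ppow._f; rewrite [Cfsg.Agent.GolayF.pcomp_eq]; exact rfl⟩

theorem oct : ∃ g w u : Spor.M22, Oct g w u := by
  have hcj : mk pw * mk pg * (mk pw)⁻¹ = mk pgw := mk_conj okw okg okgw (by (rewrite [Cfsg.Agent.GolayF.pcomp_eq]; decide +kernel))
  refine ⟨mk pg, mk pw, mk pu, ?_, ?_, ?_, ?_, ?_, ?_⟩
  · exact order_mk Nat.prime_two okg (by (rewrite [Cfsg.Agent.GolayF.f1.2]; decide +kernel)) (i := 1) (by norm_num) (by (rewrite [Cfsg.Agent.GolayF.papp_eq]; decide +kernel))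
  · exact order_mk (by norm_num) okw (by (rewrite [Cfsg.Agent.GolayF.f1.2]; decide +kernel)) (i := 1) (by norm_num) (by (rewrite [Cfsg.Agent.GolayF.papp_eq]; decide +kernel))
  · have : Fact (Nat.Prime 2) := ⟨Nat.prime_two⟩
    have h := orderOf_eq_prime_pow (x := mk pu) (p := 2) (n := 2) (by
      rw [← mk_ppow oku]
      exact mk_ne_one (okM_ppow oku _) (i := 1) (by norm_num) (by (rewrite [Cfsg.Agent.GolayF.f1.2, Cfsg.Agent.GolayF.papp_eq]; decide +kernel))) (by
      rw [← mk_ppow oku, show ppow pu (2 ^ (2 + 1)) = idP by (rewrite [Cfsg.Agent.GolayF.f1.2]; decide +kernel), mk_idP])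
    rw [h]
    norm_num
  · rw [hcj, ← mk_pcomp okg okgw, ← mk_pcomp okgw okg, show pcomp pg pgw = pcomp pgw pg by (rewrite [Cfsg.Agent.GolayF.pcomp_eq]; decide +kernel)]
  · rw [hcj, ← mk_pcomp okg okgw, ← mk_ppow oku, show pcomp pg pgw = ppow pu 4 by (rewrite [Cfsg.Agent.GolayF.f1.2, Cfsg.Agent.GolayF.pcomp_eq]; decide +kernel)]
  · rw [← mk_ppow oku, ← mk_ppow okw, ← mk_pcomp (okM_ppow oku 4) (okM_ppow okw 3),
      ← mk_ppow (okM_pcomp (okM_ppow oku 4) (okM_ppow okw 3)),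
      show ppow (pcomp (ppow pu 4) (ppow pw 3)) 5 = idP by (rewrite [Cfsg.Agent.GolayF.f1.2, Cfsg.Agent.GolayF.pcomp_eq]; decide +kernel), mk_idP]

theorem frob : ∃ y z : Spor.M22, orderOf y = 5 ∧ orderOf z = 11 ∧ y * z * y⁻¹ = z ^ 3 := by
  have oX : okM pX = true := okA (by simp)
  refine ⟨mk py, mk pX, ?_, ?_, ?_⟩
  · exact order_mk (by norm_num) oky (by (rewrite [Cfsg.Agent.GolayF.f1.2]; decide +kernel)) (i := 1) (by norm_num) (by (rewrite [Cfsg.Agent.GolayF.papp_eq]; decide +kernel))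
  · exact order_mk (by norm_num) oX (by (rewrite [Cfsg.Agent.GolayF.f1.2]; decide +kernel)) (i := 1) (by norm_num) (by (rewrite [Cfsg.Agent.GolayF.papp_eq]; decide +kernel))
  · rw [← mk_ppow oX]
    exact mk_conj oky oX (okM_ppow oX 3) (by (rewrite [Cfsg.Agent.GolayF.f1.2, Cfsg.Agent.GolayF.pcomp_eq]; decide +kernel))

theorem mk_inj {P Q : ℕ} (hP : okM P = true) (hQ : okM Q = true) (h : mk P = mk Q) : ∀ i < 24, papp P i = papp Q i := by
  intro i hi
  have h1 := congrArg (Subtype.val (p := fun x => x ∈ Spor.M22)) h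
  rw [coe_mk hP, coe_mk hQ] at h1
  have h2 : el P = el Q := Subtype.ext h1
  have h3 := idx_el_smul (okM.ok hP) (pt i)
  have h4 := idx_el_smul (okM.ok hQ) (pt i)
  rw [h2, h4, idx_pt hi] at h3
  exact h3.symm

/-- the subgroup of order 16 -/
noncomputable def sA : Subgroup Spor.M22 where
  carrier := {a | ∃ P ∈ lA, a = mk P}
  one_mem' := ⟨idP, by decide +kernel, mk_idP.symm⟩
  mul_mem' := by
    rintro _ _ ⟨P, hP, rfl⟩ ⟨Q, hQ, rfl⟩
    have h : ∀ P ∈ lA, ∀ Q ∈ lA, pcomp P Q ∈ lA := by decide +kernel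
    exact ⟨_, h P hP Q hQ, (mk_pcomp (okA' hP) (okA' hQ)).symm⟩
  inv_mem' := by
    rintro _ ⟨P, hP, rfl⟩
    have h : ∀ P ∈ lA, ∃ Q ∈ lA, pcomp P Q = idP := by decide +kernel
    obtain ⟨Q, hQ, hPQ⟩ := h P hP
    exact ⟨Q, hQ, (mk_inv (okA' hP) (okA' hQ) hPQ).symm⟩

theorem card_sA : Nat.card sA = 16 := by
  have hinj : ∀ i < 16, ∀ j < 16, (∀ k < 24, papp (lA.getD i idP) k = papp (lA.getD j idP) k) → i = j := by
    (rewrite [Cfsg.Agent.GolayF.papp_eq]; decide +kernel)
  have hmem : ∀ i < 16, lA.getD i idP ∈ lA := by decide +kernel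
  have hsur : ∀ P ∈ lA, ∃ i < 16, P = lA.getD i idP := by decide +kernel
  have hbij : Function.Bijective (fun i : Fin 16 => (⟨mk (lA.getD i idP), _, hmem i i.2, rfl⟩ : sA)) := by
    constructor
    · intro i j hij
      have h1 : mk (lA.getD i idP) = mk (lA.getD j idP) := congrArg Subtype.val hij
      exact Fin.ext (hinj i i.2 j j.2 (mk_inj (okA' (hmem i i.2)) (okA' (hmem j j.2)) h1))
    · rintro ⟨_, P, hP, rfl⟩
      obtain ⟨i, hi, rfl⟩ := hsur P hP
      exact ⟨⟨i, hi⟩, rfl⟩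
  rw [← Nat.card_eq_of_bijective _ hbij]
  simp

/-- A subgroup of order 16 and two cosets. -/
structure Cos {T : Type*} [Group T] (A : Subgroup T) (x₁ a₁ x₂ b₁ b₂ : T) : Prop where
  card : Nat.card A = 16
  ha₁ : a₁ ∈ A
  hb₁ : b₁ ∈ A
  hb₂ : b₂ ∈ A
  ne : b₁ ≠ b₂
  h1 : ∀ a ∈ A, a ≠ a₁ → (x₁ * a) ^ 24 = 1 ∨ (x₁ * a) ^ 5 = 1
  o1 : orderOf (x₁ * a₁) = 11
  h2 : ∀ a ∈ A, a ≠ b₁ → a ≠ b₂ → (x₂ * a) ^ 24 = 1 ∨ (x₂ * a) ^ 5 = 1
  o2 : orderOf (x₂ * b₁) = 7
  c2 : IsConj (x₂ * b₁) (x₂ * b₂)⁻¹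

theorem cos : ∃ (A : Subgroup Spor.M22) (x₁ a₁ x₂ b₁ b₂ : Spor.M22), Cos A x₁ a₁ x₂ b₁ b₂ := by
  refine ⟨sA, mk px1, mk pa1, mk px2, mk pb1, mk pb2, card_sA, ⟨_, by decide +kernel, rfl⟩, ⟨_, by decide +kernel, rfl⟩,
    ⟨_, by decide +kernel, rfl⟩, ?_, ?_, ?_, ?_, ?_, ?_⟩
  · intro h
    have h1 := mk_inj okb1 okb2 h
    have h2 : ¬ ∀ i < 24, papp pb1 i = papp pb2 i := by (rewrite [Cfsg.Agent.GolayF.papp_eq]; decide +kernel)
    exact h2 h1
  · rintro _ ⟨P, hP, rfl⟩ hne
    have h : ∀ P ∈ lA, P ≠ pa1 → ppow (pcomp px1 P) 24 = idP ∨ ppow (pcomp px1 P) 5 = idP := by (rewrite [Cfsg.Agent.GolayF.f1.2, Cfsg.Agent.GolayF.pcomp_eq]; decide +kernel)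
    have ho := okM_pcomp okx1 (okA' hP)
    rw [← mk_pcomp okx1 (okA' hP), ← mk_ppow ho, ← mk_ppow ho]
    rcases h P hP (fun h => hne (by rw [h])) with h1 | h1
    · left; rw [h1, mk_idP]
    · right; rw [h1, mk_idP]
  · rw [← mk_pcomp okx1 oka1]
    exact order_mk (by norm_num) (okM_pcomp okx1 oka1) (by (rewrite [Cfsg.Agent.GolayF.f1.2, Cfsg.Agent.GolayF.pcomp_eq]; decide +kernel)) (i := 1) (by norm_num) (by (rewrite [Cfsg.Agent.GolayF.papp_eq, Cfsg.Agent.GolayF.pcomp_eq]; decide +kernel))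
  · rintro _ ⟨P, hP, rfl⟩ hne hne'
    have h : ∀ P ∈ lA, P ≠ pb1 → P ≠ pb2 → ppow (pcomp px2 P) 24 = idP ∨ ppow (pcomp px2 P) 5 = idP := by
      (rewrite [Cfsg.Agent.GolayF.f1.2, Cfsg.Agent.GolayF.pcomp_eq]; decide +kernel)
    have ho := okM_pcomp okx2 (okA' hP)
    rw [← mk_pcomp okx2 (okA' hP), ← mk_ppow ho, ← mk_ppow ho]
    rcases h P hP (fun h => hne (by rw [h])) (fun h => hne' (by rw [h])) with h1 | h1
    · left; rw [h1, mk_idP]
    · right; rw [h1, mk_idP]
  · rw [← mk_pcomp okx2 okb1]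
    exact order_mk (by norm_num) (okM_pcomp okx2 okb1) (by (rewrite [Cfsg.Agent.GolayF.f1.2, Cfsg.Agent.GolayF.pcomp_eq]; decide +kernel)) (i := 1) (by norm_num) (by (rewrite [Cfsg.Agent.GolayF.papp_eq, Cfsg.Agent.GolayF.pcomp_eq]; decide +kernel))
  · have ho1 := okM_pcomp okx2 okb1
    have ho2 := okM_pcomp okx2 okb2
    rw [← mk_pcomp okx2 okb1, ← mk_pcomp okx2 okb2, ← mk_inv ho2 okb2i (by (rewrite [Cfsg.Agent.GolayF.pcomp_eq]; decide +kernel))]
    exact isConj_iff.2 ⟨mk ph, mk_conj okh ho1 okb2i (by (rewrite [Cfsg.Agent.GolayF.pcomp_eq]; decide +kernel))⟩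

end Cfsg.Agent.H921.M22.Facts
end

-- part: H921/M22/Final
section
prune_inst 0x4000400002000000000008001000000000000000000000000a0000000010000000000000a0000020200080000000060020800004000000000000000000400000000000080080000020000000000000000000000000000000000000000000000000000000
set_option linter.all false
open scoped Cfsg.Agent.FastGrp

-- part: H921/M22/Vanish
section
/-!
# Ranks of norm elements of 2-groups in characteristic two; Scott's lemma with eigenvalues

* `norm_rank` : `|A| · rank (Σ_{a ∈ A} ρ a) ≤ dim V` for a 2-group `A`;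
* `rank_four` : `u ^ 8 = 1`, `dim V = 12` : `dim C_V(u ^ 4) ≥ 8`;
* `scott_eig` : Scott's lemma for eigenspaces;
* `sum_trace_eig` : sums of traces of powers and eigenspaces; `finrank_le_of_eig`.
-/

set_option autoImplicit false
set_option linter.unusedSectionVars false

namespace Cfsg.Agent.H921.M22.Rp

open Cfsg Module Facts
open Cfsg.Agent.H921.M22.Fix (Dat fx mem_ker rho_inv rho_inv')

section half

variable {K V : Type*} [Field K] [AddCommGroup V] [Module K V] [FiniteDimensional K V]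

/-- dimension of a submodule: kernel and image -/
theorem finrank_sub (f : Module.End K V) (W : Submodule K V) :
    finrank K (W.map f) + finrank K (W ⊓ LinearMap.ker f : Submodule K V) = finrank K W := by
  have h1 := LinearMap.finrank_range_add_finrank_ker (f.domRestrict W)
  have h2 : LinearMap.range (f.domRestrict W) = W.map f := by
    ext v
    simp only [LinearMap.mem_range, Submodule.mem_map, LinearMap.domRestrict_apply, Subtype.exists, exists_prop]
  have h3 : (LinearMap.ker (f.domRestrict W)).map W.subtype = W ⊓ LinearMap.ker f := by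
    ext v
    simp only [Submodule.mem_map, LinearMap.mem_ker, LinearMap.domRestrict_apply, Submodule.subtype_apply,
      Subtype.exists, exists_and_left, exists_prop, Submodule.mem_inf]
    constructor
    · rintro ⟨w, h, hw, rfl⟩
      exact ⟨hw, h⟩
    · rintro ⟨hw, h⟩
      exact ⟨v, h, hw, rfl⟩
  have h4 : finrank K ((LinearMap.ker (f.domRestrict W)).map W.subtype) = finrank K (LinearMap.ker (f.domRestrict W)) :=
    Submodule.finrank_map_subtype_eq _ _
  rw [h2, ← h4, h3] at h1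
  exact h1

variable [CharP K 2]

theorem add_self' (K : Type*) {V : Type*} [Field K] [AddCommGroup V] [Module K V] [CharP K 2] (v : V) :
    v + v = 0 := by
  have h : (2 : K) = 0 := CharTwo.two_eq_zero
  rw [← two_smul K v, h, zero_smul]

theorem half {s N : Module.End K V} (h1 : s * N = N * s) (h2 : s * s * N = N) :
    2 * finrank K (LinearMap.range ((1 + s) * N)) ≤ finrank K (LinearMap.range N) := by
  have h3 := finrank_sub (1 + s) (LinearMap.range N)
  have h4 : (LinearMap.range N).map (1 + s) = LinearMap.range ((1 + s) * N) := by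
    rw [← LinearMap.range_comp]
    rfl
  have h5 : LinearMap.range ((1 + s) * N) ≤ LinearMap.range N ⊓ LinearMap.ker (1 + s) := by
    rintro _ ⟨v, rfl⟩
    refine Submodule.mem_inf.2 ⟨⟨v + s v, ?_⟩, ?_⟩
    · rw [map_add, ← Module.End.mul_apply N s, ← h1]
      rfl
    · rw [LinearMap.mem_ker]
      have e2 := LinearMap.congr_fun h2 v
      have e3 : ∀ w : V, (1 + s) w = w + s w := fun w => rfl
      have e4 : ((1 + s) * N) v = N v + s (N v) := rfl
      have e5 : s (s (N v)) = N v := e2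
      rw [e4, e3, map_add, e5, add_comm (s (N v)), add_self' K]
  have h6 := Submodule.finrank_mono h5
  rw [h4] at h3
  omega

universe w

/-- **The rank of the norm element of a 2-group.** -/
theorem norm_rank (k : ℕ) : ∀ (A : Type w) [Group A] [Fintype A] (ρ : A →* Module.End K V), Nat.card A = 2 ^ k →
    2 ^ k * finrank K (LinearMap.range (∑ a, ρ a)) ≤ finrank K V := by
  classical
  induction k with
  | zero =>
    intro A _ _ ρ _
    rw [pow_zero, one_mul]
    exact Submodule.finrank_le _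
  | succ k ih =>
    intro A _ _ ρ hA
    have : Fact (Nat.Prime 2) := ⟨Nat.prime_two⟩
    obtain ⟨B, hB⟩ := Sylow.exists_subgroup_card_pow_prime 2 (G := A) (n := k) (by rw [hA]; exact ⟨2, pow_succ 2 k⟩)
    have hi : B.index = 2 := by
      have h1 := B.card_mul_index
      rw [hB, hA, pow_succ] at h1
      exact Nat.eq_of_mul_eq_mul_left (by positivity) h1
    have hnor := Subgroup.normal_of_index_eq_two hi
    obtain ⟨s, hs⟩ : ∃ s, s ∉ B := by
      by_contra hcon
      push Not at hcon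
      have : B = ⊤ := (Subgroup.eq_top_iff' B).2 hcon
      rw [this, Subgroup.index_top] at hi
      omega
    have hmem := fun {a b : A} => Subgroup.mul_mem_iff_of_index_two hi (a := a) (b := b)
    set N : Module.End K V := ∑ b : B, ρ b.1 with hN
    have h1 := ih B (ρ.comp B.subtype) hB
    change 2 ^ k * finrank K (LinearMap.range N) ≤ finrank K V at h1
    have h2 : ∑ a, ρ a = (1 + ρ s) * N := by
      rw [add_mul, one_mul, hN, Finset.mul_sum]
      rw [← Fintype.sum_subtype_add_sum_subtype (fun a => a ∈ B) (fun a => ρ a)]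
      congr 1
      symm
      refine Fintype.sum_equiv
        { toFun := fun b => (⟨s * b.1, fun h => hs ((hmem.1 h).2 b.2)⟩ : {a // ¬ a ∈ B})
          invFun := fun a => (⟨s⁻¹ * a.1, hmem.2 (iff_of_false (fun h => hs (inv_mem_iff.1 h)) a.2)⟩ : B)
          left_inv := fun b => Subtype.ext (inv_mul_cancel_left _ _)
          right_inv := fun a => Subtype.ext (mul_inv_cancel_left _ _) } _ _ ?_
      intro b
      exact (map_mul ρ s b.1).symm
    have h3 : ρ s * N = N * ρ s := by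
      rw [hN, Finset.mul_sum, Finset.sum_mul]
      refine Fintype.sum_equiv
        { toFun := fun b => (⟨s * b.1 * s⁻¹, hnor.conj_mem _ b.2 _⟩ : B)
          invFun := fun b => (⟨s⁻¹ * b.1 * s, by
            have := hnor.conj_mem _ b.2 s⁻¹
            rwa [inv_inv] at this⟩ : B)
          left_inv := fun b => Subtype.ext (by
            change s⁻¹ * (s * b.1 * s⁻¹) * s = b.1
            group)
          right_inv := fun b => Subtype.ext (by
            change s * (s⁻¹ * b.1 * s) * s⁻¹ = b.1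
            group) } _ _ ?_
      intro b
      change ρ s * ρ b.1 = ρ (s * b.1 * s⁻¹) * ρ s
      rw [← map_mul, ← map_mul, inv_mul_cancel_right]
    have hs2 : s * s ∈ B := hmem.2 Iff.rfl
    have h4 : ρ s * ρ s * N = N := by
      rw [← map_mul, hN, Finset.mul_sum]
      refine Fintype.sum_equiv
        { toFun := fun b => (⟨s * s * b.1, B.mul_mem hs2 b.2⟩ : B)
          invFun := fun b => (⟨(s * s)⁻¹ * b.1, B.mul_mem (B.inv_mem hs2) b.2⟩ : B)
          left_inv := fun b => Subtype.ext (inv_mul_cancel_left _ _)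
          right_inv := fun b => Subtype.ext (mul_inv_cancel_left _ _) } _ _ ?_
      intro b
      exact (map_mul ρ (s * s) b.1).symm
    have h5 := half h3 h4
    rw [h2, pow_succ]
    calc 2 ^ k * 2 * finrank K (LinearMap.range ((1 + ρ s) * N))
        = 2 ^ k * (2 * finrank K (LinearMap.range ((1 + ρ s) * N))) := by ring
      _ ≤ 2 ^ k * finrank K (LinearMap.range N) := Nat.mul_le_mul_left _ h5
      _ ≤ _ := h1

/-- the norm element vanishes -/
theorem norm_zero {A : Type*} [Group A] [Fintype A] (ρ : A →* Module.End K V) {k : ℕ} (hA : Nat.card A = 2 ^ k)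
    (hV : finrank K V < 2 ^ k) : ∑ a, ρ a = 0 := by
  have h1 := norm_rank k A ρ hA
  have h2 : finrank K (LinearMap.range (∑ a, ρ a)) = 0 := by
    by_contra h
    have : 2 ^ k * 1 ≤ 2 ^ k * finrank K (LinearMap.range (∑ a, ρ a)) := Nat.mul_le_mul_left _ (by omega)
    omega
  rw [Submodule.finrank_eq_zero, LinearMap.range_eq_bot] at h2
  exact h2

end half

section four

variable {L K V : Type*} [Group L] [Field K] [AddCommGroup V] [Module K V] [FiniteDimensional K V] [CharP K 2]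
  {ρ : L →* Module.End K V}

/-- **Squares of squares of elements of order 8.** -/
theorem rank_four {u : L} (hu : u ^ 8 = 1) (hn : finrank K V = 12) : 8 ≤ fx ρ (u ^ 4) := by
  have hch : CharP (Module.End K V) 2 := by
    have : Nontrivial V := by
      rw [← Module.finrank_pos_iff (R := K)]
      omega
    exact charP_of_injective_algebraMap (algebraMap K (Module.End K V)).injective 2
  set N : Module.End K V := ρ u - 1 with hN
  have hN4 : N ^ 4 = ρ (u ^ 4) - 1 := by
    have := sub_pow_char_pow_of_commute (p := 2) (n := 2) (x := ρ u) (y := (1 : Module.End K V)) (Commute.one_right _)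
    rw [map_pow]
    simpa using this
  have hN8 : N ^ 8 = 0 := by
    have := sub_pow_char_pow_of_commute (p := 2) (n := 3) (x := ρ u) (y := (1 : Module.End K V)) (Commute.one_right _)
    have h1 : N ^ 8 = ρ u ^ 8 - 1 := by simpa using this
    rw [h1, ← map_pow, hu, map_one, sub_self]
  set r : ℕ → ℕ := fun i => finrank K (LinearMap.range (N ^ i)) with hr
  set w : ℕ → ℕ := fun i => finrank K (LinearMap.range (N ^ i) ⊓ LinearMap.ker N : Submodule K V) with hw
  have h1 : ∀ i, r (i + 1) + w i = r i := by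
    intro i
    have h2 := finrank_sub N (LinearMap.range (N ^ i))
    have h3 : (LinearMap.range (N ^ i)).map N = LinearMap.range (N ^ (i + 1)) := by
      rw [← LinearMap.range_comp, pow_succ']
      rfl
    rw [h3] at h2
    exact h2
  have h2 : ∀ i, w (i + 1) ≤ w i := by
    intro i
    apply Submodule.finrank_mono
    apply inf_le_inf_right
    rintro _ ⟨v, rfl⟩
    exact ⟨N v, by rw [pow_succ]; rfl⟩
  have h3 : r 0 = 12 := by
    rw [hr]
    change finrank K (LinearMap.range (N ^ 0)) = 12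
    rw [pow_zero, Module.End.one_eq_id, LinearMap.range_id, finrank_top, hn]
  have h4 : r 8 = 0 := by
    rw [hr]
    change finrank K (LinearMap.range (N ^ 8)) = 0
    rw [hN8, LinearMap.range_zero, finrank_bot]
  have h5 : r 4 + fx ρ (u ^ 4) = 12 := by
    rw [hr]
    unfold fx
    change finrank K (LinearMap.range (N ^ 4)) + _ = 12
    rw [hN4, ← hn]
    exact LinearMap.finrank_range_add_finrank_ker _
  have a0 := h1 0
  have a1 := h1 1
  have a2 := h1 2
  have a3 := h1 3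
  have a4 := h1 4
  have a5 := h1 5
  have a6 := h1 6
  have a7 := h1 7
  have b0 := h2 0
  have b1 := h2 1
  have b2 := h2 2
  have b3 := h2 3
  have b4 := h2 4
  have b5 := h2 5
  have b6 := h2 6
  simp only [zero_add] at a0 b0
  norm_num at a1 a2 a3 a4 a5 a6 a7 b1 b2 b3 b4 b5 b6
  omega

end four

section eig

variable {L K V : Type*} [Group L] [Field K] [AddCommGroup V] [Module K V] [FiniteDimensional K V]
  {ρ : L →* Module.End K V}

/-- dimension of an eigenspace -/
noncomputable def eg (ρ : L →* Module.End K V) (g : L) (c : K) : ℕ := finrank K (LinearMap.ker (ρ g - c • 1))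

theorem eg_one (g : L) : eg ρ g 1 = fx ρ g := by
  unfold eg fx
  rw [one_smul]

theorem eg_conj (g h : L) (c : K) : eg ρ (h * g * h⁻¹) c = eg ρ g c := Fix.finrank_conj g h c

theorem mem_eg {g : L} {c : K} {v : V} : v ∈ LinearMap.ker (ρ g - c • 1) ↔ ρ g v = c • v := by
  rw [LinearMap.mem_ker, LinearMap.sub_apply, LinearMap.smul_apply, Module.End.one_apply, sub_eq_zero]

/-- **Scott's lemma for eigenspaces.** -/
theorem scott_eig {g h : L} {c d : K} (hc : c ≠ 0) (hd : d ≠ 0)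
    (h1 : ∀ v, ρ g v = c • v → ρ h v = d • v → v = 0)
    (h2 : ∀ S : Submodule K V, (∀ v, ρ g v - c • v ∈ S) → (∀ v, ρ h v - d • v ∈ S) → S = ⊤) :
    eg ρ g c + eg ρ h d + eg ρ (g * h) (c * d) ≤ finrank K V := by
  set X : Module.End K V := c⁻¹ • ρ g with hX
  set Y : Module.End K V := d⁻¹ • ρ h with hY
  set Z : Module.End K V := (c * d) • ρ (g * h)⁻¹ with hZ
  have hcd : c * d ≠ 0 := mul_ne_zero hc hd
  have hXYZ : X * Y * Z = 1 := by
    rw [hX, hY, hZ, smul_mul_smul_comm, smul_mul_smul_comm, ← map_mul, ← map_mul, mul_inv_cancel, map_one,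
      ← mul_inv, inv_mul_cancel₀ hcd, one_smul]
  have hXv : ∀ v, X v = v ↔ ρ g v = c • v := by
    intro v
    rw [hX, LinearMap.smul_apply]
    constructor
    · intro h
      rw [← h, smul_smul, mul_inv_cancel₀ hc, one_smul, h]
    · intro h
      rw [h, smul_smul, inv_mul_cancel₀ hc, one_smul]
  have hYv : ∀ v, Y v = v ↔ ρ h v = d • v := by
    intro v
    rw [hY, LinearMap.smul_apply]
    constructor
    · intro h
      rw [← h, smul_smul, mul_inv_cancel₀ hd, one_smul, h]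
    · intro h
      rw [h, smul_smul, inv_mul_cancel₀ hd, one_smul]
  have hZv : ∀ v, Z v = v ↔ ρ (g * h) v = (c * d) • v := by
    intro v
    rw [hZ, LinearMap.smul_apply]
    constructor
    · intro h1
      have h2 := congrArg (ρ (g * h)) h1
      rw [map_smul, rho_inv'] at h2
      exact h2.symm
    · intro h1
      rw [← map_smul, ← h1, rho_inv]
  have key := H565.Scott.scott hXYZ (⊥ : Submodule K V) ⊤ (by
    intro v hv1 hv2
    rw [h1 v ((hXv v).1 hv1) ((hYv v).1 hv2)]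
    exact Submodule.zero_mem _) (by
    intro S hS1 hS2
    rw [h2 S (by
      intro v
      have h3 := S.smul_mem c (hS1 v)
      rwa [hX, LinearMap.smul_apply, smul_sub, smul_smul, mul_inv_cancel₀ hc, one_smul] at h3) (by
      intro v
      have h3 := S.smul_mem d (hS2 v)
      rwa [hY, LinearMap.smul_apply, smul_sub, smul_smul, mul_inv_cancel₀ hd, one_smul] at h3)])
  rw [finrank_top, finrank_bot] at key
  have r1 := Fix.finrank_range X
  have r2 := Fix.finrank_range Y
  have r3 := Fix.finrank_range Z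
  have e1 : LinearMap.ker (X - 1) = LinearMap.ker (ρ g - c • 1) := by
    ext v
    rw [mem_ker, mem_eg, hXv]
  have e2 : LinearMap.ker (Y - 1) = LinearMap.ker (ρ h - d • 1) := by
    ext v
    rw [mem_ker, mem_eg, hYv]
  have e3 : LinearMap.ker (Z - 1) = LinearMap.ker (ρ (g * h) - (c * d) • 1) := by
    ext v
    rw [mem_ker, mem_eg, hZv]
  rw [e1] at r1
  rw [e2] at r2
  rw [e3] at r3
  unfold eg
  omega

/-- **Traces of powers and eigenspaces.** -/
theorem sum_trace_eig {z : L} {r : ℕ} (hr : (r : K) ≠ 0) (hz : z ^ r = 1) {c : K} (hc : c ^ r = 1) :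
    ∑ k ∈ Finset.range r, c ^ k * tc ρ (z ^ k) = r * eg ρ z c⁻¹ := by
  have hr0 : r ≠ 0 := by
    rintro rfl
    exact hr Nat.cast_zero
  have hc0 : c ≠ 0 := by
    rintro rfl
    rw [zero_pow hr0] at hc
    exact zero_ne_one hc
  set N : Module.End K V := (r : K)⁻¹ • ∑ k ∈ Finset.range r, c ^ k • ρ (z ^ k) with hN
  have hzN : (c • ρ z) * N = N := by
    rw [hN, mul_smul_comm, Finset.mul_sum]
    congr 1
    have h3 : ∀ k, (c • ρ z) * (c ^ k • ρ (z ^ k)) = c ^ (k + 1) • ρ (z ^ (k + 1)) := fun k => by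
      rw [smul_mul_smul_comm, ← map_mul, ← pow_succ', ← pow_succ']
    rw [Finset.sum_congr rfl (fun k _ => h3 k)]
    have h4 := Finset.sum_range_succ' (fun k => c ^ k • ρ (z ^ k)) r
    have h5 := Finset.sum_range_succ (fun k => c ^ k • ρ (z ^ k)) r
    rw [h4, hz, hc, pow_zero, pow_zero] at h5
    exact add_right_cancel h5
  have hev : ∀ v, v ∈ LinearMap.ker (ρ z - c⁻¹ • 1) ↔ c • ρ z v = v := by
    intro v
    rw [mem_eg]
    constructor
    · intro h
      rw [h, smul_smul, mul_inv_cancel₀ hc0, one_smul]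
    · intro h
      conv_rhs => rw [← h]
      rw [smul_smul, inv_mul_cancel₀ hc0, one_smul]
  have hp : LinearMap.IsProj (LinearMap.ker (ρ z - c⁻¹ • 1)) N := by
    constructor
    · intro v
      rw [hev]
      exact LinearMap.congr_fun hzN v
    · intro v hv
      rw [hev] at hv
      have key : ∀ i : ℕ, c ^ i • ρ (z ^ i) v = v := by
        intro i
        induction i with
        | zero => rw [pow_zero, pow_zero, map_one, Module.End.one_apply, one_smul]
        | succ i ih =>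
          rw [pow_succ, pow_succ, map_mul, Module.End.mul_apply, mul_smul, ← map_smul, hv, ih]
      have key' : ∀ i : ℕ, (c ^ i • ρ (z ^ i)) v = v := key
      rw [hN, LinearMap.smul_apply, LinearMap.sum_apply, Finset.sum_congr rfl (fun k _ => key' k), Finset.sum_const,
        Finset.card_range, ← Nat.cast_smul_eq_nsmul K, smul_smul, inv_mul_cancel₀ hr, one_smul]
  have h1 := hp.trace
  rw [hN, map_smul, map_sum, smul_eq_mul] at h1
  unfold eg
  rw [← h1, ← mul_assoc, mul_inv_cancel₀ hr, one_mul]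
  apply Finset.sum_congr rfl
  intro k _
  rw [map_smul, smul_eq_mul]

variable [IsAlgClosed K]

open Cfsg.Agent.H906.Wt in
/-- few eigenvalues -/
theorem finrank_le_of_eig {z : L} {r : ℕ} (hr : (r : K) ≠ 0) (hz : z ^ r = 1) {m : ℕ}
    (h : ∀ c : K, c ^ r = 1 → eg ρ z c ≤ m) : finrank K V ≤ r * m := by
  classical
  have hr0 : r ≠ 0 := by
    rintro rfl
    exact hr Nat.cast_zero
  have hfo : IsOfFinOrder z := isOfFinOrder_iff_pow_eq_one.2 ⟨r, Nat.pos_of_ne_zero hr0, hz⟩
  have hfin : Finite (Subgroup.zpowers z) := by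
    apply Nat.finite_of_card_ne_zero
    rw [Nat.card_zpowers]
    exact (orderOf_pos_iff.2 hfo).ne'
  have hcard : (Nat.card (Subgroup.zpowers z) : K) ≠ 0 := by
    rw [Nat.card_zpowers]
    obtain ⟨k, hk⟩ := orderOf_dvd_of_pow_eq_one hz
    rw [hk, Nat.cast_mul] at hr
    exact left_ne_zero_of_mul hr
  have hfc := finite_chars (K := K) (Subgroup.zpowers z)
  have : Fintype (Subgroup.zpowers z →* Kˣ) := Fintype.ofFinite _
  have hsum := sum_finrank (ρ := rs ρ (Subgroup.zpowers z)) (by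
    intro a b
    obtain ⟨i, hi⟩ := Subgroup.mem_zpowers_iff.1 a.2
    obtain ⟨j, hj⟩ := Subgroup.mem_zpowers_iff.1 b.2
    have hab : a * b = b * a := by
      apply Subtype.ext
      change a.1 * b.1 = b.1 * a.1
      rw [← hi, ← hj, ← zpow_add, ← zpow_add, add_comm]
    rw [← map_mul, ← map_mul, hab]) hcard
  rw [← hsum]
  have hz1 : z ∈ Subgroup.zpowers z := Subgroup.mem_zpowers z
  have hroot : ∀ χ : Subgroup.zpowers z →* Kˣ, (χ ⟨z, hz1⟩) ^ r = 1 := by
    intro χ
    rw [← map_pow]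
    have : (⟨z, hz1⟩ : Subgroup.zpowers z) ^ r = 1 := Subtype.ext hz
    rw [this, map_one]
  have h1 : ∀ χ : Subgroup.zpowers z →* Kˣ, finrank K (W (rs ρ (Subgroup.zpowers z)) χ) ≤ m := by
    intro χ
    refine le_trans (Submodule.finrank_mono ?_) (h (χ ⟨z, hz1⟩ : Kˣ) (by
      rw [← Units.val_pow_eq_pow_val, hroot, Units.val_one]))
    intro v hv
    rw [mem_eg]
    exact mem_W.1 hv ⟨z, hz1⟩
  refine (Finset.sum_le_card_nsmul _ _ m (fun χ _ => h1 χ)).trans ?_
  rw [smul_eq_mul]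
  apply Nat.mul_le_mul_right
  have : NeZero r := ⟨hr0⟩
  rw [Finset.card_univ, ← Nat.card_eq_fintype_card]
  refine le_trans (Nat.card_le_card_of_injective (fun χ : Subgroup.zpowers z →* Kˣ =>
    (⟨χ ⟨z, hz1⟩, (mem_rootsOfUnity _ _).2 (hroot χ)⟩ : rootsOfUnity r K)) ?_) (card_rootsOfUnity K r)
  intro χ ψ hχψ
  have h2 : χ ⟨z, hz1⟩ = ψ ⟨z, hz1⟩ := congrArg Subtype.val hχψ
  ext a
  obtain ⟨i, hi⟩ := Subgroup.mem_zpowers_iff.1 a.2
  have h3 : a = ⟨z, hz1⟩ ^ i := Subtype.ext hi.symm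
  rw [h3, map_zpow, map_zpow, h2]

end eig

end Cfsg.Agent.H921.M22.Rp
end

-- part: H921/M22/Twelve
section
/-!
# `3.M22` has no irreducible representation of degree 12 in characteristic two

All traces would be zero: the elements of order 5 by the Frobenius group `11 : 5`, the elements of order 11 because the
norm element of a subgroup of order 16 is zero, the elements of order 7 by Scott's lemma, because involutions fix at
least 8 dimensions (they are fourth powers of elements of order 8).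
-/

set_option autoImplicit false
set_option linter.unusedSectionVars false

namespace Cfsg.Agent.H921.M22.Rp

open Cfsg Module Facts
open Cfsg.Agent.H921.M22.Fix (Dat fx mem_ker rho_inv rho_inv')

/-- Subgroups of order prime to the kernel lift. -/
theorem exists_section {L N : Type*} [Group L] [Finite L] [Group N] {π : L →* N} (hπ : Function.Surjective π)
    {X : Subgroup N} (hX : Nat.Coprime (Nat.card π.ker) (Nat.card X)) : ∃ σ : X →* L, ∀ x, π (σ x) = x := by
  let f : X.comap π →* X := π.subgroupComap X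
  have hf : Function.Surjective f := by
    rintro ⟨x, hx⟩
    obtain ⟨l, rfl⟩ := hπ x
    exact ⟨⟨l, hx⟩, rfl⟩
  have hk : Nat.card f.ker ∣ Nat.card π.ker := by
    let i : f.ker →* π.ker :=
      { toFun := fun x => ⟨((x : X.comap π) : L), by
          have h1 : f x = 1 := x.2
          exact congrArg Subtype.val h1⟩
        map_one' := rfl
        map_mul' := fun _ _ => rfl }
    apply Subgroup.card_dvd_of_injective i
    intro x y hxy
    apply Subtype.ext
    apply Subtype.ext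
    exact congrArg (fun z : π.ker => (z : L)) hxy
  have hi : f.ker.index = Nat.card X := by
    rw [Subgroup.index_ker, MonoidHom.range_eq_top.2 hf, Subgroup.card_top]
  obtain ⟨C, hC⟩ := Subgroup.exists_right_complement'_of_coprime (N := f.ker) (by
    rw [hi]
    exact Nat.Coprime.coprime_dvd_left hk hX)
  have hbij : Function.Bijective (f.comp C.subtype) := by
    constructor
    · rw [injective_iff_map_eq_one]
      intro x hx
      have h1 : (x : X.comap π) ∈ f.ker ⊓ C := ⟨hx, x.2⟩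
      rw [hC.disjoint.eq_bot, Subgroup.mem_bot] at h1
      exact Subtype.ext h1
    · intro x
      obtain ⟨y, hy⟩ := hf x
      obtain ⟨⟨k, c⟩, hkc⟩ := hC.2 y
      refine ⟨c, ?_⟩
      change f (c : X.comap π) = x
      rw [← hy, ← hkc]
      change f c = f (k * c)
      rw [map_mul, MonoidHom.mem_ker.1 k.2, one_mul]
  let e : C ≃* X := MulEquiv.ofBijective _ hbij
  refine ⟨((X.comap π).subtype.comp C.subtype).comp e.symm.toMonoidHom, fun x => ?_⟩
  have h1 : e (e.symm x) = x := e.apply_symm_apply x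
  exact congrArg Subtype.val h1

/-! ### the trace of an operator of order 5 on a plane -/

section plane

variable {K C : Type*} [Field K] [CharP K 2] [AddCommGroup C] [Module K C]

theorem trace_plane {T : Module.End K C} (hC : finrank K C = 2) (hT : T ^ 5 = 1) : LinearMap.trace K C T ≠ 1 := by
  have : FiniteDimensional K C := Module.finite_of_finrank_pos (by omega)
  let b := Module.finBasisOfFinrankEq K C hC
  set M : Matrix (Fin 2) (Fin 2) K := LinearMap.toMatrix b b T with hM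
  have h5 : M ^ 5 = 1 := by
    rw [hM, LinearMap.toMatrix_pow, hT, LinearMap.toMatrix_one]
  rw [LinearMap.trace_eq_matrix_trace K b, ← hM, Matrix.trace_fin_two]
  intro h1
  have h2 : (2 : K) = 0 := CharTwo.two_eq_zero
  set p := M 0 0
  set q := M 0 1
  set r := M 1 0
  set s := M 1 1
  have hMM : M * M = M - (p * s - q * r) • (1 : Matrix (Fin 2) (Fin 2) K) := by
    ext i j
    fin_cases i <;> fin_cases j
    · simp [Matrix.mul_apply, Fin.sum_univ_two]
      change p * p + q * r = p - (p * s - q * r)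
      linear_combination p * h1
    · simp [Matrix.mul_apply, Fin.sum_univ_two]
      change p * q + q * s = q
      linear_combination q * h1
    · simp [Matrix.mul_apply, Fin.sum_univ_two]
      change r * p + s * r = r
      linear_combination r * h1
    · simp [Matrix.mul_apply, Fin.sum_univ_two]
      change r * q + s * s = s - (p * s - q * r)
      linear_combination s * h1
  set d := p * s - q * r with hd
  have h6 : M ^ 5 = (1 - 3 * d + d ^ 2) • M - (d - 2 * d ^ 2) • (1 : Matrix (Fin 2) (Fin 2) K) := by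
    have e3 : M ^ 3 = (1 - d) • M - d • (1 : Matrix (Fin 2) (Fin 2) K) := by
      rw [pow_succ, pow_two, hMM, sub_mul, hMM, smul_mul_assoc, one_mul]
      module
    have e5 : M ^ 5 = M ^ 3 * (M * M) := by rw [← pow_two, ← pow_add]
    rw [e5, e3, hMM]
    simp only [sub_mul, mul_sub, smul_mul_assoc, mul_smul_comm, one_mul, mul_one, hMM, smul_sub, smul_smul]
    module
  rw [h5] at h6
  have c01 := congrFun (congrFun h6 0) 1
  have c10 := congrFun (congrFun h6 1) 0
  have c00 := congrFun (congrFun h6 0) 0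
  have c11 := congrFun (congrFun h6 1) 1
  simp only [Matrix.sub_apply, Matrix.smul_apply, Matrix.one_apply, smul_eq_mul] at c01 c10 c00 c11
  change (0 : K) = (1 - 3 * d + d ^ 2) * q - (d - 2 * d ^ 2) * 0 at c01
  change (0 : K) = (1 - 3 * d + d ^ 2) * r - (d - 2 * d ^ 2) * 0 at c10
  change (1 : K) = (1 - 3 * d + d ^ 2) * p - (d - 2 * d ^ 2) * 1 at c00
  change (1 : K) = (1 - 3 * d + d ^ 2) * s - (d - 2 * d ^ 2) * 1 at c11
  by_cases hk : 1 - 3 * d + d ^ 2 = 0
  · rw [hk] at c00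
    have h7 : (1 : K) = 0 := by
      have hd1 : d = -1 + 2 * d ^ 2 := by linear_combination c00
      have hd2 : d = 1 := by linear_combination hd1 + (d ^ 2 - 1) * h2
      rw [hd2] at hk
      linear_combination -hk
    exact one_ne_zero h7
  · have h7 : p = s := by
      have h8 : (1 - 3 * d + d ^ 2) * (p - s) = 0 := by linear_combination c11 - c00
      exact sub_eq_zero.1 ((mul_eq_zero.1 h8).resolve_left hk)
    rw [h7] at h1
    have h8 : (1 : K) = 0 := by linear_combination s * h2 - h1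
    exact one_ne_zero h8

end plane

section main

variable {L K V : Type*} [Group L] [Finite L] [Field K] [IsAlgClosed K] [CharP K 2] [AddCommGroup V] [Module K V]
  [FiniteDimensional K V] {ρ : L →* Module.End K V} {π : L →* Spor.M22}

theorem tc_two_pow (hfr : ∀ g, tc ρ (g ^ 2) = tc ρ g ^ 2) (g : L) (k : ℕ) : tc ρ (g ^ 2 ^ k) = tc ρ g ^ 2 ^ k := by
  induction k with
  | zero => rw [pow_zero, pow_one, pow_one]
  | succ k ih => rw [pow_succ, pow_mul, hfr, ih, ← pow_mul]

/-- all elements of order `r` -/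
theorem tc_all {r : ℕ} (hr : r.Prime) (hT : ¬ r ^ 2 ∣ Nat.card L) {z z' : L} (hz : orderOf z = r)
    (hz' : orderOf z' = r) {c : K} (h : ∀ j < r, j ≠ 0 → tc ρ (z ^ j) = c) : tc ρ z' = c := by
  obtain ⟨g, hg⟩ := exists_conj hr hT hz' hz
  obtain ⟨i, hi⟩ := Subgroup.mem_zpowers_iff.1 hg
  have hr0 : (r : ℤ) ≠ 0 := by exact_mod_cast hr.ne_zero
  have h1 : ((i % (r : ℤ)).toNat : ℤ) = i % (r : ℤ) := Int.toNat_of_nonneg (Int.emod_nonneg _ hr0)
  have hzr : z ^ r = 1 := by rw [← hz, pow_orderOf_eq_one]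
  have h2 : z ^ (i % (r : ℤ)).toNat = g * z' * g⁻¹ := by
    rw [← hi, ← zpow_natCast, h1]
    conv_rhs => rw [← Int.emod_add_mul_ediv i r, zpow_add, zpow_mul, zpow_natCast, hzr, one_zpow, mul_one]
  have h3 := h (i % (r : ℤ)).toNat (by
    have : ((i % (r : ℤ)).toNat : ℤ) < r := by rw [h1]; exact Int.emod_lt_of_pos _ (by exact_mod_cast hr.pos)
    exact_mod_cast this) (by
    intro h0
    rw [h0, pow_zero] at h2
    have h4 : orderOf (g * z' * g⁻¹) = 1 := by rw [← h2, orderOf_one]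
    rw [orderOf_conj, hz'] at h4
    exact hr.one_lt.ne' h4)
  rw [h2, tc_conj] at h3
  exact h3

variable (H : Hyp ρ π)

include H

theorem Hyp.tc_smul {c : L} (hc : c ∈ π.ker) : ∃ d : K, d ≠ 0 ∧ ∀ g, tc ρ (c * g) = d * tc ρ g := by
  obtain ⟨d, hd, hd3⟩ := H.scal' hc
  refine ⟨d, ?_, fun g => ?_⟩
  · rintro rfl
    norm_num at hd3
  · unfold tc
    rw [map_mul, hd, smul_mul_assoc, one_mul, map_smul, smul_eq_mul]

variable (hn : finrank K V = 12) (hfr : ∀ g, tc ρ (g ^ 2) = tc ρ g ^ 2)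

include hn

theorem cast_zero : (finrank K V : K) = 0 := by
  rw [hn]
  have h2 : (2 : K) = 0 := CharTwo.two_eq_zero
  push_cast
  linear_combination 6 * h2

theorem Hyp.tc_ker {g : L} (hg : g ∈ π.ker) : tc ρ g = 0 := by
  obtain ⟨d, -, hd⟩ := H.tc_smul hg
  have h1 := hd 1
  rw [mul_one, tc_one, cast_zero H hn, mul_zero] at h1
  exact h1

include hfr

theorem Hyp.tc_exp {g : L} (hg : (π g) ^ 24 = 1) : tc ρ g = 0 := by
  have h1 := tc_two_pow hfr g 3
  have h2 : tc ρ (g ^ 2 ^ 3) = 0 := by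
    have h3 : (π (g ^ 2 ^ 3)) ^ 3 = 1 := by
      rw [map_pow, ← pow_mul]
      exact hg
    rcases (Nat.dvd_prime Nat.prime_three).1 (orderOf_dvd_of_pow_eq_one h3) with h4 | h4
    · rw [orderOf_eq_one_iff] at h4
      exact H.tc_ker hn (MonoidHom.mem_ker.2 h4)
    · exact H.tc_three h4
  rw [h2] at h1
  exact (pow_eq_zero_iff (by norm_num)).1 h1.symm

/-! ### elements of order 5 -/

theorem Hyp.tc_five {w : L} (hw : orderOf w = 5) : tc ρ w = 0 := by
  obtain ⟨y₀, z₀, hy₀, hz₀, hyz⟩ := frob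
  obtain ⟨y, hy, hy'⟩ := H908.exists_lift H.surj y₀ (by rw [H.card, hy₀]; norm_num)
  obtain ⟨z, hz, hz'⟩ := H908.exists_lift H.surj z₀ (by rw [H.card, hz₀]; norm_num)
  rw [hy₀] at hy'
  rw [hz₀] at hz'
  have hz11 : z ^ 11 = 1 := by rw [← hz', pow_orderOf_eq_one]
  have hy5 : y ^ 5 = 1 := by rw [← hy', pow_orderOf_eq_one]
  have hrel : y * z * y⁻¹ = z ^ 3 := by
    apply H908.conj_lift H.cen
    · rw [map_mul, map_mul, map_inv, hy, hz, hyz, map_pow, hz]
    · rw [H.card, hz']; norm_num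
    · rw [H.card]
      exact (by norm_num : Nat.Coprime 3 11).coprime_dvd_right (by rw [← hz']; exact orderOf_pow_dvd 3)
  have hc : ∀ k : ℕ, z ^ (4 * k) * y * (z ^ (4 * k))⁻¹ = y * z ^ k := by
    intro k
    have h1 : y * z ^ (5 * k) * y⁻¹ = z ^ (4 * k) := by
      rw [← conj_pow, hrel, ← pow_mul]
      apply Fix.pow_mod hz11
      change (3 * (5 * k)) % 11 = (4 * k) % 11
      omega
    rw [← h1]
    have h2 : z ^ (5 * k) = z ^ k * z ^ (4 * k) := by rw [← pow_add]; congr 1; ring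
    calc y * z ^ (5 * k) * y⁻¹ * y * (y * z ^ (5 * k) * y⁻¹)⁻¹
        = y * z ^ (5 * k) * (y * z ^ (5 * k) * y⁻¹)⁻¹ := by group
      _ = y * z ^ (5 * k) * (z ^ (4 * k))⁻¹ := by rw [h1]
      _ = y * z ^ k := by rw [h2]; group
  -- the projection onto the fixed space of `z`
  have h11 : ((11 : ℕ) : K) ≠ 0 := odd_ne (by norm_num)
  set N : Module.End K V := ∑ k ∈ Finset.range 11, ρ (z ^ k) with hN
  set C : Submodule K V := LinearMap.ker (ρ z - 1) with hCdef
  have hzN : ρ z * N = N := by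
    rw [hN, Finset.mul_sum]
    have h3 : ∀ k, ρ z * ρ (z ^ k) = ρ (z ^ (k + 1)) := fun k => by rw [← map_mul, ← pow_succ']
    rw [Finset.sum_congr rfl (fun k _ => h3 k)]
    have h4 := Finset.sum_range_succ' (fun k => ρ (z ^ k)) 11
    have h5 := Finset.sum_range_succ (fun k => ρ (z ^ k)) 11
    rw [h4, hz11, pow_zero] at h5
    exact add_right_cancel h5
  have hNC : ∀ v, N v ∈ C := fun v => by
    rw [hCdef, mem_ker]
    exact LinearMap.congr_fun hzN v
  have hCN : ∀ v ∈ C, N v = ((11 : ℕ) : K) • v := by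
    intro v hv
    rw [hCdef, mem_ker] at hv
    have key : ∀ i : ℕ, ρ (z ^ i) v = v := by
      intro i
      induction i with
      | zero => rw [pow_zero, map_one, Module.End.one_apply]
      | succ i ih => rw [pow_succ, map_mul, Module.End.mul_apply, hv, ih]
    rw [hN, LinearMap.sum_apply, Finset.sum_congr rfl (fun k _ => key k), Finset.sum_const, Finset.card_range,
      ← Nat.cast_smul_eq_nsmul K]
  have hyC : ∀ v ∈ C, ρ y v ∈ C := by
    intro v hv
    have hv' : ρ z v = v := by rw [hCdef, mem_ker] at hv; exact hv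
    rw [hCdef, mem_ker]
    have h1 : z * y = y * z ^ 4 := by
      have h2 : y * z ^ 4 * y⁻¹ = z := by
        rw [← conj_pow, hrel, ← pow_mul]
        calc z ^ (3 * 4) = z ^ 1 := Fix.pow_mod hz11 (by decide)
          _ = z := pow_one z
      calc z * y = y * z ^ 4 * y⁻¹ * y := by rw [h2]
        _ = y * z ^ 4 := by group
    rw [← Module.End.mul_apply, ← map_mul, h1, map_mul, Module.End.mul_apply,
      fixed_pow hv' (Subgroup.pow_mem _ (Subgroup.mem_zpowers z) 4)]
  set f : Module.End K V := (((11 : ℕ) : K)⁻¹) • (ρ y * N) with hf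
  have hfC : ∀ v, f v ∈ C := fun v => C.smul_mem _ (hyC _ (hNC v))
  have hfy : ∀ v ∈ C, f v = ρ y v := by
    intro v hv
    rw [hf, LinearMap.smul_apply, Module.End.mul_apply, hCN v hv, map_smul, smul_smul, inv_mul_cancel₀ h11, one_smul]
  have htr : LinearMap.trace K V f = tc ρ y := by
    rw [hf, map_smul, hN, Finset.mul_sum, map_sum]
    have h1 : ∀ k ∈ Finset.range 11, LinearMap.trace K V (ρ y * ρ (z ^ k)) = tc ρ y := by
      intro k _
      rw [← map_mul, ← hc k]
      exact tc_conj y _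
    rw [Finset.sum_congr rfl h1, Finset.sum_const, Finset.card_range, ← Nat.cast_smul_eq_nsmul K, smul_smul,
      inv_mul_cancel₀ h11, one_smul]
  have htr2 := LinearMap.trace_restrict_eq_of_forall_mem C f hfC
  rw [htr] at htr2
  have hC2 : finrank K C = 2 := by
    rcases H.dims (by omega) with ⟨h6, -⟩ | ⟨-, -, h6⟩
    · omega
    · exact h6 z hz'
  have hT5 : (f.restrict (fun x _ => hfC x) : Module.End K C) ^ 5 = 1 := by
    apply LinearMap.ext
    intro v
    apply Subtype.ext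
    have key : ∀ k : ℕ, (((f.restrict (fun x _ => hfC x) : Module.End K C) ^ k) v : V) = ρ (y ^ k) v.1 := by
      intro k
      induction k with
      | zero => rw [pow_zero, pow_zero, map_one]; rfl
      | succ k ih =>
        rw [pow_succ', Module.End.mul_apply, pow_succ', map_mul, Module.End.mul_apply, ← ih]
        exact hfy _ (Subtype.prop _)
    rw [key, hy5, map_one]
    rfl
  have hne := trace_plane hC2 hT5
  rw [htr2] at hne
  obtain ⟨u, hu⟩ := H.five hy'
  have hcy := tc_cyc (ρ := ρ) hu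
  have h1 : tc ρ (y ^ 2) = tc ρ y := by
    have := hcy 1
    rwa [mul_one, pow_one] at this
  have hy0 : tc ρ y = 0 := by
    rw [hfr] at h1
    have h3 : tc ρ y * (tc ρ y - 1) = 0 := by linear_combination h1
    rcases mul_eq_zero.1 h3 with h4 | h4
    · exact h4
    · exact absurd (sub_eq_zero.1 h4) hne
  refine tc_all (by norm_num) (by rw [H.card_L]; norm_num) hy' hw ?_
  have a1 : tc ρ (y ^ 1) = 0 := by rw [pow_one, hy0]
  have a2 : tc ρ (y ^ 2) = 0 := by rw [h1, hy0]
  have a4 : tc ρ (y ^ 4) = 0 := by rw [show 4 = 2 * 2 by norm_num, hcy 2, a2]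
  have a3 : tc ρ (y ^ 3) = 0 := by
    have h5 : y ^ 3 = y ^ (2 * 4) := Fix.pow_mod hy5 (by decide)
    rw [h5, hcy 4, a4]
  intro j hj hj0
  interval_cases j
  · exact absurd rfl hj0
  · exact a1
  · exact a2
  · exact a3
  · exact a4

/-! ### cosets of a subgroup of order 16 -/

omit hfr in
theorem Hyp.coset {A : Subgroup Spor.M22} [Fintype A] (hA : Nat.card A = 16) :
    ∃ σ : A →* L, (∀ a, π (σ a) = a) ∧ ∀ x : L, ∑ a, tc ρ (x * σ a) = 0 := by
  obtain ⟨σ, hσ⟩ := exists_section H.surj (X := A) (by rw [H.card, hA]; norm_num)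
  refine ⟨σ, hσ, fun x => ?_⟩
  have h1 := norm_zero (ρ.comp σ) (k := 4) (by rw [hA]; norm_num) (by rw [hn]; norm_num)
  have h2 : ∑ a, tc ρ (x * σ a) = LinearMap.trace K V (ρ x * ∑ a, (ρ.comp σ) a) := by
    rw [Finset.mul_sum, map_sum]
    apply Finset.sum_congr rfl
    intro a _
    unfold tc
    rw [map_mul]
    rfl
  rw [h2, h1, mul_zero, map_zero]

omit hn hfr in
theorem Hyp.lift {g : L} {r : ℕ} (hr : r.Prime) (hr3 : r ≠ 3) (ho : orderOf (π g) = r) :
    ∃ w : L, orderOf w = r ∧ π w = π g ∧ ∃ d : K, d ≠ 0 ∧ tc ρ g = d * tc ρ w := by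
  obtain ⟨w, hw1, hw2⟩ := H908.exists_lift H.surj (π g) (by
    rw [H.card, ho]
    exact (Nat.coprime_primes Nat.prime_three hr).2 (Ne.symm hr3))
  obtain ⟨c, hc, hcw⟩ := H.exists_mul (g := g) (h := w) hw1.symm
  obtain ⟨d, hd, hd'⟩ := H.tc_smul hc
  exact ⟨w, hw2.trans ho, hw1, d, hd, by rw [hcw, hd']⟩

theorem Hyp.tc_fifth {g : L} (hg : (π g) ^ 5 = 1) : tc ρ g = 0 := by
  rcases (Nat.dvd_prime (by norm_num : Nat.Prime 5)).1 (orderOf_dvd_of_pow_eq_one hg) with h | h
  · rw [orderOf_eq_one_iff] at h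
    exact H.tc_ker hn (MonoidHom.mem_ker.2 h)
  · obtain ⟨w, hw, -, d, -, hd⟩ := H.lift (by norm_num) (by norm_num) h
    rw [hd, H.tc_five hn hfr hw, mul_zero]

theorem Hyp.tc_eleven {w : L} (hw : orderOf w = 11) : tc ρ w = 0 := by
  classical
  obtain ⟨A, x₁, a₁, x₂, b₁, b₂, hA⟩ := cos
  have : Fintype A := Fintype.ofFinite A
  obtain ⟨σ, hσ, hsum⟩ := H.coset hn hA.card
  obtain ⟨x, hx⟩ := H.surj x₁
  have h1 := hsum x
  have hπ : ∀ a : A, π (x * σ a) = x₁ * a := fun a => by rw [map_mul, hx, hσ]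
  rw [Finset.sum_eq_single (⟨a₁, hA.ha₁⟩ : A)] at h1
  · obtain ⟨z, hz, hz1, d, hd, hd'⟩ := H.lift (g := x * σ ⟨a₁, hA.ha₁⟩) (r := 11) (by norm_num) (by norm_num) (by
      rw [hπ]
      exact hA.o1)
    rw [hd'] at h1
    have z1 : tc ρ z = 0 := (mul_eq_zero.1 h1).resolve_left hd
    have hz11 : z ^ 11 = 1 := by rw [← hz, pow_orderOf_eq_one]
    obtain ⟨u, hu⟩ := H.eleven hz
    have hcy := tc_cyc (ρ := ρ) hu
    refine tc_all (by norm_num) (by rw [H.card_L]; norm_num) hz hw ?_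
    have m : ∀ {i j : ℕ}, i ≡ j [MOD 11] → tc ρ (z ^ i) = tc ρ (z ^ j) := fun hij => by rw [Fix.pow_mod hz11 hij]
    have c1 : tc ρ (z ^ 1) = 0 := by rw [pow_one, z1]
    have c2 : tc ρ (z ^ 2) = 0 := by rw [hfr, z1, zero_pow two_ne_zero]
    have c3 : tc ρ (z ^ 3) = 0 := (hcy 1).trans c1
    have c9 : tc ρ (z ^ 9) = 0 := (hcy 3).trans c3
    have c5 : tc ρ (z ^ 5) = 0 := (m (by decide)).trans ((hcy 9).trans c9)
    have c4 : tc ρ (z ^ 4) = 0 := (m (by decide)).trans ((hcy 5).trans c5)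
    have c6 : tc ρ (z ^ 6) = 0 := (hcy 2).trans c2
    have c7 : tc ρ (z ^ 7) = 0 := (m (by decide)).trans ((hcy 6).trans c6)
    have c10 : tc ρ (z ^ 10) = 0 := (m (by decide)).trans ((hcy 7).trans c7)
    have c8 : tc ρ (z ^ 8) = 0 := (m (by decide)).trans ((hcy 10).trans c10)
    intro j hj hj0
    interval_cases j
    · exact absurd rfl hj0
    · exact c1
    · exact c2
    · exact c3
    · exact c4
    · exact c5
    · exact c6
    · exact c7
    · exact c8
    · exact c9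
    · exact c10
  · intro a _ ha
    rcases hA.h1 a a.2 (fun h => ha (Subtype.ext h)) with h2 | h2
    · exact H.tc_exp hn hfr (by rw [hπ]; exact h2)
    · exact H.tc_fifth hn hfr (by rw [hπ]; exact h2)
  · intro h2
    exact absurd (Finset.mem_univ _) h2

/-! ### elements of order 7 -/

omit hn in
theorem Hyp.seven_tc {w : L} (hw : orderOf w = 7) : tc ρ w * (tc ρ w - 1) = 0 := by
  obtain ⟨u, hu⟩ := H.seven hw
  have h1 := tc_cyc (ρ := ρ) hu 1
  rw [mul_one, pow_one, hfr] at h1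
  linear_combination h1

/-- the traces of `w` and its inverse agree -/
theorem Hyp.seven_one : ∃ w : L, orderOf w = 7 ∧ tc ρ w⁻¹ = tc ρ w := by
  classical
  obtain ⟨A, x₁, a₁, x₂, b₁, b₂, hA⟩ := cos
  have : Fintype A := Fintype.ofFinite A
  obtain ⟨σ, hσ, hsum⟩ := H.coset hn hA.card
  obtain ⟨x, hx⟩ := H.surj x₂
  have h1 := hsum x
  have hπ : ∀ a : A, π (x * σ a) = x₂ * a := fun a => by rw [map_mul, hx, hσ]
  rw [Finset.sum_eq_add (⟨b₁, hA.hb₁⟩ : A) (⟨b₂, hA.hb₂⟩ : A)] at h1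
  · obtain ⟨w, hw, hwπ, d, hd, hd'⟩ := H.lift (g := x * σ ⟨b₁, hA.hb₁⟩) (r := 7) (by norm_num) (by norm_num) (by
      rw [hπ]
      exact hA.o2)
    obtain ⟨w', hw', hwπ', d', hd0, hd''⟩ := H.lift (g := x * σ ⟨b₂, hA.hb₂⟩) (r := 7) (by norm_num) (by norm_num) (by
      rw [hπ]
      obtain ⟨c, hc⟩ := isConj_iff.1 hA.c2
      have h2 := congrArg orderOf hc
      rw [orderOf_conj, orderOf_inv] at h2
      rw [← hA.o2]
      exact h2.symm)
    rw [hπ] at hwπ hwπ'
    have hconj : tc ρ w' = tc ρ w⁻¹ := by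
      obtain ⟨c, hc⟩ := isConj_iff.1 hA.c2
      obtain ⟨C, hC⟩ := H.surj c
      have h2 : C * w * C⁻¹ = w'⁻¹ := by
        apply H908.conj_lift H.cen
        · rw [map_mul, map_mul, map_inv, hC, hwπ, map_inv, hwπ']
          exact hc
        · rw [H.card, hw]; norm_num
        · rw [H.card, orderOf_inv, hw']; norm_num
      have h3 : C * w⁻¹ * C⁻¹ = w' := by
        rw [← inv_inv w', ← h2]
        group
      rw [← h3, tc_conj]
    refine ⟨w, hw, ?_⟩
    rw [hd', hd'', hconj] at h1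
    have e1 := H.seven_tc hfr hw
    have e2 := H.seven_tc hfr (w := w⁻¹) (by rw [orderOf_inv, hw])
    rcases mul_eq_zero.1 e1 with e1 | e1
    · rw [e1, mul_zero, zero_add] at h1
      rw [e1, (mul_eq_zero.1 h1).resolve_left hd0]
    · rcases mul_eq_zero.1 e2 with e2 | e2
      · rw [e2, mul_zero, add_zero, sub_eq_zero.1 e1, mul_one] at h1
        exact absurd h1 hd
      · rw [sub_eq_zero.1 e1, sub_eq_zero.1 e2]
  · intro h
    exact hA.ne (congrArg Subtype.val h)
  · intro a _ ha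
    rcases hA.h2 a a.2 (fun h => ha.1 (Subtype.ext h)) (fun h => ha.2 (Subtype.ext h)) with h2 | h2
    · exact H.tc_exp hn hfr (by rw [hπ]; exact h2)
    · exact H.tc_fifth hn hfr (by rw [hπ]; exact h2)
  · intro h2
    exact absurd (Finset.mem_univ _) h2
  · intro h2
    exact absurd (Finset.mem_univ _) h2

/-- elements of order 7 have the same trace, and fix nothing -/
theorem Hyp.seven_all : ∃ τ : K, τ * (τ - 1) = 0 ∧ ∀ w : L, orderOf w = 7 → tc ρ w = τ ∧ fx ρ w = 0 := by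
  obtain ⟨z, hz, hzi⟩ := H.seven_one hn hfr
  refine ⟨tc ρ z, H.seven_tc hfr hz, ?_⟩
  have hz7 : z ^ 7 = 1 := by rw [← hz, pow_orderOf_eq_one]
  obtain ⟨u, hu⟩ := H.seven hz
  have hcy := tc_cyc (ρ := ρ) hu
  have m : ∀ {i j : ℕ}, i ≡ j [MOD 7] → tc ρ (z ^ i) = tc ρ (z ^ j) := fun hij => by rw [Fix.pow_mod hz7 hij]
  have c1 : tc ρ (z ^ 1) = tc ρ z := by rw [pow_one]
  have c2 : tc ρ (z ^ 2) = tc ρ z := (hcy 1).trans c1
  have c4 : tc ρ (z ^ 4) = tc ρ z := (hcy 2).trans c2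
  have c6 : tc ρ (z ^ 6) = tc ρ z := by
    have : z ^ 6 = z⁻¹ := by rw [eq_inv_iff_mul_eq_one, ← pow_succ, hz7]
    rw [this, hzi]
  have c5 : tc ρ (z ^ 5) = tc ρ z := (m (by decide)).trans ((hcy 6).trans c6)
  have c3 : tc ρ (z ^ 3) = tc ρ z := (m (by decide)).trans ((hcy 5).trans c5)
  have hall : ∀ w : L, orderOf w = 7 → tc ρ w = tc ρ z := by
    intro w hw
    refine tc_all (by norm_num) (by rw [H.card_L]; norm_num) hz hw ?_
    intro j hj hj0
    interval_cases j
    · exact absurd rfl hj0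
    · exact c1
    · exact c2
    · exact c3
    · exact c4
    · exact c5
    · exact c6
  intro w hw
  refine ⟨hall w hw, ?_⟩
  obtain ⟨v, hv⟩ := H.seven hw
  have h1 := sum_seven (ρ := ρ) (odd_ne (by norm_num)) (by rw [← hw, pow_orderOf_eq_one]) hv
  rw [cast_zero H hn, hall w hw, hall w⁻¹ (by rw [orderOf_inv, hw])] at h1
  have h2 : (2 : K) = 0 := CharTwo.two_eq_zero
  have h3 : (fx ρ w : K) = 0 := by linear_combination (3 * tc ρ z - 3 * (fx ρ w : K)) * h2 - h1
  rw [CharP.cast_eq_zero_iff K 2] at h3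
  rcases H.dims (by omega) with ⟨h6, -⟩ | ⟨-, h6, -⟩
  · omega
  · rcases h6 w hw with h7 | h7
    · exact h7
    · rw [h7] at h3
      omega

omit H hn hfr

theorem vec_pow {x : L} {v : V} {a : K} (h : ρ x v = a • v) (k : ℕ) : ρ (x ^ k) v = a ^ k • v := by
  induction k with
  | zero => rw [pow_zero, pow_zero, map_one, one_smul, Module.End.one_apply]
  | succ k ih => rw [pow_succ, map_mul, Module.End.mul_apply, h, map_smul, ih, smul_smul, pow_succ, mul_comm]

theorem sub_mul' {x y : L} {S : Submodule K V} {a b : K} (hx : ∀ v, ρ x v - a • v ∈ S) (hy : ∀ v, ρ y v - b • v ∈ S)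
    (v : V) : ρ (x * y) v - (a * b) • v ∈ S := by
  have h1 : ρ (x * y) v - (a * b) • v = (ρ x (ρ y v) - a • ρ y v) + a • (ρ y v - b • v) := by
    rw [map_mul, Module.End.mul_apply, smul_sub, smul_smul]
    abel
  rw [h1]
  exact S.add_mem (hx _) (S.smul_mem _ (hy _))

theorem sub_pow' {x : L} {S : Submodule K V} {a : K} (hx : ∀ v, ρ x v - a • v ∈ S) (k : ℕ) (v : V) :
    ρ (x ^ k) v - a ^ k • v ∈ S := by
  induction k generalizing v with
  | zero =>
    rw [pow_zero, pow_zero, map_one, one_smul, Module.End.one_apply, sub_self]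
    exact S.zero_mem
  | succ k ih =>
    rw [pow_succ, pow_succ]
    exact sub_mul' (fun v => ih v) hx v

include H hn

/-- **Scott's lemma for an involution and two elements of order 7.** -/
theorem Hyp.seven_eig : ∃ w : L, orderOf w = 7 ∧ ∀ c : K, c ^ 7 = 1 → c ≠ 1 → eg ρ w c ≤ 2 := by
  obtain ⟨g₀, w₀, u₀, O⟩ := oct
  obtain ⟨g, hg, hg'⟩ := H908.exists_lift H.surj g₀ (by rw [H.card, O.hg]; norm_num)
  obtain ⟨w, hw, hw'⟩ := H908.exists_lift H.surj w₀ (by rw [H.card, O.hw]; norm_num)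
  obtain ⟨u, hu, hu'⟩ := H908.exists_lift H.surj u₀ (by rw [H.card, O.hu]; norm_num)
  rw [O.hg] at hg'
  rw [O.hw] at hw'
  rw [O.hu] at hu'
  refine ⟨w, hw', fun c hc hc1 => ?_⟩
  have hw7 : w ^ 7 = 1 := by rw [← hw', pow_orderOf_eq_one]
  have hu8 : u ^ 8 = 1 := by rw [← hu', pow_orderOf_eq_one]
  have hg2 : g * g = 1 := by rw [← pow_two, ← hg', pow_orderOf_eq_one]
  have hc0 : c ≠ 0 := by
    rintro rfl
    norm_num at hc
  -- the commutator
  have hcomm : g * (w * g * w⁻¹) = (w * g * w⁻¹) * g := by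
    apply H908.commute_lift H.cen
    · rw [map_mul, map_mul, map_inv, hg, hw]
      exact O.hc
    · rw [orderOf_conj, H.card, hg']; norm_num
  have hgi : g⁻¹ = g := inv_eq_of_mul_eq_one_right hg2
  have hs2 : (g * (w * g * w⁻¹)) ^ 2 = 1 := by
    rw [pow_two]
    calc g * (w * g * w⁻¹) * (g * (w * g * w⁻¹)) = g * (w * g * w⁻¹) * ((w * g * w⁻¹) * g) := by rw [hcomm]
      _ = g * (w * (g * g) * w⁻¹) * g := by group
      _ = g * (w * 1 * w⁻¹) * g := by rw [hg2]
      _ = g * g := by group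
      _ = 1 := hg2
  have ht : g * (w * g * w⁻¹) = u ^ 4 := by
    apply H908.lift_unique H.cen
    · rw [map_mul, map_mul, map_mul, map_inv, map_pow, hg, hw, hu]
      exact O.ht
    · rw [H.card]
      exact (by norm_num : Nat.Coprime 3 2).coprime_dvd_right (orderOf_dvd_of_pow_eq_one hs2)
    · rw [H.card]
      exact (by norm_num : Nat.Coprime 3 8).coprime_dvd_right (by rw [← hu']; exact orderOf_pow_dvd 4)
  have htw : u ^ 4 * w = g * w * g⁻¹ := by
    rw [← ht, hgi]
    group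
  have h15 : (u ^ 4 * w ^ 3) ^ 15 = 1 := by
    have h1 : (u ^ 4 * w ^ 3) ^ 5 ∈ π.ker := by
      rw [MonoidHom.mem_ker, map_pow, map_mul, map_pow, map_pow, hu, hw]
      exact O.h5
    have h2 := H.cube h1
    rwa [← pow_mul] at h2
  have h45 : (c ^ 3) ^ 15 ≠ 1 := by
    intro h
    apply hc1
    have h1 : (c ^ 3) ^ 15 = (c ^ 7) ^ 6 * c ^ 3 := by ring
    rw [h1, hc, one_pow, one_mul] at h
    calc c = (c ^ 7) * (c ^ 3) ^ 5 * (c ^ 3)⁻¹ ^ 7 := by field_simp
      _ = 1 := by rw [hc, h]; norm_num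
  have hsc := scott_eig (ρ := ρ) (g := u ^ 4) (h := w) (c := 1) (d := c) one_ne_zero hc0 (by
    intro v h1 h2
    have h3 : ρ (u ^ 4 * w ^ 3) v = c ^ 3 • v := by
      rw [map_mul, Module.End.mul_apply, vec_pow h2 3, map_smul, h1, one_smul]
    have h4 := vec_pow h3 15
    rw [h15, map_one, Module.End.one_apply] at h4
    have h5 : ((c ^ 3) ^ 15 - 1) • v = 0 := by rw [sub_smul, ← h4, one_smul, sub_self]
    exact (smul_eq_zero.1 h5).resolve_left (sub_ne_zero.2 h45)) (by
    intro S h1 h2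
    rw [eq_top_iff]
    intro v _
    have h3 := sub_pow' (ρ := ρ) (sub_mul' (ρ := ρ) h1 (sub_pow' (ρ := ρ) h2 3)) 15 v
    rw [h15, map_one, Module.End.one_apply, one_mul] at h3
    have h5 : v - (c ^ 3) ^ 15 • v = (1 - (c ^ 3) ^ 15) • v := by rw [sub_smul, one_smul]
    rw [h5] at h3
    have h6 := S.smul_mem (1 - (c ^ 3) ^ 15)⁻¹ h3
    rwa [smul_smul, inv_mul_cancel₀ (sub_ne_zero.2 (Ne.symm h45)), one_smul] at h6)
  rw [one_mul, htw, eg_conj, eg_one] at hsc
  have h8 := rank_four (ρ := ρ) hu8 hn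
  omega

include hfr

theorem Hyp.tc_seven {w : L} (hw : orderOf w = 7) : tc ρ w = 0 := by
  obtain ⟨τ, hτ, hall⟩ := H.seven_all hn hfr
  rw [(hall w hw).1]
  by_contra hne
  have hτ1 : τ = 1 := sub_eq_zero.1 ((mul_eq_zero.1 hτ).resolve_left hne)
  obtain ⟨z, hz, hz2⟩ := H.seven_eig hn
  have hz7 : z ^ 7 = 1 := by rw [← hz, pow_orderOf_eq_one]
  have h7 : ((7 : ℕ) : K) ≠ 0 := odd_ne (by norm_num)
  have h2 : (2 : K) = 0 := CharTwo.two_eq_zero
  have h1 := finrank_le_of_eig (ρ := ρ) h7 hz7 (m := 1) (by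
    intro c hc
    by_cases hc1 : c = 1
    · rw [hc1, eg_one, (hall z hz).2]
      exact Nat.zero_le _
    · have hc0 : c ≠ 0 := by
        rintro rfl
        norm_num at hc
      have h3 := sum_trace_eig (ρ := ρ) h7 hz7 (c := c⁻¹) (by rw [inv_pow, hc, inv_one])
      rw [inv_inv] at h3
      have hk : ∀ k : ℕ, 0 < k → k < 7 → tc ρ (z ^ k) = 1 := by
        intro k hk0 hk7
        rw [(hall (z ^ k) (by
          rw [(Nat.Coprime.orderOf_pow (y := z) (m := k) (by
            rw [hz]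
            exact ((Nat.Prime.coprime_iff_not_dvd (by norm_num)).2 (Nat.not_dvd_of_pos_of_lt hk0 hk7)))), hz])).1, hτ1]
      simp only [Finset.sum_range_succ, Finset.sum_range_zero, zero_add, pow_zero, pow_one, one_mul] at h3
      have k1 := hk 1 (by norm_num) (by norm_num)
      have k2 := hk 2 (by norm_num) (by norm_num)
      have k3 := hk 3 (by norm_num) (by norm_num)
      have k4 := hk 4 (by norm_num) (by norm_num)
      have k5 := hk 5 (by norm_num) (by norm_num)
      have k6 := hk 6 (by norm_num) (by norm_num)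
      rw [pow_one] at k1
      rw [k1, k2, k3, k4, k5, k6, tc_one, cast_zero H hn] at h3
      -- geometric sum
      have h4 : 1 + c⁻¹ + c⁻¹ ^ 2 + c⁻¹ ^ 3 + c⁻¹ ^ 4 + c⁻¹ ^ 5 + c⁻¹ ^ 6 = 0 := by
        have h5 : (c⁻¹ - 1) * (1 + c⁻¹ + c⁻¹ ^ 2 + c⁻¹ ^ 3 + c⁻¹ ^ 4 + c⁻¹ ^ 5 + c⁻¹ ^ 6) = 0 := by
          have h6 : c⁻¹ ^ 7 = 1 := by rw [inv_pow, hc, inv_one]
          linear_combination h6
        refine (mul_eq_zero.1 h5).resolve_left ?_
        intro h
        exact hc1 (inv_eq_one.1 (sub_eq_zero.1 h))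
      have h5 : ((eg ρ z c : ℕ) : K) = 1 := by
        push_cast at h3
        linear_combination h3 - h4 + 4 * (eg ρ z c : K) * h2
      have h6 := hz2 c hc hc1
      have h8 : eg ρ z c ≠ 2 := by
        intro h
        rw [h] at h5
        push_cast at h5
        rw [h2] at h5
        exact zero_ne_one h5
      omega)
  omega

/-- **All traces are zero.** -/
theorem Hyp.tc_zero (g : L) : tc ρ g = 0 := by
  have ho : orderOf g ≠ 0 := (orderOf_pos g).ne'
  obtain ⟨k, m, hm, hkm⟩ := Nat.exists_eq_two_pow_mul_odd ho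
  have h1 : ¬ 2 ∣ orderOf (g ^ 2 ^ k) := by
    rw [orderOf_pow_of_dvd (by positivity) ⟨m, hkm⟩, hkm, Nat.mul_div_cancel_left _ (by positivity)]
    exact hm.not_two_dvd_nat
  have h2 := tc_two_pow hfr g k
  have h3 : tc ρ (g ^ 2 ^ k) = 0 := by
    set h := g ^ 2 ^ k with hh
    rcases odd (g := π h) (fun hd => h1 (hd.trans (orderOf_map_dvd π h))) with e | e | e | e | e
    · rw [orderOf_eq_one_iff] at e
      exact H.tc_ker hn (MonoidHom.mem_ker.2 e)
    · exact H.tc_three e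
    · exact H.tc_fifth hn hfr (by rw [← e, pow_orderOf_eq_one])
    · obtain ⟨w, hw, -, d, -, hd⟩ := H.lift (by norm_num) (by norm_num) e
      rw [hd, H.tc_seven hn hfr hw, mul_zero]
    · obtain ⟨w, hw, -, d, -, hd⟩ := H.lift (by norm_num) (by norm_num) e
      rw [hd, H.tc_eleven hn hfr hw, mul_zero]
  rw [h3] at h2
  exact (pow_eq_zero_iff (by positivity)).1 h2.symm

end main

end Cfsg.Agent.H921.M22.Rp
end

-- part: H921/M22/Final
section
/-!
# Cores with socle `M22` in characteristic two, degree at most 12: degree 6 or 10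
-/

set_option autoImplicit false
set_option linter.unusedSectionVars false

namespace Cfsg.Agent.H921.M22

open Cfsg Cfsg.Geo Matrix H915.LD Module
open Cfsg.Agent.H921.M22.Fix (Dat fx)
open Cfsg.Agent.H921.M22.Rp (tc Hyp)
open Cfsg.Agent.H911.Five (rep rep_irr trace_rep rep_injective)

universe u

variable {ι : Type} [Fintype ι] [DecidableEq ι] {F : Type u} [Field F] {P : Subgroup (GL ι F)}

/-- some trace of an absolutely irreducible group is not zero -/
theorem exists_tr_ne_zero [Nonempty ι] (hP : ActsAbsolutelyIrreducibly (matrixSet P)) : ∃ g ∈ P, tr g ≠ 0 := by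
  by_contra hcon
  push Not at hcon
  have hspan := Cfsg.Agent.H920.span_eq_top hP
  have key : ∀ M : Matrix ι ι F, M.trace = 0 := by
    intro M
    have hM : M ∈ Submodule.span F (matrixSet P) := by rw [hspan]; trivial
    induction hM using Submodule.span_induction with
    | mem x hx =>
      obtain ⟨g, hg, rfl⟩ := hx
      exact hcon g hg
    | zero => exact Matrix.trace_zero ι F
    | add x y _ _ hx hy => rw [Matrix.trace_add, hx, hy, add_zero]
    | smul c x _ hx => rw [Matrix.trace_smul, hx, smul_zero]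
  obtain ⟨i⟩ := ‹Nonempty ι›
  have h1 := key (Matrix.single i i 1)
  rw [Matrix.trace_single_eq_same] at h1
  exact one_ne_zero h1

variable [Finite F] [CharP F 2] (e : Soc P ≃* Spor.M22) (hC : Core P)

include e hC

theorem not_twelve (hn : Fintype.card ι = 12) (h1 : Nat.card (ph e).ker = 3) : False := by
  have H := hyp e hC h1
  have hne := hC.nonempty
  have hfin : Finite P := inferInstance
  obtain ⟨g, hg, hg0⟩ := exists_tr_ne_zero hC.absIrred
  apply hg0
  apply (algebraMap F (AlgebraicClosure F)).injective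
  rw [map_zero]
  have h2 := H.tc_zero (by rw [finrank_eq, hn]) (by
    intro g
    rw [tc_rep, tc_rep, ← map_pow, ← tr_sq]
    rfl) ⟨g, hg⟩
  rwa [tc_rep] at h2

/-- **Cores with socle `M22` in characteristic two and degree at most 12.** -/
theorem main (hn : Fintype.card ι ≤ 12) :
    (Fintype.card ι = 6 ∧ Cj P 2) ∨ (Fintype.card ι = 10 ∧ Fr P 2 ∧ ¬ SD P) := by
  rcases two e hC hn with h | h | ⟨h, h'⟩
  · exact Or.inl h
  · exact Or.inr h
  · exact (not_twelve e hC h h').elim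

/-- **Self-dual cores with socle `M22` in characteristic two have degree 6.** -/
theorem six_of_sd (hn : Fintype.card ι ≤ 12) (hsd : SD P) : Fintype.card ι = 6 ∧ Cj P 2 := by
  rcases main e hC hn with h | ⟨-, -, h⟩
  · exact h
  · exact (h hsd).elim

end Cfsg.Agent.H921.M22
end
end

-- part: H906/T14SixZ
section
set_option linter.all false
open scoped Cfsg.Agent.FastGrp

/-!
# The centre of a core with socle `PSL_3(4)` in degree six
-/

set_option autoImplicit false
set_option linter.unusedSectionVars false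

namespace Cfsg.Agent.H906.T14

open Cfsg Cfsg.Geo SL3Par L34 H915.LD Wt
open scoped MatrixGroups commutatorElement Matrix

universe u v

section lifted

variable {K : Type*} [Field K] [Fintype K] {L : Type*} [Group L] [Finite L]
  {φ : L →* Matrix.ProjectiveSpecialLinearGroup (Fin 3) K} (h : Two φ) (hK : Fintype.card K = 4)
  {Ω V : Type*} [Field Ω] [IsAlgClosed Ω] [AddCommGroup V] [Module Ω V] [FiniteDimensional Ω V]
  (ρ : L →* Module.End Ω V)

include h hK in
/-- the kernel contains an involution -/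
theorem six_invol (hρ : Function.Injective ρ) (hZ : ∀ z ∈ φ.ker, ∃ c : Ω, ρ z = c • 1) (h2 : (2 : Ω) ≠ 0)
    (hd : Module.finrank Ω V = 6) : ∃ z ∈ φ.ker, z ^ 2 = 1 ∧ z ≠ 1 := by
  by_contra hcon
  push Not at hcon
  obtain ⟨w, hw⟩ := exists_w hK
  obtain ⟨x, hxP, hx5, hx1, hx, -⟩ := exists_x5 hK hw
  obtain ⟨g, hg⟩ := h.surj (pj K x)
  obtain ⟨χ₀, h1, h3, h4⟩ := six_fixed h hK ρ hρ hZ h2 hd hw hxP hx5 hx hg
  obtain ⟨y, hyP, hyP', hy3, hy⟩ := exists_y3 (K := K) hw
  obtain ⟨k, hk⟩ := h.surj (pj K y)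
  obtain ⟨ψ₀, q1, q3, l, hl⟩ := three_fixed h hK ρ hZ h2 hw hyP hy3 hy hk
  have hle := six_le_one h hK ρ hρ hZ h2 hd
  have hψ0 : Module.finrank Ω (W (rs ρ (Ah h hK)) ψ₀) = 0 := by
    have h5 := hle ψ₀
    rw [hd] at hl
    omega
  -- the surjectivity of commutation with `g`
  have hs : ∀ a ∈ Ah h hK, ∃ z ∈ φ.ker, ∃ b ∈ Ah h hK, a = z * (g * b * g⁻¹ * b⁻¹) := by
    apply comm_surj h hK hg
    intro b c
    have k2 := two_zero hK
    have hw0 : w ≠ 0 := by
      rintro rfl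
      norm_num at hw
    obtain ⟨u, hu⟩ : ∃ u, w * u = b - (w + 1) * c := ⟨(b - (w + 1) * c) / w, by field_simp⟩
    refine ⟨u + c, u, ?_⟩
    rw [hx, uni_inv, uni_mul]
    congr 1
    · ring
    · linear_combination hu - c * k2
    · ring
  have hone : χ₀ = 1 := by
    have hfix := (sg_eq_self (nor_Ah h hK hxP hg)).1 h1
    ext a
    obtain ⟨z, hz, b, hb, hab⟩ := hs a.1 a.2
    have hzA : z ∈ Ah h hK := by
      have : z = a.1 * (g * b * g⁻¹ * b⁻¹)⁻¹ := by rw [hab]; group
      rw [this]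
      exact (Ah h hK).mul_mem a.2 ((Ah h hK).inv_mem ((Ah h hK).mul_mem ((nor_Ah h hK hxP hg b).1 hb) ((Ah h hK).inv_mem hb)))
    have hz1 : z = 1 := hcon z hz hzA.2
    rw [hz1, one_mul] at hab
    have e1 : a = ⟨g * b * g⁻¹, (nor_Ah h hK hxP hg b).1 hb⟩ * (⟨b, hb⟩ : Ah h hK)⁻¹ := Subtype.ext hab
    have e2 := hfix ⟨b, hb⟩
    rw [e1, map_mul, map_inv, e2, mul_inv_cancel]
    rfl
  have hne : χ₀ ≠ ψ₀ := by
    intro h0
    rw [h0, hψ0] at h4
    exact zero_ne_one h4
  have h6 := q3 χ₀ (by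
    rw [hone]
    ext a
    rw [sg_apply]
    simp) hne
  rw [h6, finrank_bot] at h4
  exact zero_ne_one h4

end lifted

variable {ι : Type} [Fintype ι] [DecidableEq ι] {F : Type u} [Field F] {P : Subgroup (GL ι F)}
  {K : Type v} [Field K] [Fintype K]

/-- the scalars of a core: the order divides the degree -/
theorem card_scalars_dvd_card [Finite F] (hC : Core P) :
    Nat.card ((scalars ι F).subgroupOf P) ∣ Fintype.card ι := by
  have hne := hC.nonempty
  have key : ∀ z : (scalars ι F).subgroupOf P, ∃ c : Fˣ, ((z : GL ι F) : Matrix ι ι F) = (c : F) • 1 := by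
    rintro ⟨z, hz⟩
    rw [Subgroup.mem_subgroupOf, mem_scalars_iff] at hz
    exact hz
  choose f hf using key
  let φ : (scalars ι F).subgroupOf P →* F :=
    { toFun := fun z => f z
      map_one' := by
        apply smul_ext (ι := ι)
        rw [← hf, one_smul]
        rfl
      map_mul' := fun a b => by
        apply smul_ext (ι := ι)
        rw [← hf]
        change (((a : P) : GL ι F) : Matrix ι ι F) * (((b : P) : GL ι F) : Matrix ι ι F) = _
        rw [hf a, hf b, smul_mul_smul_comm, mul_one] }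
  have hφ : Function.Injective φ := by
    intro a b hab
    apply Subtype.ext
    apply Subtype.ext
    apply Units.ext
    rw [hf a, hf b]
    change φ a • _ = φ b • _
    rw [hab]
  have hcyc : IsCyclic ((scalars ι F).subgroupOf P) := isCyclic_of_subgroup_isDomain φ hφ
  rw [← IsCyclic.exponent_eq_card]
  apply Monoid.exponent_dvd_of_forall_pow_eq_one
  rintro ⟨z, hz⟩
  apply Subtype.ext
  exact hC.pow_card hz

/-- the order of the centre in degree six -/
theorem six_center [Finite F] (p : ℕ) [hp : Fact p.Prime] [CharP F p] (hC : Core P) (hp2 : p ≠ 2)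
    (hK : Fintype.card K = 4) (hn : Fintype.card ι = 6)
    (e : Soc P ≃* Matrix.ProjectiveSpecialLinearGroup (Fin 3) K) :
    (p ≠ 3 → Nat.card ((scalars ι F).subgroupOf P) = 6) ∧ (p = 3 → Nat.card ((scalars ι F).subgroupOf P) = 2) := by
  have hfin : Finite P := inferInstance
  have hne := hC.nonempty
  have h := two_of e hC (by rw [hn])
  have h2Ω := two_ne (F := F) p hp2 (AlgebraicClosure F)
  have hdvd := card_scalars_dvd_card hC
  rw [hn] at hdvd
  have h2 : 2 ∣ Nat.card ((scalars ι F).subgroupOf P) := by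
    obtain ⟨z, hz, hz2, hz1⟩ := six_invol h hK (rep P) rep_injective (fun z hz => rep_scalar e hz) h2Ω
      (by rw [Module.finrank_fintype_fun_eq_card, hn])
    rw [ker_comp e] at hz
    have h3 : orderOf (⟨z, hz⟩ : (scalars ι F).subgroupOf P) = 2 :=
      orderOf_eq_prime (Subtype.ext hz2) (fun h0 => hz1 (congrArg Subtype.val h0))
    rw [← h3]
    exact orderOf_dvd_natCard _
  constructor
  · intro hp3
    have h3F : (3 : F) ≠ 0 := by
      intro h0
      have h2 : ((3 : ℕ) : F) = 0 := by exact_mod_cast h0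
      rw [CharP.cast_eq_zero_iff F p] at h2
      exact hp3 ((Nat.prime_dvd_prime_iff_eq hp.out Nat.prime_three).1 h2)
    have h3 : 3 ∣ Nat.card ((scalars ι F).subgroupOf P) := by
      by_contra hnd
      have h8 := eight_le_perfect hC.perfect h3F hK e ((Nat.Prime.coprime_iff_not_dvd Nat.prime_three).2 hnd).symm
      omega
    have h6 : 6 ∣ Nat.card ((scalars ι F).subgroupOf P) := by
      have : (2 : ℕ).Coprime 3 := by norm_num
      exact this.mul_dvd_of_dvd_of_dvd h2 h3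
    exact Nat.dvd_antisymm hdvd h6
  · rintro rfl
    have h3 : ¬ 3 ∣ Nat.card ((scalars ι F).subgroupOf P) := by
      intro h3
      obtain ⟨z, hz⟩ := exists_prime_orderOf_dvd_card' (G := (scalars ι F).subgroupOf P) 3 h3
      have hz' := z.2
      rw [Subgroup.mem_subgroupOf, mem_scalars_iff] at hz'
      obtain ⟨c, hc⟩ := hz'
      have hz3 : z ^ 3 = 1 := by rw [← hz, pow_orderOf_eq_one]
      have h4 : ((((z ^ 3 : (scalars ι F).subgroupOf P) : P) : GL ι F) : Matrix ι ι F) = ((c : F) ^ 3) • 1 := by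
        rw [Subgroup.coe_pow, Subgroup.coe_pow, Units.val_pow_eq_pow_val, hc, smul_pow, one_pow]
      rw [hz3] at h4
      have h5 : ((c : F) ^ 3) = 1 := by
        apply smul_ext (ι := ι)
        rw [← h4, one_smul]
        rfl
      have h30 : (3 : F) = 0 := by
        have := CharP.cast_eq_zero F 3
        exact_mod_cast this
      have h6 : ((c : F) - 1) ^ 3 = 0 := by linear_combination h5 + ((c : F) - (c : F) ^ 2) * h30
      have h7 : (c : F) = 1 := sub_eq_zero.1 (pow_eq_zero_iff (by norm_num) |>.1 h6)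
      have h8 : z = 1 := by
        apply Subtype.ext
        apply Subtype.ext
        apply Units.ext
        rw [hc, h7, one_smul]
        rfl
      rw [h8, orderOf_one] at hz
      norm_num at hz
    have h4 : Nat.card ((scalars ι F).subgroupOf P) ∈ Nat.divisors 6 := Nat.mem_divisors.2 ⟨hdvd, by norm_num⟩
    have h5 : Nat.divisors 6 = {1, 2, 3, 6} := by decide
    rw [h5] at h4
    simp only [Finset.mem_insert, Finset.mem_singleton] at h4
    rcases h4 with h4 | h4 | h4 | h4 <;> rw [h4] at h2 h3 ⊢ <;> omega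

end Cfsg.Agent.H906.T14
end
end
end
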